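import Cfsg.Agent.Cent32.CentJ
import Mathlib.GroupTheory.SpecificGroups.Alternating.Simple

/-!
The alternating groups of degree eight and nine.
-/

set_option autoImplicit false
set_option maxRecDepth 8000

namespace Cfsg.Agent.Cent32

open Equiv

universe u

theorem nine_tab :
    (cyc 4 0 6 * cyc 5 1 7) * V.toP V.dB * (cyc 4 0 6 * cyc 5 1 7)⁻¹ = V.toP V.sV ∧
    (cyc 4 0 6 * cyc 5 1 7) * V.toP V.dC * (cyc 4 0 6 * cyc 5 1 7)⁻¹ = qP ∧
    V.act V.u1 3 = 2 ∧ Fintype.card {x : Fin 8 // V.toP V.dB x = x} = 4 ∧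
    Fintype.card {x : Fin 8 // ¬ V.toP V.dB x = x} = 4 ∧
    (∀ u : V, u = V.u1 ∨ u = V.u2 ∨ u = V.u3 → V.ty (u * V.dB) ≠ 0 ∧ V.ty (u * V.dB) ≠ 3 ∧ V.ty (u * V.dB) ≠ 5) := by
  decide +kernel

theorem a8_two {i j : Fin 8} (h : i ≠ j) :
    ∃ σ ∈ alternatingGroup (Fin 8), σ 3 = i ∧ σ 2 = j := by
  have h3 : swap 3 i j ≠ 3 := fun e => h (by
    have := congrArg (swap 3 i) e
    rw [swap_apply_self, swap_apply_left] at this
    exact this.symm)
  set π := swap 3 i * swap 2 (swap 3 i j) with hπ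
  have e3 : π 3 = i := by
    rw [hπ, Equiv.Perm.mul_apply, swap_apply_of_ne_of_ne (by decide) (Ne.symm h3), swap_apply_left]
  have e2 : π 2 = j := by rw [hπ, Equiv.Perm.mul_apply, swap_apply_left, swap_apply_self]
  rcases Int.units_eq_one_or (Equiv.Perm.sign π) with hp | hm
  · exact ⟨π, Equiv.Perm.mem_alternatingGroup.2 hp, e3, e2⟩
  · refine ⟨π * swap 0 1, Equiv.Perm.mem_alternatingGroup.2 ?_, ?_, ?_⟩
    · rw [map_mul, hm, Equiv.Perm.sign_swap (by decide)]; rfl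
    · rw [Equiv.Perm.mul_apply, swap_apply_of_ne_of_ne (by decide) (by decide), e3]
    · rw [Equiv.Perm.mul_apply, swap_apply_of_ne_of_ne (by decide) (by decide), e2]

/-- No element of order five commutes with a double transposition in degree eight. -/
theorem five_cent {σ : Equiv.Perm (Fin 8)} (h5 : σ ^ 5 = 1) (hc : σ * V.toP V.dB = V.toP V.dB * σ) :
    σ = 1 := by
  set d := V.toP V.dB
  have hp : ∀ x, d (σ x) = σ x ↔ d x = x := fun x => by
    rw [show d (σ x) = σ (d x) from (DFunLike.congr_fun hc x).symm]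
    exact σ.injective.eq_iff
  have key : ∀ (p : Fin 8 → Prop) [DecidablePred p], Fintype.card {x // p x} = 4 → (∀ x, p (σ x) ↔ p x) →
      ∀ x, p x → σ x = x := by
    intro p _ hcard hp x hx
    set τ := σ.subtypePerm hp
    have t5 : τ ^ 5 = 1 := Equiv.ext fun y => Subtype.ext (by
      simp [τ, h5])
    have t24 : τ ^ 24 = 1 := by
      have := pow_card_eq_one' (x := τ)
      rwa [Nat.card_eq_fintype_card, Fintype.card_perm, hcard] at this
    have h1 : τ = 1 := by simpa using pow_gcd_eq_one.2 ⟨t5, t24⟩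
    exact congrArg Subtype.val (DFunLike.congr_fun h1 ⟨x, hx⟩)
  refine Equiv.ext fun x => ?_
  by_cases hx : d x = x
  · exact key (fun x => d x = x) nine_tab.2.2.2.1 hp x hx
  · exact key (fun x => ¬ d x = x) nine_tab.2.2.2.2.1 (fun y => not_congr (hp y)) x hx

theorem card_a8 : Nat.card (alternatingGroup (Fin 8)) = 20160 := by
  have := two_mul_card_alternatingGroup (α := Fin 8)
  simp only [Fintype.card_perm, Fintype.card_fin] at this
  rw [Nat.card_eq_fintype_card]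
  have h8 : Nat.factorial 8 = 40320 := by decide
  omega

variable {G : Type u} [Group G] [Finite G] {z : G}

namespace Seeded

variable (S : Seeded z)

theorem phi_eq {v : V} (σ : alternatingGroup (Fin 8)) (h : (σ : Equiv.Perm (Fin 8)) = V.toP v) :
    S.phi σ = S.ι v := by
  rw [← S.phi_V v]; exact congrArg S.phi (Subtype.ext h)

theorem ι_range (v : V) : S.ι v ∈ S.phi.range := ⟨_, S.phi_V v⟩

theorem x_range : S.x ∈ S.phi.range := ⟨_, (S.phi_cyc (by decide : Dist 0 1 2)).trans S.T0_base⟩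

theorem cz_range {g : G} (hg : g * z = z * g) : g ∈ S.phi.range := by
  obtain ⟨v, rfl⟩ := S.A.toV.mem_range hg
  exact S.ι_range v

theorem ord_b : orderOf (S.ι V.dB) = 2 := S.A.toV.ord _ (by rw [V.plane_ty.2.2.2.1]; norm_num)

theorem not_conj_b : ¬ IsConj z (S.ι V.dB) := S.not_zconj (Or.inl V.plane_ty.2.2.2.1)

theorem range_classes {t : G} (ht : t ∈ S.phi.range) (h2 : orderOf t = 2) :
    ∃ h ∈ S.phi.range, h * t * h⁻¹ = z ∨ h * t * h⁻¹ = S.ι V.dB := by
  obtain ⟨σ, rfl⟩ := ht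
  rw [orderOf_injective S.phi S.phi_inj, ← Subgroup.orderOf_coe] at h2
  obtain ⟨c, hc, e⟩ := a8_classes σ.2 h2
  refine ⟨S.phi ⟨c, hc⟩, ⟨_, rfl⟩, ?_⟩
  rw [← map_inv, ← map_mul, ← map_mul]
  exact e.imp (fun e => (S.phi_eq _ e).trans S.A.toV.ι_z) (fun e => S.phi_eq _ e)

include S in
/-- The alternating groups of degree eight and nine. -/
theorem eight_or_nine : Nonempty (G ≃* alternatingGroup (Fin 8)) ∨ Nonempty (G ≃* alternatingGroup (Fin 9)) := by
  classical
  set G0 := S.phi.range with hG0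
  set b := S.ι V.dB with hbdef
  have hz := S.A.toV.hz
  have h48 : 48 ∣ Nat.card (S.Xs ⊓ G0 : Subgroup G) := by
    have hW : V.WV.map S.ι ≤ S.Xs ⊓ G0 := le_inf S.Wi_le (by
      rintro _ ⟨v, -, rfl⟩; exact S.ι_range v)
    have h16 := Subgroup.card_dvd_of_le hW
    rw [S.card_Wi] at h16
    have hx : orderOf S.x = 3 := orderOf_eq_prime S.isX.cube S.x_ne_one
    have h3 := Subgroup.orderOf_dvd_natCard (S.Xs ⊓ G0) (show S.x ∈ S.Xs ⊓ G0 from ⟨S.x_Xs, S.x_range⟩)
    rw [hx] at h3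
    exact (Nat.Coprime.mul_dvd_of_dvd_of_dvd (by norm_num : Nat.Coprime 16 3) h16 h3)
  rcases S.card_Xs with hX | hX
  · left
    have hle : S.Xs ≤ G0 := by
      have : (S.Xs ⊓ G0 : Subgroup G) = S.Xs := Subgroup.eq_of_le_of_card_ge inf_le_left
        (by rw [hX]; exact Nat.le_of_dvd Nat.card_pos h48)
      exact this ▸ inf_le_right
    have htop : G0 = ⊤ := all_of_cent G0 hz S.ord_b (S.ι_range _) S.not_conj_b (fun g hg => S.cz_range hg)
      (fun g hg => by
        rcases S.cent_b hg with h | h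
        · exact hle h
        · have := mul_mem (inv_mem (S.ι_range V.sV)) (hle h)
          rwa [inv_mul_cancel_left] at this)
      (fun t ht h2 => S.range_classes ht h2)
    exact ⟨(MulEquiv.ofBijective S.phi ⟨S.phi_inj, MonoidHom.range_eq_top.1 htop⟩).symm⟩
  right
  have hK : Nat.card (S.Xs ⊓ G0 : Subgroup G) = 48 := by
    have hd := Subgroup.card_dvd_of_le (inf_le_left : S.Xs ⊓ G0 ≤ S.Xs)
    rw [hX] at hd
    obtain ⟨k, hk⟩ := h48
    rw [hk] at hd ⊢
    have hk5 : k ∣ 5 := Nat.dvd_of_mul_dvd_mul_left (by norm_num : 0 < 48) hd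
    rcases (Nat.dvd_prime Nat.prime_five).1 hk5 with rfl | rfl
    · rfl
    exfalso
    haveI : Fact (Nat.Prime 5) := ⟨Nat.prime_five⟩
    have heq : (S.Xs ⊓ G0 : Subgroup G) = S.Xs := Subgroup.eq_of_le_of_card_ge inf_le_left (by rw [hX, hk])
    obtain ⟨⟨g, hgX⟩, hg⟩ := exists_prime_orderOf_dvd_card' (G := S.Xs) 5 (by rw [hX]; norm_num)
    rw [Subgroup.orderOf_mk] at hg
    obtain ⟨σ, rfl⟩ := (heq.symm ▸ hgX : g ∈ S.Xs ⊓ G0).2
    rw [orderOf_injective S.phi S.phi_inj] at hg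
    have hc := (S.mem_Xs.1 hgX).1
    rw [← S.phi_V V.dB, ← map_mul, ← map_mul] at hc
    have h1 := five_cent (σ := (σ : Equiv.Perm (Fin 8))) (by
      rw [← Subgroup.coe_pow, ← hg, pow_orderOf_eq_one]; rfl) (congrArg Subtype.val (S.phi_inj hc))
    rw [show σ = 1 from Subtype.ext h1, orderOf_one] at hg
    norm_num at hg
  -- the cosets
  let o : G ⧸ G0 := ((1 : G) : G ⧸ G0)
  have hfix : ∀ t y : G, t • (y : G ⧸ G0) = (y : G ⧸ G0) ↔ y⁻¹ * t * y ∈ G0 := by
    intro t y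
    rw [show t • (y : G ⧸ G0) = ((t * y : G) : G ⧸ G0) from rfl, QuotientGroup.eq,
      show (t * y)⁻¹ * y = (y⁻¹ * t * y)⁻¹ by group, inv_mem_iff]
  have hso : ∀ y : G, (y : G ⧸ G0) = y • o := fun y => by
    show _ = ((y * 1 : G) : G ⧸ G0); rw [mul_one]
  have ho : ∀ g : G, g • o = o ↔ g ∈ G0 := fun g => by rw [hfix, inv_one, one_mul, mul_one]
  have hzfix : ∀ t ∈ G0, IsConj z t → ∀ q : G ⧸ G0, t • q = q → q = o := by
    intro t ht hc q hq
    induction q using QuotientGroup.induction_on with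
    | H y =>
      have hu := (hfix t y).1 hq
      have ho2 : orderOf t = 2 := Invol.orderOf_eq_two_of_isConj hc hz
      obtain ⟨a, ha, ea | ea⟩ := S.range_classes ht ho2
      swap
      · exact (S.not_conj_b (hc.trans (isConj_iff.2 ⟨a, ea⟩))).elim
      have hcu : IsConj t (y⁻¹ * t * y) := isConj_iff.2 ⟨y⁻¹, by rw [inv_inv]⟩
      obtain ⟨h, hh, eh | eh⟩ := S.range_classes hu (Invol.orderOf_eq_two_of_isConj hcu ho2)
      swap
      · exact (S.not_conj_b ((hc.trans hcu).trans (isConj_iff.2 ⟨h, eh⟩))).elim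
      have hm : a * y * h⁻¹ ∈ G0 := S.cz_range (by
        calc a * y * h⁻¹ * z = a * y * h⁻¹ * (h * (y⁻¹ * t * y) * h⁻¹) := by rw [eh]
          _ = a * t * a⁻¹ * (a * y * h⁻¹) := by group
          _ = z * (a * y * h⁻¹) := by rw [ea])
      have := mul_mem (mul_mem (inv_mem ha) hm) hh
      rw [show a⁻¹ * (a * y * h⁻¹) * h = y by group] at this
      rw [hso]; exact (ho y).2 this
  have hbG : b ∈ G0 := S.ι_range _
  have hsX : ∀ k ∈ S.Xs, S.ι V.sV * k * S.ι V.sV ∈ S.Xs := by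
    intro k hk
    obtain ⟨k1, k2⟩ := S.mem_Xs.1 hk
    have cs : Commute (S.ι V.sV) b := S.A.toV.map_comm V.W_basic.2.2.2.2.2.2.2.1
    have c1 : Commute (S.ι V.sV * k * S.ι V.sV) b := (cs.mul_left k1).mul_left cs
    refine S.mem_Xs.2 ⟨c1.eq, ?_⟩
    have si : (S.ι V.sV)⁻¹ = S.ι V.sV := inv_eq_of_mul_eq_one_right S.s_sq
    have c2 : Commute (S.ι V.sV * k * (S.ι V.sV)⁻¹) (S.ι V.sV * S.ι V.dC * (S.ι V.sV)⁻¹) :=
      (show Commute k _ from k2).map (MulAut.conj (S.ι V.sV)).toMonoidHom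
    rw [S.s_c, si] at c2
    have := c2.mul_right c1.inv_right
    rw [mul_inv_cancel_right] at this
    exact this.eq
  have horb : ∀ q : G ⧸ G0, b • q = q → q ∈ MulAction.orbit S.Xs o := by
    intro q hq
    induction q using QuotientGroup.induction_on with
    | H y =>
      have hu := (hfix b y).1 hq
      have hcu : IsConj b (y⁻¹ * b * y) := isConj_iff.2 ⟨y⁻¹, by rw [inv_inv]⟩
      obtain ⟨h, hh, eh | eh⟩ := S.range_classes hu (Invol.orderOf_eq_two_of_isConj hcu S.ord_b)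
      · exact (S.not_conj_b (hcu.trans (isConj_iff.2 ⟨h, eh⟩)).symm).elim
      have hy : (y : G ⧸ G0) = (y * h⁻¹) • o := by
        rw [hso, mul_smul, (ho h⁻¹).2 (inv_mem hh)]
      have hJ : y * h⁻¹ * b = b * (y * h⁻¹) := by
        calc y * h⁻¹ * b = y * h⁻¹ * (h * (y⁻¹ * b * y) * h⁻¹) := by rw [eh]
          _ = b * (y * h⁻¹) := by group
      rw [hy]
      rcases S.cent_b hJ with hk | hk
      · exact ⟨⟨_, hk⟩, rfl⟩
      · refine ⟨⟨_, hsX _ hk⟩, ?_⟩
        show (S.ι V.sV * (S.ι V.sV * (y * h⁻¹)) * S.ι V.sV) • o = _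
        rw [← mul_assoc (S.ι V.sV) (S.ι V.sV), S.s_sq, one_mul, mul_smul, (ho _).2 (S.ι_range _)]
  have hBfix : ∀ v ∈ V.BV, ∀ q : G ⧸ G0, b • q = q → S.ι v • q = q := by
    intro v hv q hq
    obtain ⟨⟨k, hk⟩, rfl⟩ := horb q hq
    show S.ι v • (k • o) = k • o
    rw [← mul_smul, ← S.B_cent hk hv, mul_smul, (ho _).2 (S.ι_range v)]
  have hfb : ∀ k ∈ S.Xs, b • (k • o) = k • o := fun k hk => by
    rw [← mul_smul, ← (S.mem_Xs.1 hk).1, mul_smul, (ho _).2 hbG]
  let F4 := {q : G ⧸ G0 // b • q = q ∧ q ≠ o}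
  have hF4 : Nat.card F4 = 4 := by
    have h5 : (MulAction.orbit S.Xs o).ncard = 5 := by
      rw [← MulAction.index_stabilizer]
      have hst : MulAction.stabilizer S.Xs o = (S.Xs ⊓ G0).subgroupOf S.Xs := by
        ext k
        rw [MulAction.mem_stabilizer_iff]
        exact (ho k.1).trans ⟨fun h => ⟨k.2, h⟩, fun h => h.2⟩
      rw [hst]
      have h1 := ((S.Xs ⊓ G0).subgroupOf S.Xs).card_mul_index
      rw [Nat.card_congr (Subgroup.subgroupOfEquivOfLe inf_le_left).toEquiv, hK, hX] at h1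
      omega
    have hset : {q : G ⧸ G0 | b • q = q ∧ q ≠ o} = MulAction.orbit S.Xs o \ {o} := by
      ext q
      exact ⟨fun h => ⟨horb q h.1, h.2⟩, fun h => ⟨by obtain ⟨k, rfl⟩ := h.1; exact hfb _ k.2, h.2⟩⟩
    show Nat.card ↥{q : G ⧸ G0 | b • q = q ∧ q ≠ o} = 4
    rw [Nat.card_coe_set_eq, hset, Set.ncard_sdiff_singleton_of_mem (MulAction.mem_orbit_self o), h5]
  have stay : ∀ g ∈ G0, g * b = b * g → ∀ q : G ⧸ G0, b • q = q ∧ q ≠ o → b • (g • q) = g • q ∧ g • q ≠ o := by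
    intro g hg hc q hq
    refine ⟨by rw [← mul_smul, ← hc, mul_smul, hq.1], fun e => hq.2 ?_⟩
    rw [← inv_smul_smul g q, e, (ho _).2 (inv_mem hg)]
  -- the point
  let xF : Equiv.Perm F4 :=
    { toFun := fun q => ⟨S.x • q.1, stay _ S.x_range (S.mem_Xs.1 S.x_Xs).1 q.1 q.2⟩
      invFun := fun q => ⟨S.x⁻¹ • q.1, stay _ (inv_mem S.x_range)
        ((show Commute S.x b from (S.mem_Xs.1 S.x_Xs).1).inv_left.eq) q.1 q.2⟩
      left_inv := fun q => Subtype.ext (inv_smul_smul _ _)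
      right_inv := fun q => Subtype.ext (smul_inv_smul _ _) }
  haveI : Fintype F4 := Fintype.ofFinite _
  haveI : Fact (Nat.Prime 3) := ⟨Nat.prime_three⟩
  obtain ⟨⟨p, hp⟩, hxp'⟩ := Equiv.Perm.exists_fixed_point_of_prime (p := 3) (n := 1) (σ := xF)
    (by rw [← Nat.card_eq_fintype_card, hF4]; norm_num) (Equiv.ext fun q => Subtype.ext (by
      show S.x • S.x • S.x • q.1 = q.1
      rw [← mul_smul, ← mul_smul, show S.x * S.x * S.x = S.x ^ 3 by simp only [pow_succ, pow_zero, one_mul],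
        S.isX.cube, one_smul]))
  have hxp : S.x • p = p := congrArg Subtype.val hxp'
  have hub : ∀ u, u = V.u1 ∨ u = V.u2 ∨ u = V.u3 → u * V.dB = V.dB * u := by
    rintro u (rfl | rfl | rfl)
    exacts [V.W_basic.1, V.W_basic.2.2.1, V.W_basic.2.2.2.2.1]
  have hU : ∀ u, u = V.u1 ∨ u = V.u2 ∨ u = V.u3 → S.ι u • p ≠ p := by
    intro u hu e
    obtain ⟨t0, t3, t5⟩ := nine_tab.2.2.2.2.2 u hu
    refine hp.2 (hzfix _ (S.ι_range (u * V.dB)) ((S.good _ t0).2 ⟨t3, t5⟩) p ?_)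
    rw [map_mul, mul_smul, hp.1, e]
  let four : Fin 4 → V := ![1, V.u1, V.u2, V.u3]
  have hfour : ∀ i, four i * V.dB = V.dB * four i := by
    intro i; fin_cases i
    · show (1 : V) * V.dB = V.dB * 1; rw [one_mul, mul_one]
    · exact hub _ (Or.inl rfl)
    · exact hub _ (Or.inr (Or.inl rfl))
    · exact hub _ (Or.inr (Or.inr rfl))
  let fF : Fin 4 → F4 := fun i => ⟨S.ι (four i) • p, stay _ (S.ι_range _) (S.A.toV.map_comm (hfour i)) p hp⟩
  have finj : Function.Injective fF := by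
    intro i j e
    have e' : S.ι (four i) • p = S.ι (four j) • p := congrArg Subtype.val e
    have key : ∀ i j : Fin 4, i ≠ j → (four i)⁻¹ * four j = V.u1 ∨ (four i)⁻¹ * four j = V.u2 ∨
        (four i)⁻¹ * four j = V.u3 := by
      simp only [four]; decide +kernel
    by_contra hne
    refine hU _ (key i j hne) ?_
    rw [map_mul, mul_smul, ← e', map_inv, inv_smul_smul]
  have hcov : ∀ q : G ⧸ G0, b • q = q → q ≠ o → ∃ i, S.ι (four i) • p = q := fun q h1 h2 => by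
    obtain ⟨i, hi⟩ := ((Fintype.bijective_iff_injective_and_card fF).2
      ⟨finj, by rw [Fintype.card_fin, ← Nat.card_eq_fintype_card, hF4]⟩).2 ⟨q, h1, h2⟩
    exact ⟨i, congrArg Subtype.val hi⟩
  have hxu : ∀ q : G ⧸ G0, b • q = q → q ≠ o → S.x • q = q → q = p := by
    intro q h1 h2 h3
    obtain ⟨i, rfl⟩ := hcov q h1 h2
    have mv : ∀ {u v : V}, S.x * S.ι u * S.x⁻¹ = S.ι v → S.x • (S.ι u • p) = S.ι v • p := fun {u v} e => by
      calc S.x • (S.ι u • p) = S.x • S.ι u • S.x⁻¹ • p := by rw [inv_smul_eq_iff.2 hxp.symm]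
        _ = (S.x * S.ι u * S.x⁻¹) • p := by rw [mul_smul, mul_smul]
        _ = _ := by rw [e]
    have bad : ∀ {u v : V}, S.ι v • p = S.ι u • p →
        (u⁻¹ * v = V.u1 ∨ u⁻¹ * v = V.u2 ∨ u⁻¹ * v = V.u3) → False := fun {u v} e hw =>
      hU _ hw (by rw [map_mul, mul_smul, e, map_inv, inv_smul_smul])
    fin_cases i
    · show S.ι 1 • p = p
      rw [map_one, one_smul]
    · exact (bad ((mv S.isX.h1).symm.trans h3) (by decide +kernel)).elim
    · exact (bad ((mv S.isX.h2).symm.trans h3) (by decide +kernel)).elim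
    · exact (bad ((mv (VEmb.IsX.h3 _ S.isX)).symm.trans h3) (by decide +kernel)).elim
  have hsp : S.ι V.sV • p = p := by
    obtain ⟨s1, s2⟩ := stay _ (S.ι_range V.sV) (S.A.toV.map_comm V.W_basic.2.2.2.2.2.2.2.1) p hp
    refine hxu _ s1 s2 ?_
    have e : S.x * S.ι V.sV = S.ι V.sV * S.x⁻¹ := by
      have h := S.invS
      calc S.x * S.ι V.sV = (S.x⁻¹)⁻¹ * S.ι V.sV := by rw [inv_inv]
        _ = (S.ι V.sV * S.x * (S.ι V.sV)⁻¹)⁻¹ * S.ι V.sV := by rw [← h]
        _ = S.ι V.sV * S.x⁻¹ := by group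
    rw [← mul_smul, e, mul_smul, inv_smul_eq_iff.2 hxp.symm]
  let D : Subgroup (Equiv.Perm (Fin 8)) :=
    ((MulAction.stabilizer G p).comap S.phi).map (alternatingGroup (Fin 8)).subtype
  have memD : ∀ {σ : Equiv.Perm (Fin 8)} (h : σ ∈ alternatingGroup (Fin 8)), S.phi ⟨σ, h⟩ • p = p → σ ∈ D :=
    fun {σ} h e => ⟨⟨σ, h⟩, e, rfl⟩
  have hgen : ∀ i, triGen i ∈ D := by
    obtain ⟨n1, n2, -⟩ := nine_tab
    intro i
    fin_cases i
    · show V.toP V.dB ∈ D
      exact memD (Equiv.Perm.mem_alternatingGroup.2 (V_even V.dB)) (by rw [S.phi_V]; exact hp.1)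
    · show V.toP V.dC ∈ D
      exact memD (Equiv.Perm.mem_alternatingGroup.2 (V_even V.dC))
        (by rw [S.phi_V]; exact hBfix _ (Or.inr (Or.inr (Or.inl rfl))) p hp.1)
    · show cyc 0 1 2 ∈ D
      exact memD (cyc_even (by decide : Dist 0 1 2)) (by rw [S.phi_cyc (by decide : Dist 0 1 2), S.T0_base]; exact hxp)
    · show qP ∈ D
      have hρ : cyc 4 0 6 * cyc 5 1 7 ∈ alternatingGroup (Fin 8) :=
        mul_mem (cyc_even (by decide)) (cyc_even (by decide))
      let ρ : alternatingGroup (Fin 8) := ⟨_, hρ⟩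
      set R := S.phi ρ
      have hRb : R * b * R⁻¹ = S.ι V.sV := by
        rw [hbdef, ← S.phi_V V.dB, ← map_inv, ← map_mul, ← map_mul]
        exact S.phi_eq _ n1
      have hq : qP ∈ alternatingGroup (Fin 8) := by
        rw [← n2]; exact mul_mem (mul_mem hρ (Equiv.Perm.mem_alternatingGroup.2 (V_even V.dC))) (inv_mem hρ)
      refine memD hq ?_
      have hRc : R * S.ι V.dC * R⁻¹ = S.phi ⟨qP, hq⟩ := by
        rw [← S.phi_V V.dC, ← map_inv, ← map_mul, ← map_mul]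
        exact congrArg S.phi (Subtype.ext n2)
      have h1 : b • (R⁻¹ • p) = R⁻¹ • p := by
        rw [← mul_smul, show b * R⁻¹ = R⁻¹ * (R * b * R⁻¹) by group, hRb, mul_smul, hsp]
      rw [← hRc, mul_smul, mul_smul, hBfix _ (Or.inr (Or.inr (Or.inl rfl))) _ h1, smul_inv_smul]
  have hA7 : ∀ σ : alternatingGroup (Fin 8), (σ : Equiv.Perm (Fin 8)) 3 = 3 → S.phi σ • p = p := by
    intro σ h3
    obtain ⟨σ', hσ', e⟩ := fix_three_le D hgen σ.2 h3
    rw [← show σ' = σ from Subtype.ext e]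
    exact hσ'
  have hstab : ∀ σ : alternatingGroup (Fin 8), S.phi σ • p = p → (σ : Equiv.Perm (Fin 8)) 3 = 3 := by
    intro σ hσ
    by_contra hne
    obtain ⟨π, hπ, p3, p2⟩ := a8_two (i := 3) (j := (σ : Equiv.Perm (Fin 8)) 3) (Ne.symm hne)
    let π' : alternatingGroup (Fin 8) := ⟨π, hπ⟩
    let u : alternatingGroup (Fin 8) := ⟨V.toP V.u1, Equiv.Perm.mem_alternatingGroup.2 (V_even V.u1)⟩
    refine hU _ (Or.inl rfl) ?_
    have hπp : S.phi π'⁻¹ • p = p := hA7 _ (by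
      show π⁻¹ 3 = 3
      rw [Equiv.Perm.inv_eq_iff_eq, p3])
    have hrest : S.phi ((π'⁻¹ * σ)⁻¹ * u) • p = p := hA7 _ (by
      show (π⁻¹ * (σ : Equiv.Perm (Fin 8)))⁻¹ (V.act V.u1 3) = 3
      rw [nine_tab.2.2.1, Equiv.Perm.inv_eq_iff_eq, Equiv.Perm.mul_apply, eq_comm, Equiv.Perm.inv_eq_iff_eq, p2])
    have e : S.phi (π'⁻¹ * σ * ((π'⁻¹ * σ)⁻¹ * u)) • p = p := by
      rw [map_mul, mul_smul, hrest, map_mul, mul_smul, hσ, hπp]
    rwa [mul_inv_cancel_left, S.phi_V] at e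
  have hex : ∀ i : Fin 8, ∃ σ : alternatingGroup (Fin 8), (σ : Equiv.Perm (Fin 8)) 3 = i := fun i => by
    obtain ⟨j, hj⟩ := exists_ne i
    obtain ⟨σ, hσ, e, -⟩ := a8_two hj.symm
    exact ⟨⟨σ, hσ⟩, e⟩
  choose rep hrep using hex
  let qf : Fin 8 → G ⧸ G0 := fun i => S.phi (rep i) • p
  have hqf : ∀ σ : alternatingGroup (Fin 8), S.phi σ • p = qf ((σ : Equiv.Perm (Fin 8)) 3) := by
    intro σ
    set i := (σ : Equiv.Perm (Fin 8)) 3 with hi
    have := hA7 ((rep i)⁻¹ * σ) (by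
      show (rep i : Equiv.Perm (Fin 8))⁻¹ ((σ : Equiv.Perm (Fin 8)) 3) = 3
      rw [Equiv.Perm.inv_eq_iff_eq, hrep])
    rwa [map_mul, map_inv, mul_smul, inv_smul_eq_iff] at this
  have qinj : Function.Injective qf := by
    intro i j e
    have := hstab ((rep j)⁻¹ * rep i) (by rw [map_mul, map_inv, mul_smul, inv_smul_eq_iff]; exact e)
    change (rep j : Equiv.Perm (Fin 8))⁻¹ ((rep i : Equiv.Perm (Fin 8)) 3) = 3 at this
    rw [Equiv.Perm.inv_eq_iff_eq, hrep, hrep] at this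
    exact this
  have hqo : o ∉ Set.range qf := by
    rintro ⟨i, e⟩
    refine hp.2 ?_
    rw [← inv_smul_smul (S.phi (rep i)) p, show S.phi (rep i) • p = o from e, (ho _).2 (inv_mem ⟨_, rfl⟩)]
  -- adjacency
  let Nb : G ⧸ G0 → Set (G ⧸ G0) := fun q =>
    {r | r ≠ q ∧ ∃ g : G, (g * b * g⁻¹) • q = q ∧ (g * b * g⁻¹) • r = r}
  have hgfix : ∀ (g : G) (q : G ⧸ G0), b • q = q → (g * b * g⁻¹) • (g • q) = g • q := fun g q h => by
    rw [← mul_smul, inv_mul_cancel_right, mul_smul, h]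
  have hNo : Nb o = Set.range qf := by
    ext r
    constructor
    · rintro ⟨hr, g, g1, g2⟩
      have hmem := (ho _).1 g1
      obtain ⟨h, hh, eh | eh⟩ := S.range_classes hmem (by rw [Invol.orderOf_conj, S.ord_b])
      · exact (S.not_conj_b ((isConj_iff.2 ⟨g, rfl⟩ : IsConj b (g * b * g⁻¹)).trans
          (isConj_iff.2 ⟨h, eh⟩)).symm).elim
      have hb' : b • (h • r) = h • r := by
        rw [show b = h * (g * b * g⁻¹) * h⁻¹ from eh.symm, ← mul_smul, inv_mul_cancel_right, mul_smul, g2]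
      obtain ⟨i, hi⟩ := hcov (h • r) hb' (fun e => hr (by rw [← inv_smul_smul h r, e, (ho _).2 (inv_mem hh)]))
      obtain ⟨σ, rfl⟩ := hh
      refine ⟨((σ⁻¹ * ⟨V.toP (four i), Equiv.Perm.mem_alternatingGroup.2 (V_even _)⟩ :
        alternatingGroup (Fin 8)) : Equiv.Perm (Fin 8)) 3, ?_⟩
      rw [← hqf, map_mul, map_inv, mul_smul, S.phi_V, hi, inv_smul_smul]
    · rintro ⟨i, rfl⟩
      refine ⟨fun e => hqo ⟨i, e⟩, S.phi (rep i), (ho _).2 (mul_mem (mul_mem ⟨_, rfl⟩ hbG) (inv_mem ⟨_, rfl⟩)),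
        hgfix _ p hp.1⟩
  set Om : Set (G ⧸ G0) := insert o (Set.range qf)
  have hclique : ∀ r ∈ Om, ∀ r' ∈ Om, r ≠ r' → r' ∈ Nb r := by
    have sym : ∀ r r', r' ∈ Nb r → r ∈ Nb r' := fun r r' ⟨h, g, g1, g2⟩ => ⟨h.symm, g, g2, g1⟩
    rintro r (rfl | ⟨i, rfl⟩) r' (rfl | ⟨j, rfl⟩) hne
    · exact absurd rfl hne
    · rw [hNo]; exact ⟨j, rfl⟩
    · exact sym _ _ (by rw [hNo]; exact ⟨i, rfl⟩)
    · obtain ⟨σ, hσ, e3, e2⟩ := a8_two (fun e => hne (congrArg qf e))
      have hu : b • (S.ι V.u1 • p) = S.ι V.u1 • p :=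
        (stay _ (S.ι_range _) (S.A.toV.map_comm (hub _ (Or.inl rfl))) p hp).1
      refine ⟨hne.symm, S.phi ⟨σ, hσ⟩, ?_, ?_⟩
      · have := hgfix (S.phi ⟨σ, hσ⟩) p hp.1
        rw [hqf] at this
        simp only [e3] at this
        exact this
      · have := hgfix (S.phi ⟨σ, hσ⟩) _ hu
        rw [← mul_smul (S.phi ⟨σ, hσ⟩) (S.ι V.u1), ← S.phi_V V.u1, ← map_mul, hqf] at this
        change _ = qf (σ (V.act V.u1 3)) at this
        rw [nine_tab.2.2.1, e2] at this
        convert this using 2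
        show qf j = qf (σ (V.act V.u1 3))
        rw [nine_tab.2.2.1, e2]
  have hOm : Om.ncard = 9 := by
    rw [Set.ncard_insert_of_notMem hqo (Set.toFinite _), Set.ncard_range_of_injective qinj, Nat.card_fin]
  have hinv : ∀ g : G, g • o ∈ Om → (fun q => g • q) '' Om = Om := by
    intro g hg
    have hN : (fun q => g • q) '' Nb o = Nb (g • o) := by
      ext r
      constructor
      · rintro ⟨q, ⟨hq, k, k1, k2⟩, rfl⟩
        refine ⟨fun e => hq (MulAction.injective g e), g * k, ?_, ?_⟩ <;>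
          rw [show g * k * b * (g * k)⁻¹ = g * (k * b * k⁻¹) * g⁻¹ by group, mul_smul, inv_smul_smul, mul_smul]
        · rw [k1]
        · rw [k2]
      · rintro ⟨hr, k, k1, k2⟩
        refine ⟨g⁻¹ • r, ⟨fun e => hr (inv_smul_eq_iff.1 e), g⁻¹ * k, ?_, ?_⟩, smul_inv_smul g r⟩ <;>
          rw [show g⁻¹ * k * b * (g⁻¹ * k)⁻¹ = g⁻¹ * (k * b * k⁻¹) * g by group, mul_smul]
        · rw [mul_smul, k1, inv_smul_smul]
        · rw [mul_smul, smul_inv_smul, k2]
    have h1 : Om \ {g • o} ⊆ Nb (g • o) := fun r hr => hclique _ hg r hr.1 (Ne.symm hr.2)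
    have h2 : (Nb (g • o)).ncard = 8 := by
      rw [← hN, Set.ncard_image_of_injective _ (MulAction.injective g), hNo,
        Set.ncard_range_of_injective qinj, Nat.card_fin]
    have h3 : (Om \ {g • o}).ncard = 8 := by rw [Set.ncard_sdiff_singleton_of_mem hg, hOm]
    have h4 : Om \ {g • o} = Nb (g • o) := Set.eq_of_subset_of_ncard_le h1 (by rw [h2, h3]) (Set.toFinite _)
    rw [Set.image_insert_eq, ← hNo, hN, ← h4, Set.insert_sdiff_singleton, Set.insert_eq_of_mem hg]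
  let H : Subgroup G :=
    { carrier := {g | g • o ∈ Om}
      one_mem' := by show (1 : G) • o ∈ Om; rw [one_smul]; exact Set.mem_insert _ _
      mul_mem' := fun {g h} hg hh => by
        show (g * h) • o ∈ Om
        rw [mul_smul, ← hinv g hg]; exact ⟨_, hh, rfl⟩
      inv_mem' := fun {g} hg => by
        show g⁻¹ • o ∈ Om
        have h := Set.mem_insert o (Set.range qf)
        change o ∈ Om at h
        rw [← hinv g hg] at h
        obtain ⟨r, hr, e⟩ := h
        rwa [← e, inv_smul_smul] }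
  have hG0H : G0 ≤ H := fun g hg => by
    show g • o ∈ Om; rw [(ho g).2 hg]; exact Set.mem_insert _ _
  have hHtop : H = ⊤ := by
    refine all_of_cent H hz S.ord_b (hG0H hbG) S.not_conj_b (fun g hg => hG0H (S.cz_range hg)) ?_ ?_
    · intro g hg
      show g • o ∈ Om
      by_cases e : g • o = o
      · exact Or.inl e
      · obtain ⟨i, hi⟩ := hcov (g • o) (by rw [← mul_smul, ← hg, mul_smul, (ho _).2 hbG]) e
        rw [← hi, ← S.phi_V (four i), hqf]
        exact Or.inr ⟨_, rfl⟩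
    · intro t ht h2
      have htOm := hinv t ht
      let tp : Equiv.Perm ↥Om :=
        { toFun := fun r => ⟨t • r.1, (Set.ext_iff.1 htOm _).1 ⟨r.1, r.2, rfl⟩⟩
          invFun := fun r => ⟨t • r.1, (Set.ext_iff.1 htOm _).1 ⟨r.1, r.2, rfl⟩⟩
          left_inv := fun r => Subtype.ext (by
            show t • t • r.1 = r.1; rw [← mul_smul, Invol.mul_self_eq_one h2, one_smul])
          right_inv := fun r => Subtype.ext (by
            show t • t • r.1 = r.1; rw [← mul_smul, Invol.mul_self_eq_one h2, one_smul]) }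
      haveI : Fintype ↥Om := Fintype.ofFinite _
      haveI : Fact (Nat.Prime 2) := ⟨Nat.prime_two⟩
      obtain ⟨⟨r, hr⟩, hfr⟩ := Equiv.Perm.exists_fixed_point_of_prime (p := 2) (n := 1) (σ := tp)
        (by rw [← Nat.card_eq_fintype_card, Nat.card_coe_set_eq, hOm]; norm_num)
        (Equiv.ext fun r => tp.left_inv r)
      obtain ⟨g, rfl⟩ := QuotientGroup.mk_surjective r
      have hgH : g ∈ H := by show g • o ∈ Om; rwa [← hso]
      have hmem := (hfix t g).1 (congrArg Subtype.val hfr)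
      obtain ⟨h, hh, e⟩ := S.range_classes hmem (by
        rw [show g⁻¹ * t * g = g⁻¹ * t * g⁻¹⁻¹ by rw [inv_inv], Invol.orderOf_conj, h2])
      refine ⟨h * g⁻¹, mul_mem (hG0H hh) (inv_mem hgH), ?_⟩
      rw [show h * g⁻¹ * t * (h * g⁻¹)⁻¹ = h * (g⁻¹ * t * g) * h⁻¹ by group]
      exact e
  have hcardΩ : Nat.card (G ⧸ G0) = 9 := by
    rw [← hOm, ← Set.ncard_univ]
    congr 1
    refine (Set.eq_univ_of_forall fun q => ?_).symm
    obtain ⟨g, rfl⟩ := QuotientGroup.mk_surjective q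
    rw [hso]
    exact (hHtop.symm ▸ Subgroup.mem_top g : g ∈ H)
  have hcardG : Nat.card G = 181440 := by
    rw [Subgroup.card_eq_card_quotient_mul_card_subgroup G0, hcardΩ, hG0,
      ← Nat.card_congr (MonoidHom.ofInjective S.phi_inj).toEquiv, card_a8]
  haveI : Fintype (G ⧸ G0) := Fintype.ofFinite _
  let e9 : G ⧸ G0 ≃ Fin 9 := Fintype.equivFinOfCardEq (by rw [← Nat.card_eq_fintype_card, hcardΩ])
  let act : G →* Equiv.Perm (Fin 9) := e9.permCongrHom.toMonoidHom.comp (MulAction.toPermHom G (G ⧸ G0))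
  have hinj : Function.Injective act := by
    refine e9.permCongrHom.injective.comp ((injective_iff_map_eq_one _).2 fun g hg => ?_)
    haveI := alternatingGroup.isSimpleGroup (α := Fin 8) (by simp)
    set K := (MulAction.toPermHom G (G ⧸ G0)).ker
    obtain ⟨σ, rfl⟩ := (ho g).1 (DFunLike.congr_fun hg o)
    rcases Subgroup.Normal.eq_bot_or_eq_top (inferInstance : (K.comap S.phi).Normal) with e | e
    · have : σ ∈ K.comap S.phi := hg
      rw [e, Subgroup.mem_bot] at this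
      rw [this, map_one]
    · exfalso
      have hzK : S.phi ⟨V.toP V.zV, Equiv.Perm.mem_alternatingGroup.2 (V_even _)⟩ ∈ K := by
        rw [← Subgroup.mem_comap, e]; exact Subgroup.mem_top _
      rw [S.phi_V, S.A.toV.ι_z] at hzK
      exact hp.2 (hzfix z (S.cz_range rfl) (IsConj.refl z) p (DFunLike.congr_fun hzK p))
  have hidx : act.range.index = 2 := by
    have h := act.range.card_mul_index
    rw [← Nat.card_congr (MonoidHom.ofInjective hinj).toEquiv, hcardG, Nat.card_perm, Nat.card_fin,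
      show Nat.factorial 9 = 362880 by decide] at h
    omega
  exact ⟨(MonoidHom.ofInjective hinj).trans
    (MulEquiv.subgroupCongr (Equiv.Perm.eq_alternatingGroup_of_index_eq_two hidx))⟩

end Seeded

end Cfsg.Agent.Cent32
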