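import Cfsg.Agent.Cent32.AgreeTab
import Mathlib.GroupTheory.SpecificGroups.Alternating

/-!
Checked facts about three-cycles and parity.
-/

set_option autoImplicit false
set_option maxRecDepth 8000

namespace Cfsg.Agent.Cent32

open Equiv

/-- The cycle `a → b → c → a`. -/
def cyc (a b c : Fin 8) : Equiv.Perm (Fin 8) := swap a b * swap b c

theorem cyc_conj (π : Equiv.Perm (Fin 8)) (a b c : Fin 8) : π * cyc a b c * π⁻¹ = cyc (π a) (π b) (π c) := by
  rw [cyc, cyc, Equiv.swap_apply_apply, Equiv.swap_apply_apply]; group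

theorem cyc_apply : ∀ a b c : Fin 8, Dist a b c → cyc a b c a = b ∧ cyc a b c b = c ∧ cyc a b c c = a ∧
    ∀ y, y ≠ a → y ≠ b → y ≠ c → cyc a b c y = y := by
  decide +kernel

theorem cyc_even {a b c : Fin 8} (h : Dist a b c) : cyc a b c ∈ alternatingGroup (Fin 8) := by
  rw [Equiv.Perm.mem_alternatingGroup, cyc, map_mul, Equiv.Perm.sign_swap h.1, Equiv.Perm.sign_swap h.2.1]
  rfl

theorem fix_of_triples : ∀ a y : Fin 8, (∀ b c, Dist a b c → y = a ∨ y = b ∨ y = c) → y = a := by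
  decide +kernel

theorem V_even : ∀ v : V, Equiv.Perm.sign (V.toP v) = 1 := by decide +kernel

theorem cyc_gen : ∀ x : Fin 8, ((hP * (tau * hP⁻¹ * tau)) * (hP * (tau * hP⁻¹ * tau))) x = cyc 0 1 2 x := by
  decide +kernel

end Cfsg.Agent.Cent32
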