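import Cfsg.Agent.Cent32.Data
import Cfsg.Agent.Compute.Classes

/-!
A computable model of the centralizer of a fixed-point-free involution of the alternating group of
degree eight, with its action on the eight points.
-/

set_option autoImplicit false
set_option maxRecDepth 8000

namespace Cfsg.Agent.Cent32

open Cfsg.Agent.Compute

/-- The product of two indices. -/
def vmul (i j : ℕ) : ℕ :=
  Nat.add (Nat.mul 24 (Nat.xor (i / 24) (getField 3 vaTab (8 * (i % 24) + j / 24))))
    (getField 5 vsTab (24 * (i % 24) + j % 24))

/-- The group of order 192. -/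
structure V where
  v : Fin 192
  deriving DecidableEq

namespace V

/-- The underlying index. -/
def equivFin : V ≃ Fin 192 where
  toFun x := x.v
  invFun i := ⟨i⟩
  left_inv _ := rfl
  right_inv _ := rfl

instance : Fintype V := Fintype.ofEquiv _ equivFin.symm

theorem card : Nat.card V = 192 := by
  rw [Nat.card_congr equivFin]; simp

/-- The element with a given index. -/
def mk' (n : ℕ) : V := ⟨⟨n % 192, Nat.mod_lt _ (by norm_num)⟩⟩

instance : Mul V := ⟨fun x y => mk' (vmul x.v.1 y.v.1)⟩

instance : One V := ⟨mk' 0⟩

instance : Inv V := ⟨fun x => mk' (getField 8 vivTab x.v.1)⟩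

/-- The image of a point. -/
def act (x : V) (p : Fin 8) : Fin 8 :=
  ⟨getField 3 vpTab (8 * x.v.1 + p.1) % 8, Nat.mod_lt _ (by norm_num)⟩

theorem act_inv : ∀ (x : V) (p : Fin 8), act x⁻¹ (act x p) = p ∧ act x (act x⁻¹ p) = p := by
  decide +kernel

theorem act_check : allBelow 192 (fun i => allBelow 192 (fun j => allBelow 8 (fun p =>
    Nat.beq (getField 3 vpTab (8 * (vmul i j % 192) + p))
      (getField 3 vpTab (8 * i + getField 3 vpTab (8 * j + p) % 8) )))) = true := by
  decide +kernel

theorem act_mul (x y : V) (p : Fin 8) : act (x * y) p = act x (act y p) := by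
  have h := allBelow_eq_true.1 (allBelow_eq_true.1 (allBelow_eq_true.1 act_check x.v.1 x.v.2)
    y.v.1 y.v.2) p.1 p.2
  exact Fin.ext (congrArg (· % 8) (Nat.eq_of_beq_eq_true h))

theorem act_faithful : ∀ x : V, (∀ p, act x p = p) → x = 1 := by decide +kernel

theorem act_one : ∀ p, act 1 p = p := by decide +kernel

theorem cancel : ∀ x : V, x⁻¹ * x = 1 ∧ x * 1 = x := by decide +kernel

/-- The permutation of the eight points. -/
def toP (x : V) : Equiv.Perm (Fin 8) where
  toFun := act x
  invFun := act x⁻¹
  left_inv p := (act_inv x p).1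
  right_inv p := (act_inv x p).2

theorem toP_mul (x y : V) : toP (x * y) = toP x * toP y := Equiv.ext (act_mul x y)

theorem toP_one : toP 1 = 1 := Equiv.ext act_one

theorem cancel_check : allBelow 192 (fun i => allBelow 192 (fun j =>
    Nat.beq (vmul j (vmul (getField 8 vivTab j % 192) i % 192) % 192) i)) = true := by
  decide +kernel

theorem toP_inj : Function.Injective toP := by
  intro x y h
  have h1 : y⁻¹ * x = 1 := act_faithful _ fun p => by
    rw [act_mul, show act x p = act y p from DFunLike.congr_fun h p]
    exact (act_inv y p).1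
  have h2 : y * (y⁻¹ * x) = x := congrArg V.mk (Fin.ext (Nat.eq_of_beq_eq_true
    (allBelow_eq_true.1 (allBelow_eq_true.1 cancel_check x.v.1 x.v.2) y.v.1 y.v.2)))
  rw [h1, (cancel y).2] at h2
  exact h2.symm

instance : Group V :=
  Group.ofLeftAxioms
    (fun x y w => toP_inj (by rw [toP_mul, toP_mul, toP_mul, toP_mul, mul_assoc]))
    (fun x => toP_inj (by rw [toP_mul, toP_one, one_mul]))
    (fun x => (cancel x).1)

/-- The action on the eight points as a homomorphism. -/
def perm : V →* Equiv.Perm (Fin 8) where
  toFun := toP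
  map_one' := toP_one
  map_mul' := toP_mul

theorem perm_inj : Function.Injective perm := toP_inj

/-- The class of an element: `0` for non-involutions, `1` for `zV`, `2`, `3`, `4` for the classes in
the normal subgroup of order 32 and `5`, `6` for the others. -/
def ty (x : V) : ℕ := getField 3 vtyTab x.v.1

/-- The central involution. -/
def zV : V := mk' 168

/-- A translation. -/
def aV : V := mk' 7

/-- A product of two transpositions in the kernel of the action on the blocks. -/
def bV : V := mk' 24

/-- A product of two transpositions moving two blocks. -/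
def cV : V := mk' 1

theorem ty_rep : ty zV = 1 ∧ ty aV = 2 ∧ ty bV = 3 ∧ ty (mk' 47) = 4 ∧ ty cV = 5 ∧
    ty (mk' 26) = 6 ∧ ty (aV * zV) = 2 ∧ ty 1 = 0 := by
  decide +kernel

theorem ty_spec : ∀ x : V, (ty x ≠ 0 ↔ x * x = 1 ∧ x ≠ 1) ∧ ty x ≤ 6 ∧ (ty x = 1 → x = zV) := by
  decide +kernel

theorem zV_central : ∀ x : V, x * zV = zV * x := by decide +kernel

theorem center_eq : ∀ x : V, (∀ y, x * y = y * x) → x = 1 ∨ x = zV := by decide +kernel

end V

end Cfsg.Agent.Cent32
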