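import Cfsg.Agent.Cent32.Struct
import Cfsg.Agent.Cent32.Model
import Cfsg.Agent.M12Cent.Setting

/-!
The centralizer is one of two models.
-/

set_option autoImplicit false
set_option maxRecDepth 8000

namespace Cfsg.Agent.Cent32

open QuaternionGroup

universe u

variable {G : Type u} [Group G]

/-- An embedding of the model onto the centralizer of `z`. -/
structure VEmb (z : G) where
  ι : V →* G
  inj : Function.Injective ι
  range : ι.range = Subgroup.centralizer ({z} : Set G)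
  ι_z : ι V.zV = z

/-- Two elements are equal modulo the kernel. -/
def eqk (p q : Q8 × Q8) : Bool := decide (p = q ∨ p = q * (a 2, a 2))

theorem pair_table : ∀ p : Q8 × Q8, eqk (p * p) 1 = true → eqk p 1 = false →
    eqk p (a 2, 1) = false → ∃ u v : Q8 × Q8, eqk (u * u) 1 = true ∧ eqk (v * v) 1 = true ∧
      eqk (u * p) (p * u) = true ∧ eqk (v * p) (p * v) = true ∧ eqk (u * v) (v * u) = false := by
  decide +kernel

theorem twist_table : ∀ (σ : Bool) (p : Q8 × Q8), eqk (p * sigma σ p) (a 2, 1) = false := by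
  decide +kernel

namespace Base

variable [Finite G] {z x y : G} {Q : Subgroup G} (b : Base z Q x y)
include b

theorem hQ_eq {i₁ i₂ : G} (h1 : Good z x i₁ Q) (h2 : Good z x i₂ Q) (g : Gens0 i₁ i₂ x)
    (p q : Q8 × Q8) : g.hQ p = g.hQ q ↔ eqk p q = true := by
  obtain ⟨ez1, ez2, hker, -⟩ := b.hQ_facts h1 h2 g
  have hk : g.hQ (a 2, a 2) = 1 := by
    rw [show ((a 2, a 2) : Q8 × Q8) = (a 2, 1) * (1, a 2) by decide, map_mul, ez1, ez2, b.zz]
  simp only [eqk, decide_eq_true_eq]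
  constructor
  · intro h
    rcases hker (q⁻¹ * p) (by rw [map_mul, map_inv, h, inv_mul_cancel]) with e | e
    · exact Or.inl (inv_mul_eq_one.1 e).symm
    · exact Or.inr (inv_mul_eq_iff_eq_mul.1 e)
  · rintro (rfl | rfl)
    · rfl
    · rw [map_mul, hk, mul_one]

/-- If the involution is fused in its two-core, some involution lies outside the two-core. -/
theorem exists_outside (hnwc : ∃ g : G, g * z * g⁻¹ ∈ Q ∧ g * z * g⁻¹ ≠ z) :
    ∃ t : G, t * z = z * t ∧ t * t = 1 ∧ t ∉ Q := by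
  by_contra hne
  push Not at hne
  obtain ⟨g, hgQ, hgz⟩ := hnwc
  obtain ⟨σ, i₁, i₂, y', hg, -, -, h1, h2, -⟩ := b.exists_gens
  obtain ⟨ez1, ez2, hker, hmem⟩ := b.hQ_facts h1 h2 hg.toGens0
  have heq := b.hQ_eq h1 h2 hg.toGens0
  have sqc : ∀ h w : G, h * w * h⁻¹ * (h * w * h⁻¹) = h * (w * w) * h⁻¹ := fun h w => by group
  have hzc : (g * z * g⁻¹) * z = z * (g * z * g⁻¹) := b.le _ hgQ
  have haz : g⁻¹ * z * g * z = z * (g⁻¹ * z * g) := by
    calc g⁻¹ * z * g * z = g⁻¹ * (z * (g * z * g⁻¹)) * g := by group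
      _ = g⁻¹ * ((g * z * g⁻¹) * z) * g := by rw [hzc]
      _ = z * (g⁻¹ * z * g) := by group
  obtain ⟨p, hp⟩ := (hmem _).1 (hne _ haz (by
    rw [show g⁻¹ * z * g * (g⁻¹ * z * g) = g⁻¹ * (z * z) * g by group, b.zz]; group))
  have p2 : eqk (p * p) 1 = true := (heq _ _).1 (by
    rw [map_mul, map_one, hp, show g⁻¹ * z * g * (g⁻¹ * z * g) = g⁻¹ * (z * z) * g by group, b.zz]
    group)
  have p1 : eqk p 1 = false := by
    rw [← Bool.not_eq_true, ← heq, map_one, hp]
    intro e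
    refine b.z1 ?_
    calc z = g * (g⁻¹ * z * g) * g⁻¹ := by group
      _ = 1 := by rw [e]; group
  have pz : eqk p (a 2, 1) = false := by
    rw [← Bool.not_eq_true, ← heq, hp, ez1]
    intro e
    refine hgz ?_
    calc g * z * g⁻¹ = g * (g⁻¹ * z * g) * g⁻¹ := by rw [e]
      _ = z := by group
  obtain ⟨u, v, u2, v2, up, vp, uv⟩ := pair_table p p2 p1 pz
  have himg : ∀ w : Q8 × Q8, eqk (w * w) 1 = true → eqk (w * p) (p * w) = true →
      g * hg.toGens0.hQ w * g⁻¹ ∈ Q := by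
    intro w w2 wp
    have e2 := (heq _ _).2 wp
    rw [map_mul, map_mul, hp] at e2
    refine hne _ ?_ ?_
    · calc g * hg.toGens0.hQ w * g⁻¹ * z = g * (hg.toGens0.hQ w * (g⁻¹ * z * g)) * g⁻¹ := by group
        _ = g * ((g⁻¹ * z * g) * hg.toGens0.hQ w) * g⁻¹ := by rw [e2]
        _ = z * (g * hg.toGens0.hQ w * g⁻¹) := by group
    · have e3 := (heq _ _).2 w2
      rw [map_mul, map_one] at e3
      rw [sqc, e3, mul_one, mul_inv_cancel]
  obtain ⟨U, hU⟩ : ∃ U, hg.toGens0.hQ u = U := ⟨_, rfl⟩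
  obtain ⟨W, hW⟩ : ∃ W, hg.toGens0.hQ v = W := ⟨_, rfl⟩
  have hUW : U * W ≠ W * U := fun e => by
    rw [← hU, ← hW, ← map_mul, ← map_mul, heq, uv] at e
    exact Bool.false_ne_true e
  have hUWz : U * W = z * (W * U) :=
    (b.comm U (hU ▸ (hmem _).2 ⟨u, rfl⟩) W (hW ▸ (hmem _).2 ⟨v, rfl⟩)).resolve_left hUW
  have hUQ := himg u u2 up
  have hWQ := himg v v2 vp
  rw [hU] at hUQ
  rw [hW] at hWQ
  rcases b.comm _ hUQ _ hWQ with e | e
  · rw [show g * U * g⁻¹ * (g * W * g⁻¹) = g * (U * W) * g⁻¹ by group,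
      show g * W * g⁻¹ * (g * U * g⁻¹) = g * (W * U) * g⁻¹ by group] at e
    exact hUW (mul_left_cancel (mul_right_cancel e))
  · refine hgz ?_
    rw [show g * U * g⁻¹ * (g * W * g⁻¹) = g * (U * W) * g⁻¹ by group, hUWz,
      show g * (z * (W * U)) * g⁻¹ = g * z * g⁻¹ * (g * W * g⁻¹ * (g * U * g⁻¹)) by group] at e
    exact mul_right_cancel e

/-- The centralizer as an image. -/
theorem exists_hom (hnwc : ∃ g : G, g * z * g⁻¹ ∈ Q ∧ g * z * g⁻¹ ≠ z) :
    ∃ (σ : Bool) (f : Sd σ →* G), f.range = Subgroup.centralizer ({z} : Set G) ∧ f (kap σ) = 1 ∧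
      f (SemidirectProduct.inl (a 2, 1)) = z ∧ ∀ q, q ∈ Q ↔ ∃ p, f (SemidirectProduct.inl p) = q := by
  classical
  obtain ⟨t, htz, ht2, htQ⟩ := b.exists_outside hnwc
  obtain ⟨σ, i₁, i₂, w, hg, hwz, hww, h1, h2, hcover⟩ := b.exists_gens
  obtain ⟨ez1, ez2, hker, hmem⟩ := b.hQ_facts h1 h2 hg.toGens0
  have heq := b.hQ_eq h1 h2 hg.toGens0
  -- the element inverting `x` is an involution
  have hw1 : w * w = 1 := by
    refine hww.resolve_right fun e => ?_
    obtain ⟨q, hq, i, j, htq⟩ := hcover t htz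
    have hnQ : ∀ i : Fin 3, i.1 ≠ 0 → x ^ i.1 ∉ Q := by
      intro i hi hm
      refine b.xQ ?_
      have hx4 : x ^ 4 = x := by rw [pow_succ', b.x3, mul_one]
      fin_cases i
      · exact absurd rfl hi
      · simpa using hm
      · have := pow_mem hm 2
        rwa [← pow_mul, show (2 : ℕ) * 2 = 4 from rfl, hx4] at this
    have hxQ' : ∀ n : ℕ, ∀ u ∈ Q, x ^ n * u * (x ^ n)⁻¹ ∈ Q := fun n =>
      b.normal _ ((show Commute x z from b.xz).pow_left n).eq
    fin_cases j
    · have ht : t = q * x ^ i.1 := by simpa using htq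
      by_cases hi : i.1 = 0
      · rw [ht, hi, pow_zero, mul_one] at htQ; exact htQ hq
      · have h2' : q * (x ^ i.1 * q * (x ^ i.1)⁻¹) * x ^ (2 * i.1) = 1 := by
          rw [← ht2, ht, two_mul, pow_add]; group
        refine hnQ ⟨(2 * i.1) % 3, Nat.mod_lt _ (by norm_num)⟩ (by have := i.2; simp only; omega) ?_
        show x ^ ((2 * i.1) % 3) ∈ Q
        rw [← pow_eq_pow_mod _ b.x3, eq_inv_of_mul_eq_one_right h2']
        exact inv_mem (mul_mem hq (hxQ' _ q hq))
    · have ht : t = q * x ^ i.1 * w := by simpa using htq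
      have hs : x ^ i.1 * t * (x ^ i.1)⁻¹ = (x ^ i.1 * q * (x ^ i.1)⁻¹) * w := by
        have hwx : w * (x ^ i.1)⁻¹ = x ^ i.1 * w := by
          have : w * (x ^ i.1)⁻¹ * w⁻¹ = x ^ i.1 := by
            rw [← inv_pow, ← conj_pow, show w * x⁻¹ * w⁻¹ = (w * x * w⁻¹)⁻¹ by group, hg.yx, inv_inv]
          calc w * (x ^ i.1)⁻¹ = w * (x ^ i.1)⁻¹ * w⁻¹ * w := by group
            _ = x ^ i.1 * w := by rw [this]
        have hx3i : x ^ i.1 * x ^ i.1 * x ^ i.1 = 1 := by
          rw [← pow_add, ← pow_add, show i.1 + i.1 + i.1 = 3 * i.1 by omega, pow_mul, b.x3, one_pow]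
        rw [ht, show x ^ i.1 * (q * x ^ i.1 * w) * (x ^ i.1)⁻¹ =
          x ^ i.1 * q * (x ^ i.1 * (w * (x ^ i.1)⁻¹)) by group, hwx,
          show (x ^ i.1)⁻¹ = x ^ i.1 * x ^ i.1 from inv_eq_of_mul_eq_one_right
            (by rw [← mul_assoc]; exact hx3i)]
        simp only [mul_assoc]
      obtain ⟨p, hp⟩ := (hmem _).1 (hxQ' i.1 q hq)
      have hsq : (x ^ i.1 * q * (x ^ i.1)⁻¹) * w * ((x ^ i.1 * q * (x ^ i.1)⁻¹) * w) = 1 := by
        rw [← hs, show x ^ i.1 * t * (x ^ i.1)⁻¹ * (x ^ i.1 * t * (x ^ i.1)⁻¹) =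
          x ^ i.1 * (t * t) * (x ^ i.1)⁻¹ by group, ht2]
        group
      rw [← hp] at hsq
      have hsq' : hg.toGens0.hQ (p * sigma σ p) = z := by
        rw [map_mul, ← hg.tau p]
        calc hg.toGens0.hQ p * (w * hg.toGens0.hQ p * w⁻¹)
            = hg.toGens0.hQ p * w * (hg.toGens0.hQ p * w) * (w * w)⁻¹ := by group
          _ = z := by rw [hsq, e, one_mul]; exact inv_eq_of_mul_eq_one_right b.zz
      rw [← ez1, heq, twist_table] at hsq'
      exact Bool.false_ne_true hsq'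
  set f := hg.hom hw1
  have finl : ∀ p, f (SemidirectProduct.inl p) = hg.toGens0.hQ p := fun p => by
    obtain ⟨u, v⟩ := p
    rw [hg.hom_inl hw1]; rfl
  refine ⟨σ, f, le_antisymm ?_ ?_, ?_, ?_, ?_⟩
  · rintro _ ⟨d, rfl⟩
    rw [← SemidirectProduct.inl_left_mul_inr_right d, map_mul]
    refine mul_mem (Subgroup.mem_centralizer_singleton_iff.2 ?_) (Subgroup.mem_centralizer_singleton_iff.2 ?_)
    · rw [finl]; exact b.le _ ((hmem _).2 ⟨_, rfl⟩)
    · show hg.hom hw1 (SemidirectProduct.inr d.right) * z = z * hg.hom hw1 (SemidirectProduct.inr d.right)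
      rw [Gens.hom, SemidirectProduct.lift_inr]
      rcases d.right with k | k
      · exact ((show Commute x z from b.xz).pow_left _).eq
      · exact ((show Commute w z from hwz).mul_left ((show Commute x z from b.xz).pow_left _)).eq
  · intro g hgm
    obtain ⟨q, hq, i, j, rfl⟩ := hcover g (Subgroup.mem_centralizer_singleton_iff.1 hgm)
    obtain ⟨p, rfl⟩ := (hmem _).1 hq
    refine mul_mem (mul_mem (MonoidHom.mem_range.2 ⟨_, finl p⟩) (pow_mem (MonoidHom.mem_range.2 ⟨_, hg.hom_x hw1⟩) _))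
      (pow_mem (MonoidHom.mem_range.2 ⟨_, hg.hom_y hw1⟩) _)
  · show f (SemidirectProduct.inl (a 2, a 2)) = 1
    rw [finl, show ((a 2, a 2) : Q8 × Q8) = (a 2, 1) * (1, a 2) by decide, map_mul, ez1, ez2, b.zz]
  · rw [finl, ez1]
  · intro q
    rw [hmem]
    simp only [finl]

end Base

/-- Descent along a map onto a model. -/
theorem descend [Finite G] {S T : Type*} [Group S] [Group T] [Finite T] (f : S →* G) (ψ : S →* T)
    (hψ : Function.Surjective ψ) (hker : ∀ d, ψ d = 1 → f d = 1) (hcard : Nat.card f.range = Nat.card T) :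
    ∃ ι : T →* G, Function.Injective ι ∧ ι.range = f.range ∧ ∀ d, ι (ψ d) = f d := by
  have key : ∀ d d', ψ d = ψ d' → f d = f d' := fun d d' e => by
    have h := hker (d⁻¹ * d') (by rw [map_mul, map_inv, e, inv_mul_cancel])
    rw [map_mul, map_inv, inv_mul_eq_one] at h
    exact h
  let ι : T →* G :=
    { toFun := fun t => f (Function.surjInv hψ t)
      map_one' := by
        rw [← map_one f]; exact key _ _ (by rw [Function.surjInv_eq hψ, map_one])
      map_mul' := fun s t => by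
        rw [← map_mul f]; exact key _ _ (by simp [Function.surjInv_eq hψ]) }
  have hι : ∀ d, ι (ψ d) = f d := fun d => key _ _ (Function.surjInv_eq hψ _)
  have hr : ι.range = f.range := by
    refine le_antisymm (by rintro _ ⟨t, rfl⟩; exact ⟨_, rfl⟩) ?_
    rintro _ ⟨d, rfl⟩
    exact ⟨ψ d, hι d⟩
  refine ⟨ι, ?_, hr, hι⟩
  have hb : Function.Bijective ι.rangeRestrict :=
    (Nat.bijective_iff_surjective_and_card _).2
      ⟨ι.rangeRestrict_surjective, by rw [hr, hcard]⟩
  exact fun s t e => hb.1 (Subtype.ext e)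

theorem gensV2 : Gens (K := V) true (V.mk' 88) (V.mk' 119) (V.mk' 3) (V.mk' 1) := by
  constructor <;> first | decide +kernel | (constructor <;> decide +kernel)

theorem gensV3 : Gens (K := V) true (V.mk' 31) (V.mk' 55) (V.mk' 3) (V.mk' 1) := by
  constructor <;> first | decide +kernel | (constructor <;> decide +kernel)

theorem gensV4 : Gens (K := V) true (V.mk' 143) (V.mk' 160) (V.mk' 3) (V.mk' 1) := by
  constructor <;> first | decide +kernel | (constructor <;> decide +kernel)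

theorem gensM : Gens (K := M12Cent.M) false (M12Cent.M.mk' 31) (M12Cent.M.mk' 55) (M12Cent.M.mk' 3)
    (M12Cent.M.mk' 25) := by
  constructor <;> first | decide +kernel | (constructor <;> decide +kernel)

theorem V_y2 : V.mk' 1 * V.mk' 1 = 1 := by decide +kernel

theorem M_y2 : M12Cent.M.mk' 25 * M12Cent.M.mk' 25 = 1 := by decide +kernel

/-- The three maps onto the model. -/
def psi (k : Fin 3) : Sd true →* V :=
  match k with
  | 0 => gensV2.hom V_y2
  | 1 => gensV3.hom V_y2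
  | 2 => gensV4.hom V_y2

/-- The map onto the other model. -/
def psiM : Sd false →* M12Cent.M := gensM.hom M_y2

theorem psi_spec : ∀ (k : Fin 3), (∀ (p : Q8 × Q8) (g : DihedralGroup 3), psi k ⟨p, g⟩ = 1 →
      g = 1 ∧ (p = 1 ∨ p = (a 2, a 2))) ∧
    psi k (kap true) = 1 ∧ psi k (SemidirectProduct.inl (a 2, 1)) = V.zV ∧
    V.ty (psi k (SemidirectProduct.inl (a 1, a 1))) = k.1 + 2 := by
  decide +kernel

theorem psiM_spec : (∀ (p : Q8 × Q8) (g : DihedralGroup 3), psiM ⟨p, g⟩ = 1 →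
      g = 1 ∧ (p = 1 ∨ p = (a 2, a 2))) ∧
    psiM (kap false) = 1 ∧ psiM (SemidirectProduct.inl (a 2, 1)) = M12Cent.M.zM := by
  decide +kernel

theorem card_Sd (σ : Bool) : Nat.card (Sd σ) = 384 := by
  rw [Nat.card_congr SemidirectProduct.equivProd, Nat.card_prod, Nat.card_prod,
    DihedralGroup.nat_card, Nat.card_eq_fintype_card, QuaternionGroup.card]

theorem psi_surj {σ : Bool} {T : Type} [Group T] [Finite T] (hT : Nat.card T = 192) (ψ : Sd σ →* T)
    (h : ∀ (p : Q8 × Q8) (g : DihedralGroup 3), ψ ⟨p, g⟩ = 1 → g = 1 ∧ (p = 1 ∨ p = (a 2, a 2))) :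
    Function.Surjective ψ ∧ ∀ d, ψ d = 1 → d = 1 ∨ d = kap σ := by
  classical
  have hk : ∀ d, ψ d = 1 → d = 1 ∨ d = kap σ := by
    rintro ⟨p, g⟩ hd
    obtain ⟨rfl, rfl | rfl⟩ := h p g hd
    · exact Or.inl rfl
    · exact Or.inr rfl
  refine ⟨MonoidHom.range_eq_top.1 ?_, hk⟩
  refine Subgroup.eq_top_of_le_card _ ?_
  have h1 := ψ.ker.card_mul_index
  rw [Subgroup.index_ker, card_Sd] at h1
  have h2 : Nat.card ψ.ker ≤ 2 := by
    refine (Nat.card_le_card_of_injective (fun p : ψ.ker => decide ((p : Sd σ) = 1)) ?_).trans_eq (by simp)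
    intro p q e
    refine Subtype.ext ?_
    rcases hk p.1 p.2 with hp | hp <;> rcases hk q.1 q.2 with hq | hq <;>
      simp only [hp, hq, decide_eq_decide] at e ⊢
    · exact (e.1 trivial).symm
    · exact e.2 trivial
  rw [hT]
  have h3 := Nat.mul_le_mul_right (Nat.card ψ.range) h2
  rw [h1] at h3
  omega

/-- An automorphism of the model carrying the class of translations to another one. -/
theorem exists_theta (k : Fin 3) : ∃ θ : V →* V, Function.Bijective θ ∧ θ V.zV = V.zV ∧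
    V.ty (θ (psi 0 (SemidirectProduct.inl (a 1, a 1)))) = k.1 + 2 := by
  obtain ⟨hs0, hk0⟩ := psi_surj V.card (psi 0) (psi_spec 0).1
  obtain ⟨hsk, -⟩ := psi_surj V.card (psi k) (psi_spec k).1
  obtain ⟨θ, hi, -, he⟩ := descend (psi k) (psi 0) hs0 (fun d hd => by
      rcases hk0 d hd with rfl | rfl
      exacts [map_one _, (psi_spec k).2.1])
    (by rw [MonoidHom.range_eq_top.2 hsk, Subgroup.card_top])
  refine ⟨θ, ⟨hi, Finite.surjective_of_injective hi⟩, ?_, ?_⟩
  · rw [← (psi_spec 0).2.2.1, he]; exact (psi_spec k).2.2.1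
  · rw [he]; exact (psi_spec k).2.2.2

/-- Every involution of the model outside the normal subgroup of order 32 is outside. -/
theorem q_image : ∀ p : Q8 × Q8, V.ty (psi 0 (SemidirectProduct.inl p)) ≤ 4 ∧
    M12Cent.M.ty (psiM (SemidirectProduct.inl p)) ≤ 3 := by
  decide +kernel

/-- The centralizer is one of the two models, the involution being fused in the normal subgroup of
order 32. -/
theorem Base.emb [Finite G] {z x y : G} {Q : Subgroup G} (b : Base z Q x y)
    (hnwc : ∃ g : G, g * z * g⁻¹ ∈ Q ∧ g * z * g⁻¹ ≠ z) :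
    (∃ h : VEmb z, ∃ v : V, 2 ≤ V.ty v ∧ V.ty v ≤ 4 ∧ IsConj z (h.ι v)) ∨
    (∃ h : M12Cent.Emb z, ∃ v : M12Cent.M, 2 ≤ M12Cent.M.ty v ∧ M12Cent.M.ty v ≤ 3 ∧ IsConj z (h.ι v)) := by
  obtain ⟨σ, f, hrange, hkap, hz, hQ⟩ := b.exists_hom hnwc
  obtain ⟨g, hgQ, hgz⟩ := hnwc
  obtain ⟨p, hp⟩ := (hQ _).1 hgQ
  have hc : IsConj z (f (SemidirectProduct.inl p)) := isConj_iff.2 ⟨g, hp.symm⟩
  cases σ
  · right
    obtain ⟨hs, hk⟩ := psi_surj M12Cent.M.card psiM psiM_spec.1
    obtain ⟨ι, hi, hr, he⟩ := descend f psiM hs (fun d hd => by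
        rcases hk d hd with rfl | rfl
        exacts [map_one _, hkap]) (by rw [hrange, b.card_cent, M12Cent.M.card])
    have hιz : ι M12Cent.M.zM = z := by rw [← psiM_spec.2.2, he, hz]
    let h : M12Cent.Emb z := ⟨ι, hi, hr.trans hrange, hιz⟩
    have hne : M12Cent.M.ty (psiM (SemidirectProduct.inl p)) ≠ 0 := h.ty_ne_zero (by
      show orderOf (ι _) = 2
      rw [he]; exact Invol.orderOf_eq_two_of_isConj hc b.hz)
    refine ⟨h, psiM (SemidirectProduct.inl p), ?_, (q_image p).2, ?_⟩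
    · by_contra hlt
      have h1 := M12Cent.M.ty_one _ (show M12Cent.M.ty (psiM (SemidirectProduct.inl p)) = 1 by omega)
      refine hgz ?_
      rw [← hp, ← he, h1, hιz]
    · show IsConj z (ι _)
      rw [he]; exact hc
  · left
    obtain ⟨hs, hk⟩ := psi_surj V.card (psi 0) (psi_spec 0).1
    obtain ⟨ι, hi, hr, he⟩ := descend f (psi 0) hs (fun d hd => by
        rcases hk d hd with rfl | rfl
        exacts [map_one _, hkap]) (by rw [hrange, b.card_cent, V.card])
    have hιz : ι V.zV = z := by rw [← (psi_spec 0).2.2.1, he, hz]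
    have ho : orderOf (ι (psi 0 (SemidirectProduct.inl p))) = 2 := by
      rw [he]; exact Invol.orderOf_eq_two_of_isConj hc b.hz
    rw [orderOf_injective ι hi] at ho
    have hne : V.ty (psi 0 (SemidirectProduct.inl p)) ≠ 0 :=
      (V.ty_spec _).1.2 ⟨by rw [← pow_two]; exact orderOf_dvd_iff_pow_eq_one.1 ho.dvd,
        fun e => by rw [e, orderOf_one] at ho; omega⟩
    refine ⟨⟨ι, hi, hr.trans hrange, hιz⟩, psi 0 (SemidirectProduct.inl p), ?_, (q_image p).1, ?_⟩
    · by_contra hlt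
      have h1 := (V.ty_spec _).2.2 (show V.ty (psi 0 (SemidirectProduct.inl p)) = 1 by omega)
      refine hgz ?_
      rw [← hp, ← he, h1, hιz]
    · show IsConj z (ι _)
      rw [he]; exact hc

end Cfsg.Agent.Cent32
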