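import Cfsg.Agent.Cent32.NineTab
import Cfsg.Agent.Invol.Pair

/-!
Involutions and three-cycles of the alternating group of degree eight, and a criterion for a subgroup
to be the whole group.
-/

set_option autoImplicit false
set_option maxRecDepth 8000

namespace Cfsg.Agent.Cent32

open Equiv

/-- A subgroup containing the centralizers of two classes of involutions, which cover all its
involutions, is the whole group. -/
theorem all_of_cent {G : Type*} [Group G] [Finite G] (H : Subgroup G) {z b : G} (hz : orderOf z = 2)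
    (hb : orderOf b = 2) (hbH : b ∈ H) (hnc : ¬ IsConj z b)
    (hCz : ∀ g, g * z = z * g → g ∈ H) (hCb : ∀ g, g * b = b * g → g ∈ H)
    (hcl : ∀ t ∈ H, orderOf t = 2 → ∃ h ∈ H, h * t * h⁻¹ = z ∨ h * t * h⁻¹ = b) : H = ⊤ := by
  refine (Subgroup.eq_top_iff' H).2 fun g => ?_
  by_contra hg
  set u := g * z * g⁻¹ with hu
  have hu2 : orderOf u = 2 := by rw [hu, Invol.orderOf_conj, hz]
  have huc : IsConj z u := isConj_iff.2 ⟨g, rfl⟩
  have huH : u ∉ H := by
    intro hin
    obtain ⟨h, hh, e | e⟩ := hcl u hin hu2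
    · have : h * g * z = z * (h * g) :=
        mul_inv_eq_iff_eq_mul.1 (by rw [mul_inv_rev, show h * g * z * (g⁻¹ * h⁻¹) = h * u * h⁻¹ by
          rw [hu]; group, e])
      have := mul_mem (inv_mem hh) (hCz _ this)
      rw [inv_mul_cancel_left] at this
      exact hg this
    · exact hnc (huc.trans (isConj_iff.2 ⟨h, e⟩))
  rcases Nat.even_or_odd (orderOf (u * b)) with he | ho
  · set w := (u * b) ^ (orderOf (u * b) / 2) with hw
    have hwb : Commute w b := Invol.commute_central' hu2 hb he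
    have hwu : Commute w u := Invol.commute_central hu2 hb he
    have hw2 : orderOf w = 2 := Invol.orderOf_central he (orderOf_pos _)
    obtain ⟨h, hh, e⟩ := hcl w (hCb w hwb.eq) hw2
    have hc : Commute (h * u * h⁻¹) (h * w * h⁻¹) := hwu.symm.map (MulAut.conj h).toMonoidHom
    have hin : h * u * h⁻¹ ∈ H := by
      rcases e with e | e <;> rw [e] at hc
      · exact hCz _ hc.eq
      · exact hCb _ hc.eq
    have := mul_mem (mul_mem (inv_mem hh) hin) hh
    rw [show h⁻¹ * (h * u * h⁻¹) * h = u by group] at this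
    exact huH this
  · exact hnc (huc.trans (Invol.isConj_of_odd hu2 hb ho))

/-- A subgroup with no proper two-group over it normalising it is a Sylow subgroup. -/
theorem sylow_of_normalizer {G : Type*} [Group G] [Finite G] (W : Subgroup G) (hW : IsPGroup 2 W)
    (h : ∀ n : G, (∃ k : ℕ, n ^ 2 ^ k = 1) → (∀ w, w ∈ W ↔ n * w * n⁻¹ ∈ W) → n ∈ W) :
    ∃ P : Sylow 2 G, (P : Subgroup G) = W := by
  haveI : Fact (Nat.Prime 2) := ⟨Nat.prime_two⟩
  obtain ⟨P, hP⟩ := hW.exists_le_sylow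
  refine ⟨P, le_antisymm ?_ hP⟩
  by_contra hne
  have htop : W.subgroupOf (P : Subgroup G) ≠ ⊤ := fun e => hne (Subgroup.subgroupOf_eq_top.1 e)
  haveI : Group.IsNilpotent (P : Subgroup G) := P.isPGroup'.isNilpotent
  have hnorm := Group.normalizerCondition_of_isNilpotent (W.subgroupOf (P : Subgroup G)) htop.lt_top
  obtain ⟨n, hn, hnW⟩ := SetLike.exists_of_lt hnorm
  refine hnW (h n ?_ fun w => ⟨fun hw => ?_, fun hw => ?_⟩)
  · obtain ⟨k, hk⟩ := P.isPGroup' n
    exact ⟨k, by rw [← Subgroup.coe_pow, hk]; rfl⟩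
  · exact ((Subgroup.mem_normalizer_iff.1 hn) ⟨w, hP hw⟩).1 hw
  · have hwP : w ∈ (P : Subgroup G) := by
      have := mul_mem (mul_mem (inv_mem n.2) (hP hw)) n.2
      rwa [show (n : G)⁻¹ * ((n : G) * w * (n : G)⁻¹) * n = w by group] at this
    exact ((Subgroup.mem_normalizer_iff.1 hn) ⟨w, hwP⟩).2 hw

theorem invol_cycleType {σ : Equiv.Perm (Fin 8)} (h : σ * σ = 1) :
    σ.cycleType = Multiset.replicate σ.cycleType.card 2 ∧ σ.cycleType.card * 2 = σ.support.card := by
  have h1 : σ.cycleType = Multiset.replicate σ.cycleType.card 2 :=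
    Multiset.eq_replicate_card.2 fun c hc =>
      (Equiv.Perm.pow_prime_eq_one_iff (p := 2)).1 (by rw [pow_two, h]) c hc
  refine ⟨h1, ?_⟩
  rw [← Equiv.Perm.sum_cycleType]
  conv_rhs => rw [h1]
  rw [Multiset.sum_replicate, smul_eq_mul]

theorem a8_tab : V.toP V.zV * V.toP V.zV = 1 ∧ V.toP V.dB * V.toP V.dB = 1 ∧
    (V.toP V.zV).support.card = 8 ∧ (V.toP V.dB).support.card = 4 ∧
    swap (0 : Fin 8) 1 * V.toP V.zV = V.toP V.zV * swap (0 : Fin 8) 1 ∧
    swap (0 : Fin 8) 1 * V.toP V.dB = V.toP V.dB * swap (0 : Fin 8) 1 := by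
  decide +kernel

/-- The two classes of involutions of the alternating group of degree eight. -/
theorem a8_classes {σ : Equiv.Perm (Fin 8)} (hs : σ ∈ alternatingGroup (Fin 8)) (h2 : orderOf σ = 2) :
    ∃ c ∈ alternatingGroup (Fin 8), c * σ * c⁻¹ = V.toP V.zV ∨ c * σ * c⁻¹ = V.toP V.dB := by
  obtain ⟨hne, hsq⟩ := Invol.orderOf_eq_two_iff.1 h2
  obtain ⟨hct, hsc⟩ := invol_cycleType hsq
  have hle : σ.support.card ≤ 8 := (Finset.card_le_univ _).trans_eq (Fintype.card_fin 8)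
  have hk0 : σ.cycleType.card ≠ 0 := fun e => hne (Equiv.Perm.cycleType_eq_zero.1 (Multiset.card_eq_zero.1 e))
  have hsign := Equiv.Perm.sign_of_cycleType σ
  rw [Equiv.Perm.mem_alternatingGroup.1 hs, hct, Multiset.sum_replicate, Multiset.card_replicate,
    smul_eq_mul] at hsign
  have hk : σ.cycleType.card = 2 ∨ σ.cycleType.card = 4 := by
    have h4 : σ.cycleType.card ≤ 4 := by omega
    generalize σ.cycleType.card = k at hsign h4 hk0
    interval_cases k <;> first | omega | exact absurd hsign (by decide +kernel)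
  obtain ⟨z1, b1, zc, bc, zs, bs⟩ := a8_tab
  have key : ∀ τ : Equiv.Perm (Fin 8), τ * τ = 1 → τ.support.card = σ.support.card →
      swap (0 : Fin 8) 1 * τ = τ * swap (0 : Fin 8) 1 → ∃ c ∈ alternatingGroup (Fin 8), c * σ * c⁻¹ = τ := by
    intro τ hτ hcard hc01
    obtain ⟨hct', hsc'⟩ := invol_cycleType hτ
    have : σ.cycleType.card = τ.cycleType.card := by omega
    obtain ⟨c, hc⟩ := isConj_iff.1 (Equiv.Perm.isConj_iff_cycleType_eq.2
      (by rw [hct, hct', this] : σ.cycleType = τ.cycleType))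
    rcases Int.units_eq_one_or (Equiv.Perm.sign c) with hp | hm
    · exact ⟨c, Equiv.Perm.mem_alternatingGroup.2 hp, hc⟩
    · refine ⟨swap 0 1 * c, Equiv.Perm.mem_alternatingGroup.2 ?_, ?_⟩
      · rw [map_mul, hm, Equiv.Perm.sign_swap (by decide)]; rfl
      · rw [show swap 0 1 * c * σ * (swap 0 1 * c)⁻¹ = swap 0 1 * (c * σ * c⁻¹) * (swap (0 : Fin 8) 1)⁻¹ by
          group, hc, hc01, mul_inv_cancel_right]
  rcases hk with hk | hk
  · obtain ⟨c, hc, e⟩ := key _ b1 (by omega) bs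
    exact ⟨c, hc, Or.inr e⟩
  · obtain ⟨c, hc, e⟩ := key _ z1 (by omega) zs
    exact ⟨c, hc, Or.inl e⟩

/-- A three-cycle is the cycle of a triple. -/
theorem exists_cyc {σ : Equiv.Perm (Fin 8)} (hσ : σ.IsThreeCycle) :
    ∃ a b c, Dist a b c ∧ cyc a b c = σ ∧ σ a = b ∧ σ b = c ∧ σ c = a := by
  obtain ⟨a, ha⟩ : ∃ a, a ∈ σ.support := Finset.card_pos.1 (by
    rw [Equiv.Perm.IsThreeCycle.card_support hσ]; norm_num)
  have hn := (Equiv.Perm.IsThreeCycle.nodup_iff_mem_support hσ).2 ha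
  simp only [List.nodup_cons, List.mem_cons, List.not_mem_nil, or_false, not_or, List.nodup_nil,
    and_true, not_false_eq_true] at hn
  have hd : Dist a (σ a) (σ (σ a)) := ⟨hn.1.1, hn.2, hn.1.2⟩
  obtain ⟨e1, e2, e3, e4⟩ := cyc_apply _ _ _ hd
  have hsupp := (Equiv.Perm.IsThreeCycle.support_eq_iff_mem_support hσ).2 ha
  have h3 : σ (σ (σ a)) = a := by
    have : σ ^ 3 = 1 := by rw [← Equiv.Perm.IsThreeCycle.orderOf hσ, pow_orderOf_eq_one]
    exact DFunLike.congr_fun this a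
  refine ⟨a, _, _, hd, Equiv.ext fun y => ?_, rfl, rfl, h3⟩
  by_cases hy : y ∈ σ.support
  · rw [hsupp] at hy
    simp only [Finset.mem_insert, Finset.mem_singleton] at hy
    rcases hy with rfl | rfl | rfl
    · exact e1
    · exact e2
    · rw [e3, h3]
  · rw [e4 y (fun e => hy (e ▸ ha)) (fun e => hy (by rw [e]; exact Equiv.Perm.apply_mem_support.2 ha))
      (fun e => hy (by rw [e]; exact Equiv.Perm.apply_mem_support.2 (Equiv.Perm.apply_mem_support.2 ha)))]
    exact (Equiv.Perm.notMem_support.1 hy).symm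

/-- The even permutations fixing the point three are generated by four of them. -/
theorem fix_three_le (D : Subgroup (Equiv.Perm (Fin 8))) (hgen : ∀ i, triGen i ∈ D)
    {σ : Equiv.Perm (Fin 8)} (hs : σ ∈ alternatingGroup (Fin 8)) (h3 : σ 3 = 3) : σ ∈ D := by
  have hcyc : ∀ t ∈ triList, cyc t.1 t.2.1 t.2.2 ∈ D := by
    refine triList_forall (fun t => cyc t.1 t.2.1 t.2.2 ∈ D) (hgen 2) fun i t ht => ?_
    show cyc (triGen i t.1) (triGen i t.2.1) (triGen i t.2.2) ∈ D
    rw [← cyc_conj]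
    exact mul_mem (mul_mem (hgen i) ht) (inv_mem (hgen i))
  have hp : ∀ x, σ x ≠ 3 ↔ x ≠ 3 := fun x =>
    ⟨fun h e => h (by rw [e, h3]), fun h e => h (σ.injective (e.trans h3.symm))⟩
  set τ := σ.subtypePerm (p := fun x => x ≠ 3) hp
  have e : Equiv.Perm.ofSubtype τ = σ :=
    Equiv.Perm.ofSubtype_subtypePerm hp fun x hx e => hx (by rw [e, h3])
  have hτ : τ ∈ alternatingGroup {x : Fin 8 // x ≠ 3} := by
    rw [Equiv.Perm.mem_alternatingGroup, ← Equiv.Perm.sign_ofSubtype, e]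
    exact Equiv.Perm.mem_alternatingGroup.1 hs
  rw [← Equiv.Perm.closure_three_cycles_eq_alternating] at hτ
  have hle : (Subgroup.closure {ρ : Equiv.Perm {x : Fin 8 // x ≠ 3} | ρ.IsThreeCycle}).map
      Equiv.Perm.ofSubtype ≤ D := by
    rw [MonoidHom.map_closure, Subgroup.closure_le]
    rintro _ ⟨ρ, hρ, rfl⟩
    have hρ' : (Equiv.Perm.ofSubtype ρ).IsThreeCycle := by
      show (Equiv.Perm.ofSubtype ρ).cycleType = {3}
      rw [Equiv.Perm.cycleType_ofSubtype]; exact hρ
    obtain ⟨a, b, c, hd, he, ea, eb, ec⟩ := exists_cyc hρ'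
    have ne3 : ∀ x y : Fin 8, Equiv.Perm.ofSubtype ρ x = y → x ≠ y → x ≠ 3 := fun x y hxy hne hx => by
      subst hx
      rw [Equiv.Perm.ofSubtype_apply_of_not_mem ρ (by simp)] at hxy
      exact hne hxy
    rw [← he]
    exact hcyc (a, b, c) (triList_mem a b c hd (ne3 _ _ ea hd.1) (ne3 _ _ eb hd.2.1) (ne3 _ _ ec hd.2.2.symm))
  rw [← e]
  exact hle ⟨τ, hτ, rfl⟩

end Cfsg.Agent.Cent32
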