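import Cfsg.Agent.Cent32.Model

/-!
The affine group of the three-dimensional space over two elements, acting on eight points, and its
outer automorphism.
-/

set_option autoImplicit false
set_option maxRecDepth 8000

namespace Cfsg.Agent.Cent32

open Cfsg.Agent.Compute

/-- A map of the eight points respecting the affine structure. -/
def IsAff (π : Fin 8 → Fin 8) : Prop := ∀ x y, π (x ^^^ y) = π x ^^^ π y ^^^ π 0

instance (π : Fin 8 → Fin 8) : Decidable (IsAff π) := by unfold IsAff; infer_instance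

theorem x8 : ∀ a b c : Fin 8, a ^^^ a = 0 ∧ a ^^^ 0 = a ∧ 0 ^^^ a = a ∧ a ^^^ b = b ^^^ a ∧
    a ^^^ b ^^^ c = a ^^^ (b ^^^ c) ∧ (a ^^^ b = 0 → a = b) ∧ a ^^^ b ^^^ b = a := by
  decide +kernel

theorem IsAff.triple {π : Fin 8 → Fin 8} (h : IsAff π) (a b c : Fin 8) :
    π (a ^^^ b ^^^ c) = π a ^^^ π b ^^^ π c := by
  have key : ∀ p q r s : Fin 8, p ^^^ q ^^^ s ^^^ r ^^^ s = p ^^^ q ^^^ r := by decide +kernel
  rw [h, h, key]

/-- The affine group. -/
def agl : Subgroup (Equiv.Perm (Fin 8)) where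
  carrier := {π | IsAff π}
  one_mem' := fun x y => by
    show x ^^^ y = x ^^^ y ^^^ 0
    rw [(x8 (x ^^^ y) 0 0).2.1]
  mul_mem' := fun {f g} hf hg x y => by
    show f (g (x ^^^ y)) = f (g x) ^^^ f (g y) ^^^ f (g 0)
    rw [hg, IsAff.triple hf]
  inv_mem' := fun {f} hf x y => f.injective (by
    rw [IsAff.triple hf]
    simp only [Equiv.Perm.inv_def, Equiv.apply_symm_apply]
    exact ((x8 (x ^^^ y) 0 0).2.1).symm)

/-- The affine map with given values on an affine frame. -/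
def affFun (t : Fin 8 × Fin 8 × Fin 8 × Fin 8) (x : Fin 8) : Fin 8 :=
  match x.val with
  | 0 => t.1
  | 1 => t.2.1
  | 2 => t.2.2.1
  | 3 => t.1 ^^^ t.2.1 ^^^ t.2.2.1
  | 4 => t.2.2.2
  | 5 => t.1 ^^^ t.2.1 ^^^ t.2.2.2
  | 6 => t.1 ^^^ t.2.2.1 ^^^ t.2.2.2
  | _ => t.2.1 ^^^ t.2.2.1 ^^^ t.2.2.2

/-- The images of an affine frame form one. -/
def GoodT (t : Fin 8 × Fin 8 × Fin 8 × Fin 8) : Prop :=
  t.1 ≠ t.2.1 ∧ t.1 ≠ t.2.2.1 ∧ t.2.1 ≠ t.2.2.1 ∧ t.2.2.2 ≠ t.1 ∧ t.2.2.2 ≠ t.2.1 ∧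
    t.2.2.2 ≠ t.2.2.1 ∧ t.2.2.2 ≠ t.1 ^^^ t.2.1 ^^^ t.2.2.1

instance (t : Fin 8 × Fin 8 × Fin 8 × Fin 8) : Decidable (GoodT t) := by unfold GoodT; infer_instance

/-- The images of the standard frame. -/
def frame (π : Fin 8 → Fin 8) : Fin 8 × Fin 8 × Fin 8 × Fin 8 := (π 0, π 1, π 2, π 4)

theorem affFun_frame {π : Fin 8 → Fin 8} (h : IsAff π) (x : Fin 8) : affFun (frame π) x = π x := by
  have e3 : π 3 = π 0 ^^^ π 1 ^^^ π 2 := by
    rw [← h.triple]; exact congrArg π (by decide)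
  have e5 : π 5 = π 0 ^^^ π 1 ^^^ π 4 := by
    rw [← h.triple]; exact congrArg π (by decide)
  have e6 : π 6 = π 0 ^^^ π 2 ^^^ π 4 := by
    rw [← h.triple]; exact congrArg π (by decide)
  have e7 : π 7 = π 1 ^^^ π 2 ^^^ π 4 := by
    rw [← h.triple]; exact congrArg π (by decide)
  fin_cases x
  · rfl
  · rfl
  · rfl
  · exact e3.symm
  · rfl
  · exact e5.symm
  · exact e6.symm
  · exact e7.symm

theorem good_frame {π : Equiv.Perm (Fin 8)} (h : π ∈ agl) : GoodT (frame π) := by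
  have ne : ∀ {i j : Fin 8}, i ≠ j → π i ≠ π j := fun hij e => hij (π.injective e)
  refine ⟨ne (by decide), ne (by decide), ne (by decide), ne (by decide), ne (by decide), ne (by decide), ?_⟩
  show π 4 ≠ π 0 ^^^ π 1 ^^^ π 2
  rw [← IsAff.triple h]
  exact ne (by decide)

theorem frame_inj {π σ : Equiv.Perm (Fin 8)} (hπ : π ∈ agl) (hσ : σ ∈ agl)
    (h : frame π = frame σ) : π = σ :=
  Equiv.ext fun x => by rw [← affFun_frame hπ x, ← affFun_frame hσ x, h]

theorem affFun_spec : ∀ t, GoodT t → (∀ x y : Fin 8, affFun t x = affFun t y → x = y) ∧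
    IsAff (affFun t) ∧ frame (affFun t) = t := by
  decide +kernel

theorem exists_aff {t : Fin 8 × Fin 8 × Fin 8 × Fin 8} (ht : GoodT t) :
    ∃ π : agl, ∀ x, (π : Equiv.Perm (Fin 8)) x = affFun t x :=
  ⟨⟨Equiv.ofBijective (affFun t) (Finite.injective_iff_bijective.1 fun x y => (affFun_spec t ht).1 x y),
    (affFun_spec t ht).2.1⟩, fun _ => rfl⟩

theorem card_agl_le : Nat.card agl ≤ 1344 := by
  have h : (Finset.univ.filter fun t => GoodT t).card = 1344 := by decide +kernel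
  rw [← h, ← Fintype.card_subtype, ← Nat.card_eq_fintype_card]
  exact Nat.card_le_card_of_injective
    (fun π : agl => (⟨frame π.1, good_frame π.2⟩ : {t // GoodT t}))
    fun a b e => Subtype.ext (frame_inj a.2 b.2 (congrArg Subtype.val e))

/-- A statement about the affine group can be checked on frames. -/
theorem forall_agl {P : (Fin 8 → Fin 8) → Prop} (h : ∀ t, GoodT t → P (affFun t)) (π : agl) :
    P (π : Equiv.Perm (Fin 8)) := by
  have := h _ (good_frame π.2)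
  rwa [show affFun (frame π.1) = ⇑(π : Equiv.Perm (Fin 8)) from funext (affFun_frame π.2)] at this

theorem V_aff : ∀ v : V, IsAff (V.act v) := by decide +kernel

/-- The centralizer of a translation. -/
def pA : V →* agl := V.perm.codRestrict agl V_aff

theorem pA_apply (v : V) (x : Fin 8) : (pA v : Equiv.Perm (Fin 8)) x = V.act v x := rfl

theorem pA_inj : Function.Injective pA := fun _ _ e => V.perm_inj (congrArg Subtype.val e)

/-- The central translation. -/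
def zA : agl := pA V.zV

theorem cent_zA (π : agl) (h : π * zA = zA * π) : ∃ v, pA v = π := by
  have key : ∀ t, GoodT t → (∀ x, affFun t (V.act V.zV x) = V.act V.zV (affFun t x)) →
      ∃ v : V, frame (V.act v) = t := by
    decide +kernel
  obtain ⟨v, hv⟩ := key _ (good_frame π.2) fun x => by
    rw [affFun_frame π.2, affFun_frame π.2]
    exact DFunLike.congr_fun (congrArg Subtype.val h) x
  exact ⟨v, Subtype.ext (frame_inj (V_aff v) π.2 hv)⟩

/-- A translation as an element of the model. -/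
def tV (a : Fin 8) : V :=
  match a.val with
  | 0 => V.mk' 0
  | 1 => V.mk' 168
  | 2 => V.mk' 7
  | 3 => V.mk' 175
  | 4 => V.mk' 16
  | 5 => V.mk' 184
  | 6 => V.mk' 23
  | _ => V.mk' 191

theorem tV_spec : tV 0 = 1 ∧ tV 1 = V.zV ∧ tV 2 = V.aV ∧
    (∀ a x : Fin 8, V.act (tV a) x = x ^^^ a) ∧ (∀ a b, tV (a ^^^ b) = tV a * tV b) ∧
    (∀ a, a ≠ 0 → a ≠ 1 → V.ty (tV a) = 2) ∧ ∀ v, V.ty v = 2 → ∃ a, tV a = v := by
  decide +kernel

/-- The linear part, coded. -/
def lcode (π : Fin 8 → Fin 8) : ℕ :=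
  (π 0 ^^^ π 1).val + 8 * (π 0 ^^^ π 2).val + 64 * (π 0 ^^^ π 4).val

/-- The values of a non-trivial crossed homomorphism on the linear group. -/
def dlTab : ℕ := 0xe1c01818180700a81d8020005e10022740000000022740000000404078810c00a000f0638a0800e1c0000000005e10a000f0000000140300404078181818ec05800000001d8020638a08ec05800000000700a8810c001403000000000700a8404078a000f01d8020000000283000d2f000000000181818810c00005e10638a08d2f00000000028300000000000e1c0022740140300ec0580283000d2f000000000000000000000000000000000000000000000000000000000000000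

/-- The crossed homomorphism. -/
def dl (π : Fin 8 → Fin 8) : Fin 8 := ⟨getField 3 dlTab (lcode π) % 8, Nat.mod_lt _ (by norm_num)⟩

theorem cocycle_check : ∀ b c d : Fin 8, GoodT (0, b, c, d) → ∀ b' c' d' : Fin 8, GoodT (0, b', c', d') →
    dl (fun x => affFun (0, b, c, d) (affFun (0, b', c', d') x)) =
      dl (affFun (0, b, c, d)) ^^^ affFun (0, b, c, d) (dl (affFun (0, b', c', d'))) := by
  decide +kernel

theorem dl_lin {π : Fin 8 → Fin 8} (c : Fin 8) : dl (fun x => c ^^^ π x) = dl π := by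
  have key : ∀ c a b : Fin 8, (c ^^^ a) ^^^ (c ^^^ b) = a ^^^ b := by decide +kernel
  unfold dl lcode
  simp only [key]

theorem cocycle {π σ : Equiv.Perm (Fin 8)} (hπ : π ∈ agl) (hσ : σ ∈ agl) :
    dl ⇑(π * σ) = dl π ^^^ (π (dl σ) ^^^ π 0) := by
  set p : Fin 8 → Fin 8 := fun x => π 0 ^^^ π x
  set s : Fin 8 → Fin 8 := fun x => σ 0 ^^^ σ x
  have k : ∀ a b c : Fin 8, a ^^^ (b ^^^ c) = (a ^^^ b) ^^^ c ∧ (a ^^^ b = a ^^^ c → b = c) := by
    decide +kernel
  have lin : ∀ {f : Equiv.Perm (Fin 8)}, f ∈ agl → ∀ x,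
      affFun (0, f 0 ^^^ f 1, f 0 ^^^ f 2, f 0 ^^^ f 4) x = f 0 ^^^ f x ∧
        GoodT (0, f 0 ^^^ f 1, f 0 ^^^ f 2, f 0 ^^^ f 4) := by
    intro f hf x
    let g : Equiv.Perm (Fin 8) := V.toP (tV (f 0)) * f
    have hg : g ∈ agl := mul_mem (V_aff _) hf
    have hgx : ∀ y, g y = f 0 ^^^ f y := fun y => by
      show V.act (tV (f 0)) (f y) = _
      rw [tV_spec.2.2.2.1, (x8 (f y) (f 0) 0).2.2.2.1]
    have e : frame g = (0, f 0 ^^^ f 1, f 0 ^^^ f 2, f 0 ^^^ f 4) := by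
      simp only [frame, hgx, (x8 (f 0) 0 0).1]
    rw [← e]
    exact ⟨(affFun_frame hg x).trans (hgx x), good_frame hg⟩
  have h := cocycle_check _ _ _ (lin hπ 0).2 _ _ _ (lin hσ 0).2
  rw [funext fun x => (lin hπ x).1, funext fun x => (lin hσ x).1, dl_lin, dl_lin] at h
  have e : (fun x => π ((fun y => σ 0 ^^^ σ y) x)) = fun x => (π (σ 0) ^^^ π 0) ^^^ π (σ x) :=
    funext fun x => by
      show π (σ 0 ^^^ σ x) = _
      rw [hπ]
      have key : ∀ a b c : Fin 8, a ^^^ b ^^^ c = (a ^^^ c) ^^^ b := by decide +kernel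
      exact key _ _ _
  rw [e, dl_lin] at h
  show dl (fun x => π (σ x)) = _
  rw [h]
  show dl π ^^^ (π 0 ^^^ π (dl fun x => σ 0 ^^^ σ x)) = _
  rw [dl_lin, (x8 (π 0) (π (dl σ)) 0).2.2.2.1]

/-- The outer automorphism. -/
def alpha : agl →* agl where
  toFun π := pA (tV (dl π.1)) * π
  map_one' := by
    rw [show dl ⇑((1 : agl) : Equiv.Perm (Fin 8)) = 0 by decide +kernel, tV_spec.1, map_one, one_mul]
  map_mul' π σ := by
    refine Subtype.ext (Equiv.ext fun x => ?_)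
    show V.act (tV (dl ⇑(π.1 * σ.1))) (π.1 (σ.1 x)) =
      V.act (tV (dl π.1)) (π.1 (V.act (tV (dl σ.1)) (σ.1 x)))
    rw [tV_spec.2.2.2.1, tV_spec.2.2.2.1, tV_spec.2.2.2.1, cocycle π.2 σ.2, π.2]
    have key : ∀ a b c d : Fin 8, a ^^^ (d ^^^ (b ^^^ c)) = a ^^^ b ^^^ c ^^^ d := by decide +kernel
    exact key _ _ _ _

theorem alpha_apply (π : agl) (x : Fin 8) :
    (alpha π : Equiv.Perm (Fin 8)) x = (π : Equiv.Perm (Fin 8)) x ^^^ dl π.1 :=
  tV_spec.2.2.2.1 _ _

theorem alpha_inj : Function.Injective alpha := by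
  refine (injective_iff_map_eq_one _).2 fun π h => ?_
  have hx : ∀ x, (π : Equiv.Perm (Fin 8)) x = x ^^^ dl π.1 := fun x => by
    have e : (π : Equiv.Perm (Fin 8)) x ^^^ dl π.1 = x :=
      (alpha_apply π x).symm.trans (DFunLike.congr_fun (congrArg Subtype.val h) x)
    conv_rhs => rw [← e]
    rw [(x8 ((π : Equiv.Perm (Fin 8)) x) (dl π.1) 0).2.2.2.2.2.2]
  have key : ∀ d : Fin 8, dl (fun x => x ^^^ d) = 0 := by decide +kernel
  have hd : dl π.1 = 0 := by
    conv_lhs => rw [show ⇑(π : Equiv.Perm (Fin 8)) = fun x => x ^^^ dl π.1 from funext hx]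
    exact key _
  refine Subtype.ext (Equiv.ext fun x => ?_)
  rw [hx, hd]
  exact (x8 x 0 0).2.1

theorem V_fusion : (∃ t, GoodT t ∧ ∀ x, affFun t (V.act V.bV x) = V.act V.cV (affFun t x)) ∧
    (∃ t, GoodT t ∧ ∀ x, affFun t (V.act (V.mk' 47) x) = V.act (V.mk' 26) (affFun t x)) ∧
    (∃ t, GoodT t ∧ ∀ x, affFun t (V.act V.zV x) = V.act V.aV (affFun t x)) := by
  decide +kernel

theorem alpha_V : (∀ x, V.act V.zV x ^^^ dl (V.act V.zV) = V.act V.zV x) ∧
    (∃ v, (V.ty v = 4 ∨ V.ty v = 6) ∧ ∀ x, V.act V.bV x ^^^ dl (V.act V.bV) = V.act v x) ∧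
    (∃ v, (V.ty v = 3 ∨ V.ty v = 5) ∧ ∀ x, V.act (V.mk' 47) x ^^^ dl (V.act (V.mk' 47)) = V.act v x) := by
  decide +kernel

end Cfsg.Agent.Cent32
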