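import Mathlib
import Cfsg.Agent.Invol.Pair

/-!
The set inverted by an involution of a four-group acting on a group of odd order.
-/

set_option autoImplicit false

namespace Cfsg.Agent.Cent32

open Cfsg.Agent

variable {G : Type*} [Group G] [Finite G]

/-- A square root in a group of odd order. -/
theorem sqrt_unique {O : Subgroup G} (hodd : Odd (Nat.card O)) {a b : G} (ha : a ∈ O) (hb : b ∈ O)
    (h : a * a = b * b) : a = b := by
  obtain ⟨k, hk⟩ := hodd
  have key : ∀ u ∈ O, u = (u * u) ^ (k + 1) := fun u hu => by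
    have h1 : u ^ (2 * k + 1) = 1 :=
      orderOf_dvd_iff_pow_eq_one.1 (hk ▸ Subgroup.orderOf_dvd_natCard O hu)
    rw [← pow_two, ← pow_mul, show 2 * (k + 1) = (2 * k + 1) + 1 by ring, pow_succ, h1, one_mul]
  rw [key a ha, key b hb, h]

theorem sqrt_exists {O : Subgroup G} (hodd : Odd (Nat.card O)) {a : G} (ha : a ∈ O) :
    ∃ d ∈ O, d * d = a := by
  obtain ⟨k, hk⟩ := hodd
  refine ⟨a ^ (k + 1), pow_mem ha _, ?_⟩
  rw [← pow_add, show k + 1 + (k + 1) = (2 * k + 1) + 1 by ring, pow_succ,
    orderOf_dvd_iff_pow_eq_one.1 (hk ▸ Subgroup.orderOf_dvd_natCard O ha), one_mul]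

theorem card_inverted_le {O : Subgroup G} (hodd : Odd (Nat.card O)) {z t : G} (hz : z * z = 1)
    (ht : t * t = 1) (hzt : z * t = t * z) (nz : ∀ o ∈ O, z * o * z ∈ O)
    {m n : ℕ} (hm : Nat.card {o : G // o ∈ O ∧ z * o = o * z} ≤ m)
    (hn : Nat.card {o : G // o ∈ O ∧ t * z * o = o * (t * z)} ≤ n) :
    Nat.card {i : G // i ∈ O ∧ t * i * t = i⁻¹} ≤ m * n := by
  have key : ∀ i : {i : G // i ∈ O ∧ t * i * t = i⁻¹},
      ∃ e : {o : G // o ∈ O ∧ z * o = o * z}, ∃ d : {o : G // o ∈ O ∧ t * z * o = o * (t * z)},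
        (i : G) = e.1 * d.1 * e.1 := by
    rintro ⟨i, hi, hti⟩
    have hzi : z⁻¹ = z := inv_eq_of_mul_eq_one_right hz
    have hti' : t⁻¹ = t := inv_eq_of_mul_eq_one_right ht
    set j := z * i * z
    have hj : j ∈ O := nz i hi
    obtain ⟨d, hd, hd2⟩ := sqrt_exists hodd (mul_mem (inv_mem hj) hi : j⁻¹ * i ∈ O)
    have zd : z * d * z = d⁻¹ := by
      refine sqrt_unique hodd (nz d hd) (inv_mem hd) ?_
      calc z * d * z * (z * d * z) = z * (d * (z * z) * d) * z := by group
        _ = z * (j⁻¹ * i) * z := by rw [hz, mul_one, hd2]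
        _ = (z * z⁻¹) * (i⁻¹ * (z⁻¹ * i * z)) := by simp only [j]; group
        _ = (d * d)⁻¹ := by rw [hd2, hzi, hz, one_mul]; simp only [j, mul_inv_rev, inv_inv]
        _ = d⁻¹ * d⁻¹ := mul_inv_rev _ _
    set c := i * d⁻¹
    have hc : c ∈ O := mul_mem hi (inv_mem hd)
    have zc : z * c * z = c := by
      calc z * c * z = (z * i * z) * (z⁻¹ * d * z)⁻¹ := by simp only [c]; group
        _ = (z * i * z) * (z * d * z)⁻¹ := by rw [hzi]
        _ = j * (d * d) * d⁻¹ := by rw [zd]; simp only [j]; group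
        _ = c := by rw [hd2]; simp only [c]; group
    have tjt : t * j * t = j⁻¹ := by
      calc t * j * t = (t * z) * i * (z * t) := by simp only [j]; group
        _ = (z * t) * i * (t * z) := by rw [hzt]
        _ = z * (t * i * t) * z := by group
        _ = j⁻¹ := by rw [hti]; simp only [j]; rw [mul_inv_rev, mul_inv_rev, hzi]; group
    have tdt : t * d * t = i * d⁻¹ * i⁻¹ := by
      have h1 : (t * d * t) * (t * d * t) = j * i⁻¹ := by
        calc t * d * t * (t * d * t) = t * (d * (t * t) * d) * t := by group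
          _ = t * (j⁻¹ * i) * t := by rw [ht, mul_one, hd2]
          _ = (t * j⁻¹ * t⁻¹) * (t * i * t) := by group
          _ = j * i⁻¹ := by
            rw [hti, show t * j⁻¹ * t⁻¹ = (t * j * t⁻¹)⁻¹ by group, hti', tjt, inv_inv]
      have hO' : t * d * t ∈ O := by
        obtain ⟨k, hk⟩ := hodd
        have e : t * d * t = (t * d * t * (t * d * t)) ^ (k + 1) := by
          rw [← pow_two, ← pow_mul, show 2 * (k + 1) = (2 * k + 1) + 1 by ring, pow_succ]
          have : (t * d * t) ^ (2 * k + 1) = 1 := by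
            nth_rewrite 2 [← hti']
            rw [conj_pow, orderOf_dvd_iff_pow_eq_one.1 (hk ▸ Subgroup.orderOf_dvd_natCard O hd)]
            group
          rw [this, one_mul]
        rw [e, h1]
        exact pow_mem (mul_mem hj (inv_mem hi)) _
      refine sqrt_unique hodd hO' (mul_mem (mul_mem hi (inv_mem hd)) (inv_mem hi)) ?_
      rw [h1, show i * d⁻¹ * i⁻¹ * (i * d⁻¹ * i⁻¹) = i * (d * d)⁻¹ * i⁻¹ by group, hd2]
      group
    have tct : t * c * t = c⁻¹ := by
      calc t * c * t = (t * i * t) * (t⁻¹ * d⁻¹ * t⁻¹ * (t * t)) := by simp only [c]; group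
        _ = i⁻¹ * (t * d * t)⁻¹ := by rw [hti, ht]; group
        _ = c⁻¹ := by rw [tdt]; simp only [c]; group
    have tzd : t * z * d * (t * z) = c * d * c⁻¹ := by
      calc t * z * d * (t * z) = t * z * d * (z * t) := by rw [hzt]
        _ = (t * (z * d * z) * t⁻¹) * (t * t) := by group
        _ = (t * d * t⁻¹)⁻¹ := by rw [zd, ht]; group
        _ = c * d * c⁻¹ := by rw [hti', tdt]; simp only [c]; group
    obtain ⟨e, he, he2⟩ := sqrt_exists hodd hc
    have ze : z * e * z = e := sqrt_unique hodd (nz e he) he (by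
      calc z * e * z * (z * e * z) = z * (e * (z * z) * e) * z := by group
        _ = e * e := by rw [hz, mul_one, he2, zc])
    have te : t * e * t = e⁻¹ := by
      obtain ⟨k, hk⟩ := hodd
      have h1 : t * e * t * (t * e * t) = c⁻¹ := by
        calc t * e * t * (t * e * t) = t * (e * (t * t) * e) * t := by group
          _ = c⁻¹ := by rw [ht, mul_one, he2, tct]
      have e1 : t * e * t = (t * e * t * (t * e * t)) ^ (k + 1) := by
        rw [← pow_two, ← pow_mul, show 2 * (k + 1) = (2 * k + 1) + 1 by ring, pow_succ]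
        have : (t * e * t) ^ (2 * k + 1) = 1 := by
          nth_rewrite 2 [← hti']
          rw [conj_pow, orderOf_dvd_iff_pow_eq_one.1 (hk ▸ Subgroup.orderOf_dvd_natCard O he)]
          group
        rw [this, one_mul]
      have e2 : e = (e * e) ^ (k + 1) := by
        rw [← pow_two, ← pow_mul, show 2 * (k + 1) = (2 * k + 1) + 1 by ring, pow_succ,
          orderOf_dvd_iff_pow_eq_one.1 (hk ▸ Subgroup.orderOf_dvd_natCard O he), one_mul]
      rw [e1, h1]
      conv_rhs => rw [e2, he2]
      rw [inv_pow]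
    refine ⟨⟨e, he, ?_⟩, ⟨e * d * e⁻¹, mul_mem (mul_mem he hd) (inv_mem he), ?_⟩, ?_⟩
    · calc z * e = z * e * (z * z) := by rw [hz, mul_one]
        _ = (z * e * z) * z := by group
        _ = e * z := by rw [ze]
    · have htz2 : t * z * (t * z) = 1 := by
        rw [mul_assoc, ← mul_assoc z t z, hzt, mul_assoc t z, hz, mul_one, ht]
      have htze : t * z * e * (t * z) = e⁻¹ := by
        calc t * z * e * (t * z) = t * z * e * (z * t) := by rw [hzt]
          _ = t * (z * e * z) * t := by group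
          _ = e⁻¹ := by rw [ze, te]
      have inv_tz : (t * z)⁻¹ = t * z := inv_eq_of_mul_eq_one_right htz2
      refine mul_inv_eq_iff_eq_mul.1 ?_
      calc t * z * (e * d * e⁻¹) * (t * z)⁻¹
          = (t * z * e * (t * z)⁻¹) * (t * z * d * (t * z)⁻¹) * (t * z * e * (t * z)⁻¹)⁻¹ := by group
        _ = e⁻¹ * (c * d * c⁻¹) * e⁻¹⁻¹ := by rw [inv_tz, htze, tzd]
        _ = e * d * e⁻¹ := by rw [← he2]; group
    · show i = e * (e * d * e⁻¹) * e
      calc i = c * d := by simp only [c]; group
        _ = e * e * d := by rw [he2]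
        _ = e * (e * d * e⁻¹) * e := by group
  choose E D hED using key
  refine le_trans (Nat.card_le_card_of_injective (fun i => (E i, D i)) fun i j h => ?_) ?_
  · obtain ⟨h1, h2⟩ := Prod.ext_iff.1 h
    refine Subtype.ext ?_
    rw [hED i, hED j]
    simp only at h1 h2
    rw [h1, h2]
  · rw [Nat.card_prod]; exact Nat.mul_le_mul hm hn

end Cfsg.Agent.Cent32
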