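import Cfsg.Agent.Cent32.Triples
import Cfsg.Agent.Cent32.Inverted
import Mathlib.GroupTheory.Transfer

/-!
The two groups define the same element on every triple.
-/

set_option autoImplicit false
set_option maxRecDepth 8000

namespace Cfsg.Agent.Cent32

universe u

variable {G : Type u} [Group G] [Finite G] {z : G}

namespace Seeded

variable (S : Seeded z)

/-- The odd part of the centralizer of `ι rV` has a small inverted set. -/
theorem card_inverted : ∃ O : Subgroup G, (∀ y, y * S.ι V.rV = S.ι V.rV * y → ¬ 2 ∣ orderOf y → y ∈ O) ∧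
    Nat.card {i : G // i ∈ O ∧ S.ι V.tV' * i * S.ι V.tV' = i⁻¹} ≤ 9 := by
  classical
  haveI : Fact (Nat.Prime 2) := ⟨Nat.prime_two⟩
  obtain ⟨hr6, hr3, hr1, htr, htz, htt⟩ := V.rV_cent
  set h := S.A.toV
  set r := S.ι V.rV
  set t := S.ι V.tV'
  set K := Subgroup.centralizer ({r} : Set G)
  have hzr : z * r = r * z := (h.comm _).symm
  let zK : K := ⟨z, Subgroup.mem_centralizer_singleton_iff.2 hzr⟩
  have h6 : Nat.card ↥(Subgroup.centralizer ({zK} : Set K)) = 6 := by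
    rw [← hr6, ← Fintype.card_subtype, ← Nat.card_eq_fintype_card]
    symm
    refine Nat.card_congr (Equiv.ofBijective
      (fun y : {y : V // y * V.rV = V.rV * y} => (⟨⟨h.ι y.1, Subgroup.mem_centralizer_singleton_iff.2
        ((h.comm_iff _ _).2 y.2)⟩, Subgroup.mem_centralizer_singleton_iff.2 (Subtype.ext (h.comm y.1))⟩ :
        ↥(Subgroup.centralizer ({zK} : Set K)))) ⟨?_, ?_⟩)
    · intro a b e
      exact Subtype.ext (h.inj (congrArg (fun x : ↥(Subgroup.centralizer ({zK} : Set K)) => ((x : K) : G)) e))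
    · rintro ⟨⟨y, hy⟩, hy'⟩
      obtain ⟨v, rfl⟩ := h.mem_range (congrArg Subtype.val (Subgroup.mem_centralizer_singleton_iff.1 hy'))
      exact ⟨⟨v, (h.comm_iff _ _).1 (Subgroup.mem_centralizer_singleton_iff.1 hy)⟩, rfl⟩
  have hzK : orderOf zK = 2 := by rw [← Subgroup.orderOf_coe]; exact h.hz
  obtain ⟨P, hP⟩ := (IsPGroup.of_card (p := 2) (n := 1) (by rw [Nat.card_zpowers, hzK, pow_one]) :
    IsPGroup 2 (Subgroup.zpowers zK)).exists_le_sylow
  have hzP : zK ∈ (P : Subgroup K) := hP (Subgroup.mem_zpowers zK)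
  -- the Sylow subgroup centralises the involution
  have hPle : (P : Subgroup K) ≤ Subgroup.centralizer ({zK} : Set K) := by
    haveI : Nontrivial (P : Subgroup K) :=
      ⟨⟨⟨zK, hzP⟩, 1, fun e => Invol.ne_one hzK (congrArg Subtype.val e)⟩⟩
    haveI := P.2.center_nontrivial
    obtain ⟨c, hc1⟩ := exists_ne (1 : Subgroup.center (P : Subgroup K))
    have hcc : ∀ p : (P : Subgroup K), p * c.1 = c.1 * p := Subgroup.mem_center_iff.1 c.2
    have hcz : (c.1 : K) ∈ Subgroup.centralizer ({zK} : Set K) := Subgroup.mem_centralizer_singleton_iff.2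
      (congrArg Subtype.val (hcc ⟨zK, hzP⟩)).symm
    obtain ⟨k, hk⟩ := P.2 c.1
    have hk' : (c.1 : K) ^ 2 ^ k = 1 := by exact_mod_cast congrArg Subtype.val hk
    have hdvd : orderOf (c.1 : K) ∣ 2 := by
      refine Nat.Coprime.dvd_of_dvd_mul_right (k := orderOf (c.1 : K)) (n := 3) (m := 2) ?_ ?_
      · exact Nat.Coprime.coprime_dvd_left (orderOf_dvd_of_pow_eq_one hk')
          ((show Nat.Coprime 2 3 by norm_num).pow_left k)
      · exact (h6 ▸ Subgroup.orderOf_dvd_natCard _ hcz : orderOf (c.1 : K) ∣ 6)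
    have hc2 : (c.1 : K) * c.1 = 1 := by rw [← pow_two]; exact orderOf_dvd_iff_pow_eq_one.1 hdvd
    obtain ⟨v, hv⟩ := h.mem_range (congrArg Subtype.val (Subgroup.mem_centralizer_singleton_iff.1 hcz))
    have hvr : v * V.rV = V.rV * v := (h.comm_iff _ _).1 (by
      rw [hv]; exact Subgroup.mem_centralizer_singleton_iff.1 (c.1 : K).2)
    have key : ∀ v : V, v * V.rV = V.rV * v → v * v = 1 → v = 1 ∨ v = V.zV := by decide +kernel
    have hc0 : (c.1 : K) = zK := by
      rcases key v hvr (h.inj (by rw [map_mul, hv, map_one]; exact congrArg Subtype.val hc2)) with e | e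
      · refine absurd (Subtype.ext (Subtype.ext (Subtype.ext ?_))) hc1
        show ((c.1 : K) : G) = 1
        rw [← hv, e, map_one]
      · refine Subtype.ext ?_
        show ((c.1 : K) : G) = z
        rw [← hv, e, h.ι_z]
    intro p hp
    exact Subgroup.mem_centralizer_singleton_iff.2 (hc0 ▸ congrArg Subtype.val (hcc ⟨p, hp⟩))
  obtain ⟨k, hk⟩ := IsPGroup.iff_card.1 P.2
  have hP2 : Nat.card (P : Subgroup K) = 2 := by
    have h1 : Nat.card (P : Subgroup K) ∣ 2 := by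
      refine Nat.Coprime.dvd_of_dvd_mul_right (n := 3) (m := 2) ?_ (h6 ▸ Subgroup.card_dvd_of_le hPle : Nat.card (P : Subgroup K) ∣ 6)
      rw [hk]; exact (show Nat.Coprime 2 3 by norm_num).pow_left k
    rcases (Nat.dvd_prime Nat.prime_two).1 h1 with e | e
    · have := Subgroup.orderOf_dvd_natCard (P : Subgroup K) hzP
      rw [hzK, e] at this; norm_num at this
    · exact e
  have hPz : Subgroup.zpowers zK = (P : Subgroup K) :=
    Subgroup.eq_of_le_of_card_ge hP (by rw [hP2, Nat.card_zpowers, hzK])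
  have hnorm : Subgroup.normalizer ((P : Subgroup K) : Set K) ≤ Subgroup.centralizer ((P : Subgroup K) : Set K) := by
    intro n hn
    rw [← hPz] at hn ⊢
    have hm := (Subgroup.mem_normalizer_iff.1 hn zK).1 (Subgroup.mem_zpowers zK)
    have hzz : n * zK * n⁻¹ = zK := by
      obtain ⟨i, hi⟩ := hm
      have hi' : zK ^ i = n * zK * n⁻¹ := hi
      rcases Int.even_or_odd' i with ⟨j, rfl | rfl⟩
      · rw [zpow_mul, show zK ^ (2 : ℤ) = 1 by
          rw [zpow_two]; exact Invol.mul_self_eq_one hzK, one_zpow, eq_comm, conj_eq_one_iff] at hi'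
        exact absurd hi' (Invol.ne_one hzK)
      · rw [zpow_add, zpow_mul, show zK ^ (2 : ℤ) = 1 by
          rw [zpow_two]; exact Invol.mul_self_eq_one hzK, one_zpow, one_mul, zpow_one] at hi'
        exact hi'.symm
    refine Subgroup.mem_centralizer_iff.2 fun p hp => ?_
    obtain ⟨i, rfl⟩ := hp
    exact ((show Commute n zK from mul_inv_eq_iff_eq_mul.1 hzz).zpow_right i).eq.symm
  have hcompl := MonoidHom.ker_transferSylow_isComplement' P hnorm
  set f := MonoidHom.transferSylow P hnorm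
  set O := f.ker.map K.subtype
  have hoddK : Odd (Nat.card f.ker) := by
    rw [← Nat.not_even_iff_odd, even_iff_two_dvd]
    exact MonoidHom.not_dvd_card_ker_transferSylow P hnorm
  have hcardO : Nat.card O = Nat.card f.ker :=
    (Nat.card_congr (f.ker.equivMapOfInjective K.subtype K.subtype_injective).toEquiv).symm
  have hoddO : Odd (Nat.card O) := hcardO ▸ hoddK
  have hO : ∀ y, y * r = r * y → ¬ 2 ∣ orderOf y → y ∈ O := by
    intro y hy ho
    refine ⟨⟨y, Subgroup.mem_centralizer_singleton_iff.2 hy⟩, ?_, rfl⟩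
    show _ ∈ f.ker
    rw [MonoidHom.mem_ker, ← orderOf_eq_one_iff]
    refine Nat.eq_one_of_dvd_coprimes ?_ (orderOf_map_dvd f _) (orderOf_dvd_natCard _)
    rw [hP2, Subgroup.orderOf_mk]
    exact (Nat.prime_two.coprime_iff_not_dvd.2 ho).symm
  have hOK : ∀ o ∈ O, o * r = r * o := by
    rintro _ ⟨o, -, rfl⟩; exact Subgroup.mem_centralizer_singleton_iff.1 o.2
  have hzz := Invol.mul_self_eq_one h.hz
  have htt' : t * t = 1 := by simp only [t]; rw [← map_mul, htt, map_one]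
  have hzi : z⁻¹ = z := inv_eq_of_mul_eq_one_right hzz
  have nz : ∀ o ∈ O, z * o * z ∈ O := by
    intro o ho
    refine hO _ ?_ ?_
    · exact (((show Commute z r from hzr).mul_left (show Commute o r from hOK o ho)).mul_left
        (show Commute z r from hzr)).eq
    · have : orderOf (z * o * z) = orderOf o := by
        conv_lhs => arg 1; arg 2; rw [← hzi]
        exact Invol.orderOf_conj z o
      rw [this]
      intro h2
      exact (Nat.not_even_iff_odd.2 hoddO) (even_iff_two_dvd.2 (h2.trans (Subgroup.orderOf_dvd_natCard O ho)))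
  have small : ∀ (H : Subgroup G), H ≤ O → ∀ (c : G), (∀ x ∈ H, c * x * c⁻¹ * z = z * (c * x * c⁻¹)) →
      Nat.card H ≤ 3 := by
    intro H hHO c hc
    have hle : H.map (MulAut.conj c).toMonoidHom ≤ Subgroup.centralizer ({z} : Set G) := by
      rintro _ ⟨x, hx, rfl⟩
      exact Subgroup.mem_centralizer_singleton_iff.2 (hc x hx)
    have h1 := Subgroup.card_dvd_of_le hle
    rw [← Nat.card_congr (H.equivMapOfInjective (MulAut.conj c).toMonoidHom (MulAut.conj c).injective).toEquiv,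
      h.card_cent] at h1
    exact odd_dvd_192 _ (Nat.mem_divisors.2 ⟨h1, by norm_num⟩) fun h2 =>
      (Nat.not_even_iff_odd.2 hoddO) (even_iff_two_dvd.2 (h2.trans (Subgroup.card_dvd_of_le hHO)))
  refine ⟨O, hO, le_trans (card_inverted_le hoddO hzz htt' (h.comm _).symm nz (m := 3) (n := 3) ?_ ?_) le_rfl⟩
  · have := small (O ⊓ Subgroup.centralizer ({z} : Set G)) inf_le_left 1 fun x hx => by
      rw [one_mul, inv_one, mul_one]
      exact Subgroup.mem_centralizer_singleton_iff.1 hx.2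
    refine le_trans (le_of_eq (Nat.card_congr (Equiv.subtypeEquivRight fun x => ?_))) this
    show _ ↔ x ∈ O ⊓ Subgroup.centralizer ({z} : Set G)
    rw [Subgroup.mem_inf, Subgroup.mem_centralizer_singleton_iff, eq_comm (a := z * x)]
  · have hty := V.plane_ty.2.2.2.2.2.2.2
    have hc : IsConj z (h.ι (V.tV' * V.zV)) := (S.good _ (by omega)).2 (by omega)
    obtain ⟨c, hc⟩ := isConj_iff.1 hc.symm
    rw [map_mul, h.ι_z] at hc
    change c * (t * z) * c⁻¹ = z at hc
    have := small (O ⊓ Subgroup.centralizer ({t * z} : Set G)) inf_le_left c fun x hx => by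
      have e := Subgroup.mem_centralizer_singleton_iff.1 hx.2
      rw [← hc, show c * x * c⁻¹ * (c * (t * z) * c⁻¹) = c * (x * (t * z)) * c⁻¹ by group, e]
      group
    refine le_trans (le_of_eq (Nat.card_congr (Equiv.subtypeEquivRight fun x => ?_))) this
    show _ ↔ x ∈ O ⊓ Subgroup.centralizer ({t * z} : Set G)
    rw [Subgroup.mem_inf, Subgroup.mem_centralizer_singleton_iff, eq_comm (a := t * z * x)]

theorem x_ne_wxw : S.ι V.wV * S.x * (S.ι V.wV)⁻¹ ≠ S.x ∧ S.ι V.wV * S.x * (S.ι V.wV)⁻¹ ≠ S.x⁻¹ := by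
  obtain ⟨w1, -, w3, -, -⟩ := V.plane_w
  set w := S.ι V.wV
  have c1 : w * S.x * w⁻¹ * S.ι V.u1 * (w * S.x * w⁻¹)⁻¹ = S.ι V.u1 := by
    have e : w * S.ι V.dB * w⁻¹ = S.ι V.u1 := by
      simp only [w]; rw [← map_inv, ← map_mul, ← map_mul, w3]
    rw [← e]
    calc w * S.x * w⁻¹ * (w * S.ι V.dB * w⁻¹) * (w * S.x * w⁻¹)⁻¹
        = w * (S.x * S.ι V.dB * S.x⁻¹) * w⁻¹ := by group
      _ = w * S.ι V.dB * w⁻¹ := by rw [S.isX.hB]
  have hne : S.x * S.ι V.u1 * S.x⁻¹ ≠ S.ι V.u1 := fun e => by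
    rw [S.isX.h1] at e
    exact absurd (S.A.toV.inj e) (by decide +kernel)
  refine ⟨fun e => hne (by rw [← e]; exact c1), fun e => hne ?_⟩
  rw [e] at c1
  conv_lhs => rw [← c1]
  group

theorem x_ne_one : S.x ≠ 1 := fun e => by
  have := S.isX.h1
  rw [e, one_mul, inv_one, mul_one] at this
  exact absurd (S.A.toV.inj this) (by decide +kernel)

theorem g0_g2_rel : S.A.ι hA * S.B.ι hA =
    (S.ι V.wV * S.x * (S.ι V.wV)⁻¹) * (S.ι V.wV * S.x * (S.ι V.wV)⁻¹) := by
  rw [S.relA, S.relB]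
  set c := S.ι V.wV * S.x * (S.ι V.wV)⁻¹
  rw [mul_assoc S.x c, ← mul_assoc c S.x⁻¹, show c * S.x⁻¹ = S.x⁻¹ * c from S.comm_x_wxw.inv_left.eq.symm]
  group

theorem agree_base : S.T0 0 2 4 = S.T2 0 2 4 := by
  classical
  set h := S.A.toV
  obtain ⟨hr6, hr3, hr1, htr, htz, htt⟩ := V.rV_cent
  obtain ⟨g1, g2, q1, q2, q3, q4, q5⟩ := pi_facts
  obtain ⟨π, hπ⟩ := exists_aff g1
  obtain ⟨π2, hπ2⟩ := exists_aff g2
  set w := S.ι V.wV
  set c := w * S.x * w⁻¹
  set r := S.ι V.rV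
  set P := S.T0 0 2 4 with hPd
  set Q := S.T0 1 3 5 with hQd
  set P2 := S.T2 0 2 4 with hP2d
  set Q2 := S.T2 1 3 5 with hQ2d
  -- translation to the seeds
  have eP : S.A.ι π * S.x * (S.A.ι π)⁻¹ = P := by
    rw [← S.T0_base, S.T0_map π (by decide : Dist 0 1 2), hπ, hπ, hπ]; rfl
  have eW : S.A.ι π * w * (S.A.ι π)⁻¹ = z := by
    show S.A.ι π * S.A.ι (pA V.wV) * (S.A.ι π)⁻¹ = z
    rw [← map_inv, ← map_mul, ← map_mul]
    refine Eq.trans (congrArg S.A.ι ?_) S.A.ι_z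
    rw [mul_inv_eq_iff_eq_mul]
    refine Subtype.ext (Equiv.ext fun p => ?_)
    show (π : Equiv.Perm (Fin 8)) (V.act V.wV p) = V.act V.zV ((π : Equiv.Perm (Fin 8)) p)
    rw [hπ, hπ, q1]
  have pz := V.points.2.2.2.1
  simp only [List.cons.injEq, and_true] at pz
  have ezP : z * P * z⁻¹ = Q := by
    have := S.T0_V V.zV (by decide : Dist 0 2 4)
    rw [pz.1, pz.2.1, pz.2.2] at this
    rwa [show S.ι V.zV = z from h.ι_z] at this
  have ezP2 : z * P2 * z⁻¹ = Q2 := by
    have := S.T2_V V.zV (by decide : Dist 0 2 4)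
    rw [pz.1, pz.2.1, pz.2.2] at this
    rwa [show S.ι V.zV = z from h.ι_z] at this
  have eC : S.A.ι π * c * (S.A.ι π)⁻¹ = Q := by
    calc S.A.ι π * c * (S.A.ι π)⁻¹
        = S.A.ι π * w * (S.A.ι π)⁻¹ * (S.A.ι π * S.x * (S.A.ι π)⁻¹) * (S.A.ι π * w * (S.A.ι π)⁻¹)⁻¹ := by
          simp only [c]; group
      _ = Q := by rw [eW, eP, ezP]
  have er : P * Q = r := by
    rw [← eP, ← eC, show S.A.ι π * S.x * (S.A.ι π)⁻¹ * (S.A.ι π * c * (S.A.ι π)⁻¹) =
      S.A.ι π * (S.x * c) * (S.A.ι π)⁻¹ by group, ← S.relA]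
    show S.A.ι π * S.A.ι hA * (S.A.ι π)⁻¹ = S.A.ι (pA V.rV)
    rw [← map_inv, ← map_mul, ← map_mul]
    congr 1
    rw [mul_inv_eq_iff_eq_mul]
    refine Subtype.ext (Equiv.ext fun p => ?_)
    show (π : Equiv.Perm (Fin 8)) (hP p) = V.act V.rV ((π : Equiv.Perm (Fin 8)) p)
    rw [hπ, hπ, q2]
  have hPQ : Commute P Q := by
    rw [← eP, ← eC]
    exact S.comm_x_wxw.conj _
  -- the second group
  simp only [List.cons.injEq, and_true] at q4 q5
  have eP2 : S.B.ι π2 * S.x * (S.B.ι π2)⁻¹ = P2 := by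
    rw [← S.T2_base, S.T2_map π2 (by decide : Dist 0 1 2), hπ2, hπ2, hπ2, q4.1, q4.2.1, q4.2.2]
  have eC2 : S.B.ι π2 * c * (S.B.ι π2)⁻¹ = Q2⁻¹ := by
    have e := S.T2_map π2 (by decide : Dist 4 5 6)
    rw [S.T2_wxw, hπ2, hπ2, hπ2, q5.1, q5.2.1, q5.2.2] at e
    rw [e, ← S.T2_rot (by decide : Dist 3 1 5), S.T2_swap (by decide : Dist 5 1 3)]
    rw [inv_inj]
    exact (S.T2_rot (by decide : Dist 5 1 3)).symm
  have er2 : Q2 * P2 = r := by
    have e : P2⁻¹ * Q2⁻¹ = r⁻¹ := by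
      rw [← eP2, ← eC2, show (S.B.ι π2 * S.x * (S.B.ι π2)⁻¹)⁻¹ * (S.B.ι π2 * c * (S.B.ι π2)⁻¹) =
        S.B.ι π2 * (S.x⁻¹ * c) * (S.B.ι π2)⁻¹ by group, ← S.relB]
      have e2 : (r⁻¹ : G) = S.A.ι (pA V.rV⁻¹) := (map_inv h.ι V.rV).symm
      rw [e2, ← S.agree, ← map_inv, ← map_mul, ← map_mul]
      congr 1
      rw [mul_inv_eq_iff_eq_mul]
      refine Subtype.ext (Equiv.ext fun p => ?_)
      show (π2 : Equiv.Perm (Fin 8)) (hP p) = V.act (sigmaV V.rV⁻¹) ((π2 : Equiv.Perm (Fin 8)) p)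
      rw [hπ2, hπ2, q3]
    rw [← mul_inv_rev, inv_inj] at e
    exact e
  have hPQ2 : Commute P2 Q2 := by
    have := S.comm_x_wxw.conj (S.B.ι π2)
    rw [eP2, eC2] at this
    exact Commute.inv_right_iff.1 this
  -- orders
  have cube : ∀ g : G, (g * S.x * g⁻¹) ^ 3 = 1 := fun g => by rw [conj_pow, S.isX.cube]; group
  have hP3 : P ^ 3 = 1 := eP ▸ cube _
  have hP23 : P2 ^ 3 = 1 := eP2 ▸ cube _
  have odd3 : ∀ y : G, y ^ 3 = 1 → ¬ 2 ∣ orderOf y := fun y e h2 => by
    have := h2.trans (orderOf_dvd_of_pow_eq_one e)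
    norm_num at this
  have hr : r ^ 3 = 1 := by simp only [r]; rw [← map_pow, hr3, map_one]
  have cr : Commute P r := by rw [← er]; exact (Commute.refl P).mul_right hPQ
  have cr2 : Commute P2 r := by rw [← er2]; exact hPQ2.mul_right (Commute.refl P2)
  obtain ⟨O, hO, hI⟩ := S.card_inverted
  set t := S.ι V.tV'
  have hti : t⁻¹ = t := by
    refine inv_eq_of_mul_eq_one_right ?_
    simp only [t]; rw [← map_mul, htt, map_one]
  have pt := V.points.2.2.2.2.1
  simp only [List.cons.injEq, and_true] at pt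
  have htP : t * P * t = P⁻¹ := by
    have := S.T0_V V.tV' (by decide : Dist 0 2 4)
    rw [pt.1, pt.2.1, pt.2.2] at this
    have e : S.T0 0 4 2 = P⁻¹ := by
      rw [← S.T0_rot (by decide : Dist 0 4 2), S.T0_swap (by decide : Dist 2 4 0),
        S.T0_rot (by decide : Dist 0 2 4)]
    conv_lhs => arg 2; rw [← hti]
    exact this.trans e
  have htP2 : t * P2 * t = P2⁻¹ := by
    have := S.T2_V V.tV' (by decide : Dist 0 2 4)
    rw [pt.1, pt.2.1, pt.2.2] at this
    have e : S.T2 0 4 2 = P2⁻¹ := by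
      rw [← S.T2_rot (by decide : Dist 0 4 2), S.T2_swap (by decide : Dist 2 4 0),
        S.T2_rot (by decide : Dist 0 2 4)]
    conv_lhs => arg 2; rw [← hti]
    exact this.trans e
  have htr' : t * r * t = r⁻¹ := by
    conv_lhs => arg 2; rw [← hti]
    simp only [t, r]; rw [← map_inv, ← map_inv, ← map_mul, ← map_mul, htr]
  let Inv := {i : G // i ∈ O ∧ t * i * t = i⁻¹}
  have hinI : ∀ i j : ℕ, r ^ i * P ^ j ∈ O ∧ t * (r ^ i * P ^ j) * t = (r ^ i * P ^ j)⁻¹ := by
    intro i j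
    refine ⟨mul_mem (pow_mem (hO r rfl (odd3 r hr)) i) (pow_mem (hO P cr.eq (odd3 P hP3)) j), ?_⟩
    conv_lhs => arg 2; rw [← hti]
    rw [show t * (r ^ i * P ^ j) * t⁻¹ = (t * r ^ i * t⁻¹) * (t * P ^ j * t⁻¹) by group, ← conj_pow,
      ← conj_pow, hti, htr', htP, inv_pow, inv_pow, ← mul_inv_rev, (cr.pow_pow j i).eq]
  let F : Fin 3 × Fin 3 → Inv := fun p => ⟨r ^ p.1.1 * P ^ p.2.1, hinI _ _⟩
  have hzr : z * r = r * z := (h.comm _).symm
  have hPz : z * P ≠ P * z := by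
    intro e
    rw [e, mul_inv_cancel_right, ← eC, ← eP] at ezP
    exact S.x_ne_wxw.1 (mul_left_cancel (mul_right_cancel ezP)).symm
  have hF : Function.Injective F := by
    rintro ⟨i, j⟩ ⟨k, l⟩ e
    have e' : r ^ i.1 * P ^ j.1 = r ^ k.1 * P ^ l.1 := congrArg Subtype.val e
    have hjl : j = l := by
      by_contra hne
      refine hPz ?_
      have hm : z * P ^ ((j.1 : ℤ) - l.1) = P ^ ((j.1 : ℤ) - l.1) * z := by
        have : P ^ ((j.1 : ℤ) - l.1) = r ^ ((k.1 : ℤ) - i.1) := by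
          rw [zpow_sub, zpow_sub, zpow_natCast, zpow_natCast, zpow_natCast, zpow_natCast]
          calc P ^ j.1 * (P ^ l.1)⁻¹ = (r ^ i.1)⁻¹ * (r ^ i.1 * P ^ j.1) * (P ^ l.1)⁻¹ := by group
            _ = (r ^ i.1)⁻¹ * r ^ k.1 := by rw [e']; group
            _ = r ^ k.1 * (r ^ i.1)⁻¹ := ((Commute.refl r).pow_pow _ _).inv_left.eq
        rw [this]
        exact ((show Commute z r from hzr).zpow_right _).eq
      have h3 : P ^ (3 : ℤ) = 1 := by exact_mod_cast hP3
      obtain ⟨d, hd⟩ : ∃ d : ℤ, d = (j.1 : ℤ) - l.1 := ⟨_, rfl⟩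
      rw [← hd] at hm
      have hj := j.2; have hl := l.2
      have hjl' : j.1 ≠ l.1 := fun e => hne (Fin.ext e)
      obtain ⟨q, hq⟩ : ∃ q : ℤ, P = (P ^ d) ^ q := by
        have h7 : d = -2 ∨ d = -1 ∨ d = 1 ∨ d = 2 := by omega
        rcases h7 with rfl | rfl | rfl | rfl
        · exact ⟨1, by rw [← zpow_mul, show (-2 : ℤ) * 1 = 1 + (-3) by norm_num, zpow_add, zpow_neg, h3]; simp⟩
        · exact ⟨-1, by simp⟩
        · exact ⟨1, by simp⟩
        · exact ⟨2, by rw [← zpow_mul, show (2 : ℤ) * 2 = 1 + 3 by norm_num, zpow_add, h3]; simp⟩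
      rw [hq]
      exact ((show Commute z (P ^ d) from hm).zpow_right q).eq
    subst hjl
    have e2 := mul_right_cancel e'
    have ho : orderOf r = 3 := by
      haveI : Fact (Nat.Prime 3) := ⟨Nat.prime_three⟩
      exact orderOf_eq_prime hr (fun e => hr1 (h.inj (e.trans (map_one h.ι).symm)))
    have := pow_injOn_Iio_orderOf (x := r) (by rw [ho]; exact i.2) (by rw [ho]; exact k.2) e2
    exact Prod.ext (Fin.ext this) rfl
  have hsurj : Function.Surjective F := by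
    have hb := (Nat.bijective_iff_injective_and_card F).2 ⟨hF, le_antisymm
      (Nat.card_le_card_of_injective F hF) (by rw [Nat.card_prod, Nat.card_fin]; exact hI)⟩
    exact hb.2
  obtain ⟨⟨i, j⟩, hij⟩ := hsurj ⟨P2, hO P2 cr2.eq (odd3 P2 hP23), htP2⟩
  have hij' : r ^ i.1 * P ^ j.1 = P2 := congrArg Subtype.val hij
  have hQ2 : Q2 = r ^ i.1 * Q ^ j.1 := by
    rw [← ezP2, ← hij', show z * (r ^ i.1 * P ^ j.1) * z⁻¹ = (z * r ^ i.1 * z⁻¹) * (z * P ^ j.1 * z⁻¹) by group,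
      ← conj_pow, ← conj_pow, ezP, hzr, mul_inv_cancel_right]
  have hmod : r ^ (2 * i.1 + j.1) = r := by
    conv_rhs => rw [← er2, hQ2, ← hij']
    rw [show r ^ i.1 * Q ^ j.1 * (r ^ i.1 * P ^ j.1) = r ^ i.1 * (Q ^ j.1 * r ^ i.1) * P ^ j.1 by group]
    have cq : Commute Q r := by rw [← er]; exact hPQ.symm.mul_right (Commute.refl Q)
    rw [(cq.pow_pow j.1 i.1).eq, mul_assoc, mul_assoc, ← hPQ.symm.mul_pow, ← hPQ.eq, er, ← pow_add, ← pow_add]
    congr 1; omega
  have ho : orderOf r = 3 := by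
    haveI : Fact (Nat.Prime 3) := ⟨Nat.prime_three⟩
    exact orderOf_eq_prime hr (fun e => hr1 (h.inj (e.trans (map_one h.ι).symm)))
  have hmod' : (2 * i.1 + j.1) % 3 = 1 := by
    have := (pow_eq_pow_iff_modEq (x := r) (n := 2 * i.1 + j.1) (m := 1)).1 (hmod.trans (pow_one r).symm)
    rw [ho] at this
    exact this
  have hcases : (i.1 = 0 ∧ j.1 = 1) ∨ (i.1 = 1 ∧ j.1 = 2) ∨ (i.1 = 2 ∧ j.1 = 0) := by
    have := i.2; have := j.2; omega
  rcases hcases with ⟨hi, hj⟩ | ⟨hi, hj⟩ | ⟨hi, hj⟩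
  · rw [hi, hj, pow_zero, pow_one, one_mul] at hij'
    exact hij'
  · exfalso
    have hbad : P2 = Q := by
      rw [← hij', hi, hj, pow_one, ← er, mul_assoc, pow_two, ← mul_assoc Q, ← hPQ.eq]
      calc P * (P * Q * P) = P * (P * (Q * P)) := by group
        _ = P * (P * (P * Q)) := by rw [hPQ.eq]
        _ = P ^ 3 * Q := by simp only [pow_succ, pow_zero, one_mul]; group
        _ = Q := by rw [hP3, one_mul]
    -- the two triples of pairs
    set g0 := S.A.ι hA
    set g2' := S.B.ι hA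
    set b := S.T0 1 0 6
    set C := S.T0 2 3 6
    have p1 := hP_points.2.2.2
    have p2 := hP_points.2.1
    simp only [List.cons.injEq, and_true] at p1 p2
    have eb : g2' * b * g2'⁻¹ = P2 := by
      show S.B.ι hA * S.T0 1 0 6 * (S.B.ι hA)⁻¹ = S.T2 0 2 4
      rw [S.agree_pair (by decide) (by decide), S.T2_map hA (by decide : Dist 1 0 6)]
      show S.T2 (tau (hP (tau 1))) (tau (hP (tau 0))) (tau (hP (tau 6))) = _
      rw [p1.1, p1.2.1, p1.2.2]
    have eq' : g0 * Q * g0⁻¹ = C := by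
      show S.A.ι hA * S.T0 1 3 5 * (S.A.ι hA)⁻¹ = S.T0 2 3 6
      rw [S.T0_map hA (by decide : Dist 1 3 5)]
      show S.T0 (hP 1) (hP 3) (hP 5) = _
      rw [p2.1, p2.2.1, p2.2.2]
    set a := c * c
    have ha : a * b * a⁻¹ = C := by
      rw [show a = g0 * g2' from S.g0_g2_rel.symm,
        show g0 * g2' * b * (g0 * g2')⁻¹ = g0 * (g2' * b * g2'⁻¹) * g0⁻¹ by group, eb, hbad, eq']
    set u := S.ι V.u2
    have uu : u * u = 1 := by simp only [u]; rw [← map_mul, V.plane_mul.2.1, map_one]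
    have pu := V.points.2.2.2.2.2.1
    simp only [List.cons.injEq, and_true] at pu
    have hub : u * b * u⁻¹ = C⁻¹ := by
      have := S.T0_V V.u2 (by decide : Dist 1 0 6)
      rw [pu.1, pu.2.1, pu.2.2] at this
      rw [← S.T0_swap (by decide : Dist 2 3 6)]
      exact this
    have huC : u * C * u⁻¹ = b⁻¹ := by
      have e : C = (u * b * u⁻¹)⁻¹ := by rw [hub, inv_inv]
      rw [e, show u * (u * b * u⁻¹)⁻¹ * u⁻¹ = (u * u) * b⁻¹ * (u * u)⁻¹ by group, uu]; group
    obtain ⟨-, -, -, w4, -⟩ := V.plane_w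
    have cu : Commute c u := by
      have e : w * S.ι V.dC * w⁻¹ = u := by simp only [w, u]; rw [← map_inv, ← map_mul, ← map_mul, w4]
      rw [← e]
      exact (show Commute S.x (S.ι V.dC) from mul_inv_eq_iff_eq_mul.1 S.isX.hC).conj w
    have cau : Commute a u := cu.mul_left cu
    have hk : (u * a) * b * (u * a)⁻¹ = b⁻¹ := by
      rw [show u * a * b * (u * a)⁻¹ = u * (a * b * a⁻¹) * u⁻¹ by group, ha, huC]
    have hk2 : (a * a) * b * (a * a)⁻¹ = b := by
      have e : (u * a) * (u * a) = a * a := by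
        calc u * a * (u * a) = u * (a * u) * a := by group
          _ = u * (u * a) * a := by rw [cau.eq]
          _ = (u * u) * (a * a) := by group
          _ = a * a := by rw [uu, one_mul]
      rw [← e, show u * a * (u * a) * b * (u * a * (u * a))⁻¹ =
        u * a * (u * a * b * (u * a)⁻¹) * (u * a)⁻¹ by group, hk,
        show u * a * b⁻¹ * (u * a)⁻¹ = (u * a * b * (u * a)⁻¹)⁻¹ by group, hk, inv_inv]
    have hc3 : c ^ 3 = 1 := by simp only [c]; rw [conj_pow, S.isX.cube]; group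
    have ha4 : a = a * a * (a * a) := by
      calc a = c ^ 3 * (c ^ 3 * (c * c)) := by rw [hc3]; simp only [one_mul, a]
        _ = a * a * (a * a) := by simp only [a, pow_succ, pow_zero, one_mul]; group
    have hCb : C = b := by
      have e1 : a * a * (a * a) * b * (a * a * (a * a))⁻¹ = b := by
        rw [show a * a * (a * a) * b * (a * a * (a * a))⁻¹ =
          a * a * (a * a * b * (a * a)⁻¹) * (a * a)⁻¹ by group, hk2, hk2]
      rw [← ha4, ha] at e1
      exact e1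
    have pd := V.points.2.2.2.2.2.2
    simp only [List.cons.injEq, and_true] at pd
    have e1 := S.T0_V V.dV (by decide : Dist 1 0 6)
    rw [pd.1.1, pd.1.2.1, pd.1.2.2] at e1
    have e2 := S.T0_V V.dV (by decide : Dist 2 3 6)
    rw [pd.2.1, pd.2.2.1, pd.2.2.2, S.T0_swap (by decide : Dist 2 3 6)] at e2
    change S.ι V.dV * b * (S.ι V.dV)⁻¹ = b at e1
    change S.ι V.dV * C * (S.ι V.dV)⁻¹ = C⁻¹ at e2
    rw [hCb, e1] at e2
    have hb2 : b * b = 1 := eq_inv_iff_mul_eq_one.1 e2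
    obtain ⟨σ, s1, s2, s3⟩ := exists_pi (by decide : Dist 1 0 6)
    have hbx : S.A.ι σ * S.x * (S.A.ι σ)⁻¹ = b := by
      rw [← S.T0_base, S.T0_map σ (by decide : Dist 0 1 2), s1, s2, s3]
    have hb3 : b ^ 3 = 1 := hbx ▸ cube _
    have hb1 : b = 1 := by
      rwa [show b ^ 3 = b * b * b by simp only [pow_succ, pow_zero, one_mul], hb2, one_mul] at hb3
    rw [hb1, conj_eq_one_iff] at hbx
    exact S.x_ne_one hbx
  · exfalso
    rw [hi, hj, pow_zero, mul_one] at hij' hQ2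
    have e : Q2 = P2 := hQ2.trans hij'
    have e1 : S.B.ι π2 * c * (S.B.ι π2)⁻¹ = S.B.ι π2 * S.x⁻¹ * (S.B.ι π2)⁻¹ := by
      rw [eC2, e, ← eP2]; group
    exact S.x_ne_wxw.2 (mul_left_cancel (mul_right_cancel e1))

theorem agree_T {a b c : Fin 8} (hd : Dist a b c) : S.T0 a b c = S.T2 a b c := by
  rcases dist_pair a b c hd with (e | e | e) | ⟨n1, n2, n3⟩
  · exact S.agree_pair hd e
  · rw [← S.T0_rot hd, ← S.T2_rot hd]
    exact S.agree_pair ⟨hd.2.1, fun e => hd.2.2 e.symm, fun e => hd.1 e.symm⟩ e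
  · have hd' : Dist c a b := ⟨fun e => hd.2.2 e.symm, hd.1, fun e => hd.2.1 e.symm⟩
    rw [S.T0_rot hd', S.T2_rot hd']
    exact S.agree_pair hd' e
  · obtain ⟨v, rfl, rfl, rfl⟩ := V.orbit_B a b c hd.1 hd.2.1 hd.2.2 n1 n2 n3
    rw [← S.T0_V v (by decide : Dist 0 2 4), ← S.T2_V v (by decide : Dist 0 2 4), S.agree_base]

end Seeded

end Cfsg.Agent.Cent32
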