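import Cfsg.Agent.Cent32.PlanesTab

/-!
Checked facts about triples of points.
-/

set_option autoImplicit false
set_option maxRecDepth 8000

namespace Cfsg.Agent.Cent32

/-- Three points are distinct. -/
def Dist (a b c : Fin 8) : Prop := a ≠ b ∧ b ≠ c ∧ a ≠ c

instance (a b c : Fin 8) : Decidable (Dist a b c) := by unfold Dist; infer_instance

theorem exists_fourth : ∀ a b c : Fin 8, Dist a b c → ∃ d, GoodT (a, b, c, d) := by decide +kernel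

theorem dist_pair : ∀ a b c : Fin 8, Dist a b c →
    (a ^^^ b = 1 ∨ b ^^^ c = 1 ∨ c ^^^ a = 1) ∨ (a ^^^ b ≠ 1 ∧ b ^^^ c ≠ 1 ∧ c ^^^ a ≠ 1) := by
  decide +kernel

theorem tau_conj : ∀ (v : V) (x : Fin 8), tau (V.act (sigmaV v) (tau x)) = V.act v x := by
  decide +kernel

theorem hP_points : [hP 0, hP 1, hP 2] = [1, 2, 0] ∧ [hP 1, hP 3, hP 5] = [2, 3, 6] ∧
    [tau (hP (tau 0)), tau (hP (tau 1)), tau (hP (tau 2))] = [2, 0, 1] ∧
    [tau (hP (tau 1)), tau (hP (tau 0)), tau (hP (tau 6))] = [0, 2, 4] := by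
  decide +kernel

theorem pi_facts : GoodT (0, 2, 4, 1) ∧ GoodT (2, 1, 4, 3) ∧
    (∀ p, affFun (0, 2, 4, 1) (V.act V.wV p) = V.act V.zV (affFun (0, 2, 4, 1) p)) ∧
    (∀ p, affFun (0, 2, 4, 1) (hP p) = V.act V.rV (affFun (0, 2, 4, 1) p)) ∧
    (∀ p, affFun (2, 1, 4, 3) (hP p) = V.act (sigmaV V.rV⁻¹) (affFun (2, 1, 4, 3) p)) ∧
    [tau (affFun (2, 1, 4, 3) (tau 0)), tau (affFun (2, 1, 4, 3) (tau 1)), tau (affFun (2, 1, 4, 3) (tau 2))] =
      [0, 2, 4] ∧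
    [tau (affFun (2, 1, 4, 3) (tau 4)), tau (affFun (2, 1, 4, 3) (tau 5)), tau (affFun (2, 1, 4, 3) (tau 6))] =
      [3, 1, 5] := by
  decide +kernel

theorem tau_dist : ∀ a b c : Fin 8, Dist a b c → Dist (tau b) (tau a) (tau c) := by decide +kernel

theorem odd_dvd_192 : ∀ d ∈ Nat.divisors 192, ¬ 2 ∣ d → d ≤ 3 := by decide +kernel

end Cfsg.Agent.Cent32
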