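import Cfsg.Agent.Cent32.Quat
import Cfsg.Agent.Fusion.Extraspecial
import Cfsg.Agent.Invol.Pair
import Cfsg.Prelude.Def_Transfer
import Cfsg.Prelude.Def_Solvable

/-!
The centralizer of an involution with extraspecial two-core of order 32 and quotient symmetric of
degree three: the basic data.
-/

set_option autoImplicit false

namespace Cfsg.Agent.Cent32

universe u

variable {G : Type u} [Group G]

/-- The data of the centralizer. -/
structure Base (z : G) (Q : Subgroup G) (x y : G) : Prop where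
  hz : orderOf z = 2
  z_mem : z ∈ Q
  card : Nat.card Q = 32
  le : ∀ q ∈ Q, q * z = z * q
  comm : ∀ a ∈ Q, ∀ b ∈ Q, a * b = b * a ∨ a * b = z * (b * a)
  sq : ∀ a ∈ Q, a * a = 1 ∨ a * a = z
  central : ∀ w ∈ Q, (∀ e ∈ Q, e * w = w * e) → w = 1 ∨ w = z
  normal : ∀ g : G, g * z = z * g → ∀ q ∈ Q, g * q * g⁻¹ ∈ Q
  x3 : x ^ 3 = 1
  xz : x * z = z * x
  yz : y * z = z * y
  fix : ∀ q ∈ Q, q * x = x * q → q = 1 ∨ q = z
  xQ : x ∉ Q
  yx : y * x * y⁻¹ = x⁻¹
  yy : y * y = 1 ∨ y * y = z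
  cover : ∀ g : G, g * z = z * g → ∃ q ∈ Q, ∃ (i : Fin 3) (j : Fin 2), g = q * x ^ i.1 * y ^ j.1
  card_cent : Nat.card (Subgroup.centralizer ({z} : Set G)) = 192

theorem order_three_cases : ∀ σ : Equiv.Perm (Fin 3), ∀ τ : Equiv.Perm (Fin 3),
    σ * σ * σ = 1 → σ ≠ 1 → Equiv.Perm.sign τ = -1 →
      τ * σ * τ⁻¹ = σ⁻¹ ∧ ∀ π : Equiv.Perm (Fin 3), ∃ (i : Fin 3) (j : Fin 2), π = σ ^ i.1 * τ ^ j.1 := by
  decide +kernel

theorem exists_base [Finite G] (s : G) (hs : orderOf s = 2) (L : Subgroup G)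
    (hL : L = Subgroup.centralizer ({s} : Set G))
    (Q : Subgroup G) (hQ : Q = (Cfsg.pCore 2 L).map L.subtype)
    (hQex : Cfsg.IsExtraspecial 2 Q) (hQcard : Nat.card Q = 32)
    (e : L ⧸ Cfsg.pCore 2 L ≃* Equiv.Perm (Fin 3))
    (X : Sylow 3 L) (hCQX : Q ⊓ Subgroup.centralizer (((X : Subgroup L).map L.subtype : Subgroup G) : Set G) = Subgroup.zpowers s) :
    ∃ x y : G, Base s Q x y := by
  classical
  haveI : Fact (Nat.Prime 3) := ⟨Nat.prime_three⟩
  set P := Cfsg.pCore 2 L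
  have hP32 : Nat.card P = 32 := by
    rw [← hQcard, hQ]
    exact Nat.card_congr (P.equivMapOfInjective _ L.subtype_injective).toEquiv
  let π : L →* Equiv.Perm (Fin 3) := e.toMonoidHom.comp (QuotientGroup.mk' P)
  have hker : π.ker = P := by
    ext g
    simp [π, MonoidHom.mem_ker]
  have hπs : Function.Surjective π := e.surjective.comp (QuotientGroup.mk'_surjective P)
  have hcard : Nat.card L = 192 := by
    rw [P.card_eq_card_quotient_mul_card_subgroup, hP32, Nat.card_congr e.toEquiv, Nat.card_perm,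
      Nat.card_fin]
    rfl
  have hX3 : Nat.card (X : Subgroup L) = 3 := by
    rw [X.card_eq_multiplicity, hcard,
      Nat.factorization_def _ Nat.prime_three, show padicValNat 3 192 = 1 by
        rw [show (192 : ℕ) = 3 ^ 1 * 64 by norm_num, padicValNat.mul (by norm_num) (by norm_num),
          padicValNat.prime_pow, padicValNat.eq_zero_of_not_dvd (by norm_num)], pow_one]
  obtain ⟨x', hx'⟩ := exists_prime_orderOf_dvd_card' (G := (X : Subgroup L)) 3 (by rw [hX3])
  have hXgen : ∀ g ∈ (X : Subgroup L), ∃ k : ℕ, g = (x' : L) ^ k := fun g hg => by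
    have hm : (⟨g, hg⟩ : (X : Subgroup L)) ∈ Subgroup.zpowers x' := by
      rw [show Subgroup.zpowers x' = ⊤ from Subgroup.eq_top_of_card_eq _ (by
        rw [Nat.card_zpowers, hx', hX3])]
      exact Subgroup.mem_top _
    obtain ⟨k, hk⟩ := (Submonoid.mem_powers_iff _ _).1 (mem_powers_iff_mem_zpowers.2 hm)
    exact ⟨k, by rw [← Subgroup.coe_pow, hk]⟩
  set xL : L := (x' : L)
  have hxo : orderOf xL = 3 := by rw [Subgroup.orderOf_coe, hx']
  have hx3 : (xL : G) ^ 3 = 1 := by rw [← Subgroup.coe_pow, ← hxo, pow_orderOf_eq_one]; rfl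
  have hxP : xL ∉ P := fun h => by
    have := P.orderOf_dvd_natCard h
    rw [hxo, hP32] at this
    norm_num at this
  have hπx : π xL * π xL * π xL = 1 ∧ π xL ≠ 1 := by
    refine ⟨?_, fun h => hxP (hker ▸ h)⟩
    rw [← pow_three', ← map_pow, show xL ^ 3 = 1 from orderOf_dvd_iff_pow_eq_one.1 hxo.dvd, map_one]
  -- an element inverting it
  let K : Subgroup L := (Equiv.Perm.sign.comp π).ker
  have hXK : (X : Subgroup L) ≤ K := fun g hg => by
    obtain ⟨k, rfl⟩ := hXgen g hg
    refine pow_mem ?_ k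
    show Equiv.Perm.sign (π xL) = 1
    have hh : ∀ σ : Equiv.Perm (Fin 3), σ * σ * σ = 1 → Equiv.Perm.sign σ = 1 := by decide +kernel
    exact hh _ hπx.1
  obtain ⟨y0, hy0⟩ := hπs (Equiv.swap 0 1)
  have hy0K : y0 ∉ K := fun h => by
    have : Equiv.Perm.sign (π y0) = 1 := h
    rw [hy0, Equiv.Perm.sign_swap (by decide)] at this
    exact absurd this (by decide)
  obtain ⟨n, k, hn, hk, hnk⟩ : ∃ n k : L, n ∈ Subgroup.normalizer ((X : Subgroup L) : Set L) ∧ k ∈ K ∧ n * k = y0 := by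
    have hF : Subgroup.normalizer ((X : Subgroup L) : Set L) ⊔ K = ⊤ :=
      Sylow.normalizer_sup_eq_top' (N := K) X hXK
    have : y0 ∈ ((Subgroup.normalizer ((X : Subgroup L) : Set L) ⊔ K : Subgroup L) : Set L) := by
      rw [hF]; exact Subgroup.mem_top _
    rw [Subgroup.mul_normal] at this
    obtain ⟨a, ha, b, hb, hab⟩ := Set.mem_mul.1 this
    exact ⟨a, b, ha, hb, hab⟩
  have hnsign : Equiv.Perm.sign (π n) = -1 := by
    rcases Int.units_eq_one_or (Equiv.Perm.sign (π n)) with h | h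
    · exact absurd (hnk ▸ mul_mem (show n ∈ K from h) hk) hy0K
    · exact h
  set y1 := n ^ 3
  have hysign : Equiv.Perm.sign (π y1) = -1 := by rw [map_pow, map_pow, hnsign]; decide
  obtain ⟨hconjπ, hcoverπ⟩ := order_three_cases _ (π y1) hπx.1 hπx.2 hysign
  have hy1N : y1 ∈ Subgroup.normalizer ((X : Subgroup L) : Set L) := pow_mem hn 3
  obtain ⟨k0, hk0⟩ := hXgen _ ((Subgroup.mem_normalizer_iff.1 hy1N xL).1 x'.2)
  have hyx : y1 * xL * y1⁻¹ = xL⁻¹ := by
    have h3 : xL ^ 3 = 1 := by rw [← hxo, pow_orderOf_eq_one]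
    have hmod : k0 % 3 = 0 ∨ k0 % 3 = 1 ∨ k0 % 3 = 2 := by omega
    rw [hk0, pow_eq_pow_mod k0 h3]
    have e' : π (y1 * xL * y1⁻¹) = (π xL)⁻¹ := by rw [map_mul, map_mul, map_inv, hconjπ]
    rw [hk0, pow_eq_pow_mod k0 h3] at e'
    rcases hmod with h | h | h <;> rw [h] at e' ⊢
    · exfalso
      rw [pow_zero, map_one, eq_comm, inv_eq_one] at e'
      exact hπx.2 e'
    · exfalso
      rw [pow_one] at e'
      have : π xL * π xL = 1 := by
        nth_rewrite 1 [e']
        rw [inv_mul_cancel]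
      have h1 := hπx.1
      rw [this, one_mul] at h1
      exact hπx.2 h1
    · exact eq_inv_of_mul_eq_one_left (by rw [← pow_succ, h3])
  have hs_mem : s ∈ Q := (hCQX.symm ▸ Subgroup.mem_zpowers s : s ∈ Q ⊓ _).1
  have hQle : Q ≤ L := hQ.trans_le (Subgroup.map_subtype_le _)
  have hz2 : s * s = 1 := Invol.mul_self_eq_one hs
  have hpow : ∀ w ∈ Subgroup.zpowers s, w = 1 ∨ w = s := by
    rintro w ⟨k, rfl⟩
    show s ^ k = 1 ∨ s ^ k = s
    rw [← zpow_mod_orderOf, hs]
    rcases Int.emod_two_eq_zero_or_one k with h | h <;> norm_num [h]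
  have hfix : ∀ q ∈ Q, q * (xL : G) = xL * q → q = 1 ∨ q = s := by
    intro q hq hc
    refine hpow q (hCQX ▸ ⟨hq, Subgroup.mem_centralizer_iff.2 ?_⟩)
    rintro _ ⟨g, hg, rfl⟩
    obtain ⟨k, rfl⟩ := hXgen g hg
    show ((xL ^ k : L) : G) * q = q * ((xL ^ k : L) : G)
    rw [Subgroup.coe_pow]
    exact ((show Commute q (xL : G) from hc).pow_right k).symm.eq
  have hLc : ∀ g : L, (g : G) * s = s * g := fun g =>
    Subgroup.mem_centralizer_singleton_iff.1 (hL ▸ g.2)
  have hmemP : ∀ g : L, g ∈ P ↔ (g : G) ∈ Q := by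
    intro g
    rw [hQ]
    refine ⟨fun h => ⟨g, h, rfl⟩, ?_⟩
    rintro ⟨g', hg', hgg⟩
    rwa [← L.subtype_injective hgg]
  have hcenter : ∀ w : Q, w ∈ Subgroup.center Q → (w : G) = 1 ∨ (w : G) = s := by
    intro w hw
    have hsZ : (⟨s, hs_mem⟩ : Q) ∈ Subgroup.center Q :=
      Subgroup.mem_center_iff.2 fun q => Subtype.ext (hLc ⟨q, hQle q.2⟩)
    have hne : (⟨s, hs_mem⟩ : Q) ≠ 1 := fun h => by
      have h' : s = 1 := congrArg Subtype.val h
      rw [h', orderOf_one] at hs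
      omega
    rw [← Fusion.es_center_zpowers hQex hsZ hne] at hw
    obtain ⟨i, rfl⟩ := hw
    refine hpow _ ⟨i, ?_⟩
    simp
  refine ⟨(xL : G), (y1 : G), ?_⟩
  exact
    { hz := hs
      z_mem := hs_mem
      card := hQcard
      le := fun q hq => hLc ⟨q, hQle hq⟩
      comm := fun a ha b hb => by
        have h := hcenter _ (Fusion.es_commutator_mem hQex (⟨a, ha⟩ : Q) ⟨b, hb⟩)
        rw [commutatorElement_def] at h
        simp only [Subgroup.coe_mul, Subgroup.coe_inv] at h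
        rcases h with h | h
        · left
          calc a * b = a * b * a⁻¹ * b⁻¹ * (b * a) := by group
            _ = b * a := by rw [h, one_mul]
        · right
          calc a * b = a * b * a⁻¹ * b⁻¹ * (b * a) := by group
            _ = s * (b * a) := by rw [h]
      sq := fun a ha => by
        have h := hcenter _ (Fusion.es_pow_mem_center hQex ⟨a, ha⟩)
        simpa [pow_two] using h
      central := fun w hw h => hcenter ⟨w, hw⟩ (Subgroup.mem_center_iff.2 fun q => Subtype.ext (h q q.2))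
      normal := fun g hg q hq => by
        have hgL : g ∈ L := hL ▸ Subgroup.mem_centralizer_singleton_iff.2 hg
        have := (inferInstance : P.Normal).conj_mem _ ((hmemP ⟨q, hQle hq⟩).2 hq) ⟨g, hgL⟩
        simpa using (hmemP _).1 this
      x3 := hx3
      xz := hLc xL
      yz := hLc y1
      fix := hfix
      xQ := fun h => hxP ((hmemP xL).2 h)
      yx := by simpa using congrArg (fun g : L => (g : G)) hyx
      yy := by
        have hc : (y1 * y1) * xL = xL * (y1 * y1) := by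
          have e2 : y1 * (y1 * xL * y1⁻¹) * y1⁻¹ = xL := by
            rw [hyx, show y1 * xL⁻¹ * y1⁻¹ = (y1 * xL * y1⁻¹)⁻¹ by group, hyx, inv_inv]
          calc y1 * y1 * xL = y1 * (y1 * xL * y1⁻¹) * y1⁻¹ * (y1 * y1) := by group
            _ = xL * (y1 * y1) := by rw [e2]
        have hm : y1 * y1 ∈ P := by
          rw [← hker, MonoidHom.mem_ker, map_mul]
          have hh : ∀ τ : Equiv.Perm (Fin 3), Equiv.Perm.sign τ = -1 → τ * τ = 1 := by decide +kernel
          exact hh _ hysign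
        exact hfix _ ((hmemP _).1 hm) (congrArg (fun g : L => (g : G)) hc)
      cover := fun g hg => by
        have hgL : g ∈ L := hL ▸ Subgroup.mem_centralizer_singleton_iff.2 hg
        obtain ⟨i, j, hij⟩ := hcoverπ (π ⟨g, hgL⟩)
        have hm : (⟨g, hgL⟩ : L) * (xL ^ i.1 * y1 ^ j.1)⁻¹ ∈ P := by
          rw [← hker, MonoidHom.mem_ker, map_mul, map_inv, map_mul, map_pow, map_pow, ← hij,
            mul_inv_cancel]
        refine ⟨_, (hmemP _).1 hm, i, j, ?_⟩
        simp only [Subgroup.coe_mul, Subgroup.coe_inv, Subgroup.coe_pow]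
        group
      card_cent := hL ▸ hcard }

end Cfsg.Agent.Cent32
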