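import Cfsg.Agent.Cent32.CentX
import Cfsg.Agent.Invol.ZStar
import Cfsg.Agent.M12Cent.CaseTwo

/-!
The centralizer of a double transposition.
-/

set_option autoImplicit false
set_option maxRecDepth 8000

namespace Cfsg.Agent.Cent32

universe u

theorem sign_invol {α : Type*} [Fintype α] [DecidableEq α] {σ : Equiv.Perm α} (h : σ * σ = 1) :
    ∃ k : ℕ, Equiv.Perm.sign σ = (-1) ^ k ∧ 2 * k + Nat.card {a // σ a = a} = Nat.card α := by
  have h1 : σ.cycleType = Multiset.replicate σ.cycleType.card 2 :=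
    Multiset.eq_replicate_card.2 fun c hc =>
      (Equiv.Perm.pow_prime_eq_one_iff (p := 2)).1 (by rw [pow_two, h]) c hc
  refine ⟨σ.cycleType.card, ?_, ?_⟩
  · rw [Equiv.Perm.sign_of_cycleType]
    nth_rewrite 1 [h1]
    rw [Multiset.sum_replicate, smul_eq_mul, pow_add, pow_mul', neg_one_sq, one_pow, one_mul]
  · have h2 : σ.support.card = σ.cycleType.card * 2 := by
      rw [← Equiv.Perm.sum_cycleType]
      nth_rewrite 1 [h1]
      rw [Multiset.sum_replicate, smul_eq_mul]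
    rw [Nat.card_eq_fintype_card, Nat.card_eq_fintype_card, Fintype.card_subtype, mul_comm, ← h2,
      ← Finset.card_compl_add_card σ.support, add_comm]
    congr 2
    ext a
    simp

variable {G : Type u} [Group G] {z : G}

namespace Seeded

variable (S : Seeded z)

/-- The centralizer of a double transposition. -/
def Js : Subgroup G := Subgroup.centralizer ({S.ι V.dB} : Set G)

theorem mem_Js {g : G} : g ∈ S.Js ↔ g * S.ι V.dB = S.ι V.dB * g :=
  Subgroup.mem_centralizer_singleton_iff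

theorem Xs_le : S.Xs ≤ S.Js := fun _ hg => S.mem_Js.2 (S.mem_Xs.1 hg).1

theorem sV_Js : S.ι V.sV ∈ S.Js := S.mem_Js.2 (S.A.toV.map_comm V.W_basic.2.2.2.2.2.2.2.1)

theorem s_sq : S.ι V.sV * S.ι V.sV = 1 := by
  rw [← map_mul, V.plane_s.2.2.2.2.2, map_one]

theorem s_c : S.ι V.sV * S.ι V.dC * (S.ι V.sV)⁻¹ = S.ι V.dC * S.ι V.dB := by
  rw [← map_inv, ← map_mul, ← map_mul, V.plane_s.2.2.2.2.1, map_mul]

/-- The conjugates of `dC` inside the two-group. -/
theorem c_fusion {j : G} (hj : j ∈ S.Js) {w : V} (hw : w ∈ V.WV) (e : j * S.ι V.dC * j⁻¹ = S.ι w) :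
    w = V.dC ∨ w = V.dC * V.dB := by
  have hjb := S.mem_Js.1 hj
  obtain ⟨hw1, hw2⟩ := V.mem_WV.1 hw
  have key : ∀ {j' : G}, j' ∈ S.Js → j' * S.ι V.dC * j'⁻¹ = S.ι V.u1 → False := by
    intro j' hj' e'
    have hb' := S.mem_Js.1 hj'
    set y := j' * S.x * j'⁻¹
    have y1 : y * S.ι V.u1 = S.ι V.u1 * y := by
      rw [← e', show y * (j' * S.ι V.dC * j'⁻¹) = j' * (S.x * S.ι V.dC) * j'⁻¹ by simp only [y]; group,
        (S.mem_Xs.1 S.x_Xs).2]
      simp only [y]; group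
    have eb : j' * S.ι V.dB * j'⁻¹ = S.ι V.dB := by rw [hb', mul_inv_cancel_right]
    have y2 : y * S.ι V.dB = S.ι V.dB * y := by
      rw [← eb, show y * (j' * S.ι V.dB * j'⁻¹) = j' * (S.x * S.ι V.dB) * j'⁻¹ by simp only [y]; group,
        (S.mem_Xs.1 S.x_Xs).1]
      simp only [y]; group
    obtain ⟨v, hv⟩ := S.A.toV.mem_range (S.z_comm_of y1 y2)
    have hy3 : y ^ 3 = 1 := by rw [conj_pow, S.isX.cube]; group
    have hv1 : v = 1 := (V.S_small v ((S.A.toV.comm_iff _ _).1 (by rw [hv]; exact y2))).2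
      (S.A.toV.inj (by rw [map_pow, hv, hy3, map_one]))
    rw [hv1, map_one] at hv
    have : S.x = 1 := conj_eq_one_iff.1 hv.symm
    have h13 := S.isX.h1
    rw [this, one_mul, inv_one, mul_one] at h13
    exact absurd (S.A.toV.inj h13) (by decide +kernel)
  have hty := S.ty_of_conj (Or.inr V.plane_ty.2.2.2.2.1) e
  rcases V.W_small w hw1 hw2 hty with rfl | rfl | rfl | rfl | rfl | rfl
  · exact (key hj e).elim
  · refine (key (mul_mem (Xs_le S S.x_Xs) hj) ?_).elim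
    rw [show S.x * j * S.ι V.dC * (S.x * j)⁻¹ = S.x * (j * S.ι V.dC * j⁻¹) * S.x⁻¹ by group, e, S.isX.h2]
  · refine (key (mul_mem (inv_mem (Xs_le S S.x_Xs)) hj) ?_).elim
    rw [show S.x⁻¹ * j * S.ι V.dC * (S.x⁻¹ * j)⁻¹ = S.x⁻¹ * (j * S.ι V.dC * j⁻¹) * S.x by group, e,
      ← S.isX.h1]
    group
  · exfalso
    have eb : j * S.ι V.dB * j⁻¹ = S.ι V.dB := by rw [hjb, mul_inv_cancel_right]
    exact absurd (S.A.toV.inj (mul_left_cancel (mul_right_cancel (e.trans eb.symm)))) (by decide +kernel)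
  · exact Or.inl rfl
  · exact Or.inr (by decide +kernel)

variable [Finite G]

theorem Xs_two {g : G} (hg : g ∈ S.Xs) {k : ℕ} (hk : g ^ 2 ^ k = 1) :
    ∃ y ∈ S.Xs, ∃ w ∈ V.WV, y * g * y⁻¹ = S.ι w := by
  haveI : Fact (Nat.Prime 2) := ⟨Nat.prime_two⟩
  obtain ⟨P, hP⟩ := S.Xs_sylow
  have hk' : (⟨g, hg⟩ : S.Xs) ^ 2 ^ k = 1 := Subtype.ext hk
  have hpg : IsPGroup 2 (Subgroup.zpowers (⟨g, hg⟩ : S.Xs)) := by
    rintro ⟨a, i, rfl⟩
    refine ⟨k, Subtype.ext ?_⟩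
    show ((⟨g, hg⟩ : S.Xs) ^ i) ^ 2 ^ k = 1
    rw [← zpow_natCast, ← zpow_mul, mul_comm, zpow_mul, zpow_natCast, hk', one_zpow]
  obtain ⟨R, hR⟩ := hpg.exists_le_sylow
  obtain ⟨n, hn⟩ := MulAction.exists_smul_eq S.Xs R P
  have hmem : n * ⟨g, hg⟩ * n⁻¹ ∈ (P : Subgroup S.Xs) := by
    rw [← hn, Sylow.coe_subgroup_smul]
    exact ⟨⟨g, hg⟩, hR (Subgroup.mem_zpowers _), rfl⟩
  rw [hP] at hmem
  obtain ⟨w, hw, e⟩ := hmem
  exact ⟨n, n.2, w, hw, e.symm⟩

theorem Js_sylow : ∃ P : Sylow 2 S.Js, Nat.card P = 32 := by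
  haveI : Fact (Nat.Prime 2) := ⟨Nat.prime_two⟩
  set C := Subgroup.centralizer ({V.dB} : Set V)
  have hle : C.map S.ι ≤ S.Js := by
    rintro _ ⟨v, hv, rfl⟩
    exact S.mem_Js.2 (S.A.toV.map_comm (Subgroup.mem_centralizer_singleton_iff.1 hv))
  have hcard : Nat.card ((C.map S.ι).subgroupOf S.Js) = 32 := by
    rw [Nat.card_congr (Subgroup.subgroupOfEquivOfLe hle).toEquiv, ← V.W_card.2.2.1]
    exact Nat.card_congr (C.equivMapOfInjective _ S.A.toV.inj).toEquiv.symm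
  obtain ⟨P, hP⟩ := sylow_of_normalizer _ (IsPGroup.of_card (p := 2) (n := 5) (by rw [hcard]; rfl)) (by
    rintro n - hiff
    have hzC : V.zV ∈ C := Subgroup.mem_centralizer_singleton_iff.2 (V.zV_central _).symm
    obtain ⟨v, hv, e⟩ := (hiff ⟨_, hle ⟨_, hzC, rfl⟩⟩).1 ⟨_, hzC, rfl⟩
    change S.ι v = (n : G) * S.ι V.zV * (n : G)⁻¹ at e
    rw [S.A.toV.ι_z] at e
    have hvb := Subgroup.mem_centralizer_singleton_iff.1 hv
    have hz : orderOf (S.ι v) = 2 := by rw [e, Invol.orderOf_conj, S.A.toV.hz]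
    have hty := S.A.toV.ty_ne_zero (show orderOf (S.ι v) = 2 from hz)
    have hcl := (S.good v hty).1 (isConj_iff.2 ⟨n, e.symm⟩)
    have hv1 := V.S_center v hvb (fun w hw => (S.A.toV.comm_iff _ _).1 ?_) hty hcl.1 hcl.2
    · rw [hv1, S.A.toV.ι_z] at e
      obtain ⟨u, hu⟩ := S.A.toV.mem_range (g := (n : G)) (eq_mul_inv_iff_mul_eq.1 e).symm
      refine ⟨u, Subgroup.mem_centralizer_singleton_iff.2 ((S.A.toV.comm_iff _ _).1 ?_), hu⟩
      rw [hu]; exact S.mem_Js.1 n.2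
    · obtain ⟨w', hw', e'⟩ : (⟨S.ι w, hle ⟨_, Subgroup.mem_centralizer_singleton_iff.2 hw, rfl⟩⟩ : S.Js) ∈
          (C.map S.ι).subgroupOf S.Js := ⟨_, Subgroup.mem_centralizer_singleton_iff.2 hw, rfl⟩
      obtain ⟨w'', hw'', e''⟩ : n⁻¹ * (⟨S.ι w, hle ⟨_, Subgroup.mem_centralizer_singleton_iff.2 hw, rfl⟩⟩ : S.Js) * n ∈
          (C.map S.ι).subgroupOf S.Js := by
        refine (hiff _).2 ?_
        simp only [mul_assoc, mul_inv_cancel_left, mul_inv_cancel, mul_one]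
        exact ⟨_, Subgroup.mem_centralizer_singleton_iff.2 hw, rfl⟩
      change S.ι w'' = (n : G)⁻¹ * S.ι w * (n : G) at e''
      have hc := S.A.toV.comm w''
      show S.ι v * S.ι w = S.ι w * S.ι v
      rw [e, show S.ι w = (n : G) * S.ι w'' * (n : G)⁻¹ by rw [e'']; group,
        show (n : G) * z * (n : G)⁻¹ * ((n : G) * S.ι w'' * (n : G)⁻¹) = (n : G) * (z * S.ι w'') * (n : G)⁻¹ by group,
        ← hc]
      group)
  exact ⟨P, by show Nat.card (P : Subgroup S.Js) = 32; rw [hP, hcard]⟩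

theorem s_not_W {j : G} (hj : j ∈ S.Js) {w : V} (hw : w ∈ V.WV) : j * S.ι V.sV * j⁻¹ ≠ S.ι w := by
  intro e
  haveI : Fact (Nat.Prime 2) := ⟨Nat.prime_two⟩
  set K := Subgroup.centralizer ({S.ι V.dB, S.ι V.sV} : Set G)
  have memK : ∀ {g : G}, g ∈ K ↔ g * S.ι V.dB = S.ι V.dB * g ∧ g * S.ι V.sV = S.ι V.sV * g := fun {g} => by
    simp only [K, Subgroup.mem_centralizer_iff, Set.mem_insert_iff, Set.mem_singleton_iff, forall_eq_or_imp,
      forall_eq]
    exact and_congr eq_comm eq_comm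
  set T := Subgroup.centralizer ({V.dB, V.sV} : Set V)
  have memT : ∀ {v : V}, v ∈ T ↔ v * V.dB = V.dB * v ∧ v * V.sV = V.sV * v := fun {v} => by
    simp only [T, Subgroup.mem_centralizer_iff, Set.mem_insert_iff, Set.mem_singleton_iff, forall_eq_or_imp,
      forall_eq]
    exact and_congr eq_comm eq_comm
  have hle : T.map S.ι ≤ K := by
    rintro _ ⟨v, hv, rfl⟩
    exact memK.2 ⟨S.A.toV.map_comm (memT.1 hv).1, S.A.toV.map_comm (memT.1 hv).2⟩
  have hT : Nat.card ((T.map S.ι).subgroupOf K) = 8 := by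
    rw [Nat.card_congr (Subgroup.subgroupOfEquivOfLe hle).toEquiv, ← V.W_card.2.2.2]
    exact Nat.card_congr (T.equivMapOfInjective _ S.A.toV.inj).toEquiv.symm
  obtain ⟨P, hP⟩ := sylow_of_normalizer _ (IsPGroup.of_card (p := 2) (n := 3) (by rw [hT]; rfl)) (by
    rintro n - hiff
    have hzT : V.zV ∈ T := memT.2 ⟨(V.zV_central _).symm, (V.zV_central _).symm⟩
    obtain ⟨v, hv, e'⟩ := (hiff ⟨_, hle ⟨_, hzT, rfl⟩⟩).1 ⟨_, hzT, rfl⟩
    change S.ι v = (n : G) * S.ι V.zV * (n : G)⁻¹ at e'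
    rw [S.A.toV.ι_z] at e'
    have hty := S.A.toV.ty_ne_zero (show orderOf (S.ι v) = 2 by rw [e', Invol.orderOf_conj, S.A.toV.hz])
    have hcl := (S.good v hty).1 (isConj_iff.2 ⟨n, e'.symm⟩)
    rw [V.T_small v (memT.1 hv).1 (memT.1 hv).2 hty hcl.1 hcl.2, S.A.toV.ι_z] at e'
    obtain ⟨u, hu⟩ := S.A.toV.mem_range (g := (n : G)) (eq_mul_inv_iff_mul_eq.1 e').symm
    obtain ⟨n1, n2⟩ := memK.1 n.2
    rw [← hu] at n1 n2
    exact ⟨u, memT.2 ⟨(S.A.toV.comm_iff _ _).1 n1, (S.A.toV.comm_iff _ _).1 n2⟩, hu⟩)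
  -- a conjugate of the group of order 16 centralises both
  have hconj : (V.WV.map S.ι).map (MulAut.conj j⁻¹).toMonoidHom ≤ K := by
    rintro _ ⟨_, ⟨v, hv, rfl⟩, rfl⟩
    obtain ⟨v1, v2⟩ := V.mem_WV.1 hv
    show j⁻¹ * S.ι v * j⁻¹⁻¹ ∈ K
    rw [inv_inv]
    have eb : j * S.ι V.dB * j⁻¹ = S.ι V.dB := by rw [S.mem_Js.1 hj, mul_inv_cancel_right]
    refine memK.2 ⟨?_, ?_⟩
    · have c := S.A.toV.map_comm v1
      conv_lhs => arg 2; rw [show S.ι V.dB = j⁻¹ * (j * S.ι V.dB * j⁻¹) * j by group, eb]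
      conv_rhs => arg 1; rw [show S.ι V.dB = j⁻¹ * (j * S.ι V.dB * j⁻¹) * j by group, eb]
      rw [show j⁻¹ * S.ι v * j * (j⁻¹ * S.ι V.dB * j) = j⁻¹ * (S.ι v * S.ι V.dB) * j by group, c]
      group
    · have c := S.A.toV.map_comm (V.W_comm v v1 v2 w (V.mem_WV.1 hw).1 (V.mem_WV.1 hw).2)
      rw [show S.ι V.sV = j⁻¹ * (j * S.ι V.sV * j⁻¹) * j by group, e,
        show j⁻¹ * S.ι v * j * (j⁻¹ * S.ι w * j) = j⁻¹ * (S.ι v * S.ι w) * j by group, c]
      group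
  have h16 : 16 ∣ Nat.card K := by
    have := Subgroup.card_dvd_of_le hconj
    rwa [Nat.card_congr ((V.WV.map S.ι).equivMapOfInjective _ (MulAut.conj j⁻¹).injective).toEquiv.symm,
      S.card_Wi] at this
  have h8 : Nat.card (P : Subgroup K) = 8 := by rw [hP, hT]
  have hidx := (P : Subgroup K).card_mul_index
  rw [h8] at hidx
  have hodd := P.not_dvd_index
  omega

/-- The centralizer of a double transposition. -/
theorem cent_b {g : G} (hg : g * S.ι V.dB = S.ι V.dB * g) : g ∈ S.Xs ∨ S.ι V.sV * g ∈ S.Xs := by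
  classical
  haveI : Fact (Nat.Prime 2) := ⟨Nat.prime_two⟩
  set J := S.Js
  set Wj := (V.WV.map S.ι).subgroupOf J
  let Ω := J ⧸ Wj
  cases nonempty_fintype Ω
  let f : J →* ℤˣ := Equiv.Perm.sign.comp (MulAction.toPermHom J Ω)
  have hWj : Nat.card Wj = 16 := by
    rw [Nat.card_congr (Subgroup.subgroupOfEquivOfLe (S.Wi_le.trans S.Xs_le)).toEquiv, S.card_Wi]
  obtain ⟨P, hP⟩ := S.Js_sylow
  set m := (P : Subgroup J).index
  have hm : Odd m := Nat.odd_iff.2 (Nat.two_dvd_ne_zero.1 P.not_dvd_index)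
  have hΩ : Nat.card Ω = 2 * m := by
    have h1 := Wj.card_eq_card_quotient_mul_card_subgroup
    have h2 := (P : Subgroup J).card_mul_index
    rw [hP] at h2
    rw [hWj, ← h2] at h1
    show Nat.card (J ⧸ Wj) = 2 * m
    omega
  -- fixed cosets
  have hfix : ∀ (t y : J), t • (y : Ω) = (y : Ω) ↔ ∃ w ∈ V.WV, S.ι w = (y : G)⁻¹ * (t : G) * (y : G) := by
    intro t y
    have e0 : t • (y : Ω) = ((t * y : J) : Ω) := rfl
    rw [e0, QuotientGroup.eq]
    constructor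
    · intro h
      obtain ⟨w, hw, e⟩ := h
      refine ⟨w⁻¹, inv_mem hw, ?_⟩
      rw [map_inv, e]
      simp [mul_assoc]
    · rintro ⟨w, hw, e⟩
      refine ⟨w⁻¹, inv_mem hw, ?_⟩
      rw [map_inv, e]
      simp [mul_assoc]
  let s : J := ⟨_, S.sV_Js⟩
  have hss : s * s = 1 := Subtype.ext S.s_sq
  have hfs : f s = -1 := by
    obtain ⟨k, hk, hk2⟩ := sign_invol (σ := MulAction.toPermHom J Ω s) (by rw [← map_mul, hss, map_one])
    haveI : IsEmpty {a // MulAction.toPermHom J Ω s a = a} := ⟨fun ⟨a, ha⟩ => by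
      induction a using QuotientGroup.induction_on with
      | H y =>
        obtain ⟨w, hw, e⟩ := (hfix s y).1 ha
        exact S.s_not_W (inv_mem y.2) hw (by rw [inv_inv]; exact e.symm)⟩
    rw [Nat.card_of_isEmpty, add_zero, hΩ] at hk2
    show Equiv.Perm.sign _ = -1
    rw [hk, show k = m by omega]
    exact hm.neg_one_pow
  let c : J := ⟨_, S.Xs_le (S.W_Xs (V.mem_WV.2 ⟨V.W_basic.2.2.2.2.2.2.1.symm, rfl⟩))⟩
  have hfc : f c = 1 := by
    obtain ⟨k, hk, hk2⟩ := sign_invol (σ := MulAction.toPermHom J Ω c)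
      (by rw [← map_mul, show c * c = 1 from Subtype.ext (S.A.toV.sq_one (by rw [V.plane_ty.2.2.2.2.1]; norm_num)),
        map_one])
    -- right translation by `s`
    have hsW : ∀ a ∈ Wj, s⁻¹ * a * s ∈ Wj := by
      rintro a ⟨w, hw, e⟩
      obtain ⟨a1, a2⟩ := V.mem_WV.1 hw
      obtain ⟨b1, b2⟩ := V.W_conj_s w a1 a2
      refine ⟨V.sV * w * V.sV⁻¹, V.mem_WV.2 ⟨b1, b2⟩, ?_⟩
      show S.ι _ = (S.ι V.sV)⁻¹ * (a : G) * S.ι V.sV
      rw [← show S.ι w = (a : G) from e, map_mul, map_mul, map_inv, inv_eq_of_mul_eq_one_right S.s_sq]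
    let ρ : Ω → Ω := Quotient.map' (fun y => y * s) fun a b hab => by
      rw [QuotientGroup.leftRel_apply] at hab ⊢
      rw [show (a * s)⁻¹ * (b * s) = s⁻¹ * (a⁻¹ * b) * s by group]
      exact hsW _ hab
    have hρ : ∀ y : J, ρ (y : Ω) = ((y * s : J) : Ω) := fun y => rfl
    have hρρ : ∀ a, ρ (ρ a) = a := by
      intro a
      induction a using QuotientGroup.induction_on with
      | H y => rw [hρ, hρ, mul_assoc, hss, mul_one]
    set Xj := S.Xs.subgroupOf J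
    let o : Ω := ((1 : J) : Ω)
    set A : Set Ω := MulAction.orbit Xj o
    have hA : ∀ y : J, (y : G) ∈ S.Xs → (y : Ω) ∈ A := fun y hy => ⟨⟨y, hy⟩, by
      show ((y * 1 : J) : Ω) = _; rw [mul_one]⟩
    have hA' : ∀ a ∈ A, ∃ y : J, (y : G) ∈ S.Xs ∧ (y : Ω) = a := by
      rintro a ⟨⟨y, hy⟩, rfl⟩
      exact ⟨y, hy, by show _ = ((y * 1 : J) : Ω); rw [mul_one]⟩
    have hAcard : 16 * A.ncard = Nat.card S.Xs := by
      rw [← MulAction.index_stabilizer, ← Nat.card_congr (Subgroup.subgroupOfEquivOfLe S.Xs_le).toEquiv]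
      have hst : MulAction.stabilizer Xj o = Wj.subgroupOf Xj := by
        ext y
        rw [MulAction.mem_stabilizer_iff]
        show ((y.1 * 1 : J) : Ω) = ((1 : J) : Ω) ↔ _
        rw [mul_one, QuotientGroup.eq, mul_one, inv_mem_iff]
        rfl
      rw [hst]
      have h1 := (Wj.subgroupOf Xj).card_mul_index
      rwa [Nat.card_congr (Subgroup.subgroupOfEquivOfLe (show Wj ≤ Xj from Subgroup.comap_mono S.Wi_le)).toEquiv, hWj] at h1
    have hset : {a | MulAction.toPermHom J Ω c a = a} = A ∪ ρ '' A := by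
      ext a
      constructor
      · intro ha
        induction a using QuotientGroup.induction_on with
        | H y =>
          obtain ⟨w, hw, e⟩ := (hfix c y).1 ha
          rcases S.c_fusion (inv_mem y.2) hw (by rw [inv_inv]; exact e.symm) with rfl | rfl
          · refine Or.inl (hA y (S.mem_Xs.2 ⟨S.mem_Js.1 y.2, ?_⟩))
            conv_rhs => rw [show S.ι V.dC * (y : G) = (y : G) * ((y : G)⁻¹ * S.ι V.dC * y) by group]
            rw [show (y : G)⁻¹ * S.ι V.dC * y = S.ι V.dC from e.symm]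
          · refine Or.inr ⟨((y * s : J) : Ω), hA _ (S.mem_Xs.2 ⟨S.mem_Js.1 (y * s).2, ?_⟩), by
              rw [← hρ, hρρ]⟩
            show (y : G) * S.ι V.sV * S.ι V.dC = S.ι V.dC * ((y : G) * S.ι V.sV)
            have e2 : S.ι V.dC * (y : G) = (y : G) * (S.ι V.sV * S.ι V.dC * (S.ι V.sV)⁻¹) := by
              rw [S.s_c, ← map_mul, show S.ι (V.dC * V.dB) = (y : G)⁻¹ * S.ι V.dC * y from e]; group
            rw [← mul_assoc (S.ι V.dC), e2]; group
      · rintro (ha | ⟨a', ha', rfl⟩)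
        · obtain ⟨y, hy, rfl⟩ := hA' a ha
          refine (hfix c y).2 ⟨V.dC, V.mem_WV.2 ⟨V.W_basic.2.2.2.2.2.2.1.symm, rfl⟩, ?_⟩
          show S.ι V.dC = (y : G)⁻¹ * S.ι V.dC * (y : G)
          rw [mul_assoc, ← (S.mem_Xs.1 hy).2, inv_mul_cancel_left]
        · obtain ⟨y, hy, rfl⟩ := hA' a' ha'
          refine (hfix c (y * s)).2 ⟨V.dC * V.dB, mul_mem (V.mem_WV.2 ⟨V.W_basic.2.2.2.2.2.2.1.symm, rfl⟩)
            (V.mem_WV.2 ⟨rfl, V.W_basic.2.2.2.2.2.2.1⟩), ?_⟩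
          show S.ι (V.dC * V.dB) = ((y : G) * S.ι V.sV)⁻¹ * S.ι V.dC * ((y : G) * S.ι V.sV)
          rw [map_mul, ← S.s_c, mul_inv_rev, show (S.ι V.sV)⁻¹ * (y : G)⁻¹ * S.ι V.dC * ((y : G) * S.ι V.sV) =
            (S.ι V.sV)⁻¹ * ((y : G)⁻¹ * (S.ι V.dC * (y : G))) * S.ι V.sV by group, ← (S.mem_Xs.1 hy).2,
            inv_mul_cancel_left, inv_eq_of_mul_eq_one_right S.s_sq]
    have hdis : Disjoint A (ρ '' A) := by
      rw [Set.disjoint_left]
      rintro a ha ⟨a', ha', rfl⟩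
      obtain ⟨y', hy', rfl⟩ := hA' a' ha'
      obtain ⟨y, hy, e⟩ := hA' _ ha
      rw [hρ, QuotientGroup.eq] at e
      have h1 : (y : G)⁻¹ * ((y' : G) * S.ι V.sV) ∈ S.Xs := S.Wi_le e
      have h2 : S.ι V.sV ∈ S.Xs := by
        have := mul_mem (inv_mem hy') (mul_mem hy h1)
        rwa [mul_inv_cancel_left, inv_mul_cancel_left] at this
      have h3 := S.s_c
      rw [(S.mem_Xs.1 h2).2, mul_inv_cancel_right, ← map_mul] at h3
      exact absurd (S.A.toV.inj h3) (by decide +kernel)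
    have hcount : Nat.card {a // MulAction.toPermHom J Ω c a = a} = 2 * A.ncard := by
      show Nat.card ↥{a | MulAction.toPermHom J Ω c a = a} = _
      rw [Nat.card_coe_set_eq, hset, Set.ncard_union_eq hdis (Set.toFinite _) (Set.toFinite _),
        Set.ncard_image_of_injective _ (Function.Involutive.injective hρρ)]
      omega
    rw [hcount, hΩ] at hk2
    have hodd : Odd A.ncard := by
      rcases S.card_Xs with h | h <;> rw [Nat.odd_iff] <;> omega
    show Equiv.Perm.sign _ = 1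
    rw [hk]
    refine Even.neg_one_pow ?_
    rw [Nat.even_iff]
    rw [Nat.odd_iff] at hodd hm
    omega
  -- the two-group is in the kernel
  have hf2 : ∀ u : ℤˣ, u * u = 1 := Int.units_mul_self
  have hgen : ∀ v ∈ V.WV, ∀ hv : S.ι v ∈ J, f ⟨S.ι v, hv⟩ = 1 := by
    intro v hv
    obtain ⟨v1, v2⟩ := V.mem_WV.1 hv
    obtain ⟨a1, a2, a3⟩ := V.W_mem v v1 v2
    obtain ⟨i, j', k, l, rfl⟩ := V.plane_cent v a1 a2 v1 v2
    intro hmem
    have m1 : S.ι V.u1 ∈ J := S.Xs_le S.u1_Xs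
    have m2 : S.ι V.u2 ∈ J := S.Xs_le S.u2_Xs
    have mb : S.ι V.dB ∈ J := S.mem_Js.2 rfl
    have m3 : S.ι V.u3 ∈ J := by rw [← V.plane_mul.2.2.2.1, map_mul]; exact mul_mem m1 m2
    let xJ : J := ⟨_, S.Xs_le S.x_Xs⟩
    have inv : ∀ (p q : J), xJ * p * xJ⁻¹ = q → f q = f p := fun p q e => by
      rw [← e, map_mul, map_mul, map_inv, mul_comm (f xJ), mul_inv_cancel_right]
    have f3 : f ⟨_, m3⟩ = f ⟨_, m1⟩ := inv _ _ (Subtype.ext S.isX.h1)
    have f1 : f ⟨_, m1⟩ = f ⟨_, m2⟩ := inv _ _ (Subtype.ext S.isX.h2)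
    have e3 : f ⟨_, m3⟩ = f ⟨_, m1⟩ * f ⟨_, m2⟩ := by
      rw [← map_mul]
      exact congrArg f (Subtype.ext (by show S.ι V.u3 = _; rw [← V.plane_mul.2.2.2.1, map_mul]; rfl))
    rw [f3, left_eq_mul] at e3
    rw [e3] at f1
    have fb : f ⟨_, mb⟩ = 1 := by
      have e : f (s * c * s⁻¹) = f (c * ⟨_, mb⟩) := congrArg f (Subtype.ext S.s_c)
      rwa [map_mul, map_mul, map_mul, map_inv, hfc, mul_one, mul_inv_cancel, one_mul, eq_comm] at e
    have e : (⟨_, hmem⟩ : J) = (⟨_, m1⟩ : J) ^ i.1 * (⟨_, m2⟩ : J) ^ j'.1 * (⟨_, mb⟩ : J) ^ k.1 * c ^ l.1 :=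
      Subtype.ext (by simp [map_mul, map_pow, c])
    rw [e, map_mul, map_mul, map_mul, map_pow, map_pow, map_pow, map_pow, f1, e3, fb, hfc]
    simp
  -- so is the centralizer of the four-group
  have hXker : ∀ y : J, (y : G) ∈ S.Xs → f y = 1 := by
    intro y hy
    obtain ⟨g₀, hg₀, hcard⟩ : ∃ g₀, Odd g₀ ∧ Nat.card S.Xs = 16 * g₀ := by
      rcases S.card_Xs with h | h
      · exact ⟨3, by decide, h⟩
      · exact ⟨15, by decide, h⟩
    have h16 : ((y : G) ^ g₀) ^ 2 ^ 4 = 1 := by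
      have h := pow_card_eq_one' (G := S.Xs) (x := ⟨y, hy⟩)
      rw [hcard, mul_comm, pow_mul] at h
      exact congrArg Subtype.val h
    obtain ⟨n, hn, w, hw, e⟩ := S.Xs_two (pow_mem hy g₀) h16
    have e2 : (⟨n, S.Xs_le hn⟩ : J) * y ^ g₀ * (⟨n, S.Xs_le hn⟩ : J)⁻¹ = ⟨S.ι w, S.Xs_le (S.W_Xs hw)⟩ :=
      Subtype.ext (by simpa using e)
    have e3 := congrArg f e2
    rw [map_mul, map_mul, map_inv, hgen w hw, mul_comm (f _), mul_inv_cancel_right, map_pow] at e3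
    obtain ⟨r, rfl⟩ := hg₀
    rwa [pow_succ, pow_mul, pow_two, hf2, one_pow, one_mul] at e3
  have hsplit : ∀ y : J, f y = 1 → (y : G) ∈ S.Xs := by
    set N := f.ker
    let c' : N := ⟨c, hfc⟩
    have hc2 : orderOf c' = 2 := by
      rw [← Subgroup.orderOf_coe, ← Subgroup.orderOf_coe]
      exact S.A.toV.ord _ (by rw [V.plane_ty.2.2.2.2.1]; norm_num)
    have hiso : Cfsg.IsIsolatedInvolution c' := by
      refine ⟨hc2, fun q hcomm => Subtype.ext (Subtype.ext ?_)⟩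
      have hc' : Commute (S.ι V.dC) (((q : J) : G) * S.ι V.dC * ((q : J) : G)⁻¹) :=
        hcomm.map (J.subtype.comp N.subtype)
      set t : G := ((q : J) : G) * S.ι V.dC * ((q : J) : G)⁻¹ with ht
      show t = S.ι V.dC
      have htX : t ∈ S.Xs := S.mem_Xs.2 ⟨by
        rw [ht]; exact S.mem_Js.1 (mul_mem (mul_mem (q : J).2 c.2) (inv_mem (q : J).2)), hc'.eq.symm⟩
      have ht2 : t ^ 2 ^ 1 = 1 := by
        rw [pow_one, ht, conj_pow, pow_two, S.A.toV.sq_one (by rw [V.plane_ty.2.2.2.2.1]; norm_num)]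
        group
      obtain ⟨n, hn, w, hw, e⟩ := S.Xs_two htX ht2
      have hjn : n * ((q : J) : G) ∈ S.Js := mul_mem (S.Xs_le hn) (q : J).2
      have e' : n * ((q : J) : G) * S.ι V.dC * (n * ((q : J) : G))⁻¹ = S.ι w := by rw [← e, ht]; group
      rcases S.c_fusion hjn hw e' with rfl | rfl
      · calc t = n⁻¹ * (n * t * n⁻¹) * n := by group
          _ = S.ι V.dC := by rw [e, mul_assoc, ← (S.mem_Xs.1 hn).2, inv_mul_cancel_left]
      · exfalso
        have hmem : S.ι V.sV⁻¹ * (n * ((q : J) : G)) ∈ S.Xs := by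
          refine S.mem_Xs.2 ⟨S.mem_Js.1 (mul_mem ?_ hjn), ?_⟩
          · rw [map_inv]; exact inv_mem S.sV_Js
          · refine mul_inv_eq_iff_eq_mul.1 ?_
            rw [show S.ι V.sV⁻¹ * (n * ((q : J) : G)) * S.ι V.dC * (S.ι V.sV⁻¹ * (n * ((q : J) : G)))⁻¹ =
              S.ι V.sV⁻¹ * (n * ((q : J) : G) * S.ι V.dC * (n * ((q : J) : G))⁻¹) * (S.ι V.sV⁻¹)⁻¹ by group,
              e', map_mul, ← S.s_c, map_inv]
            group
        have h1 := hXker (s⁻¹ * (⟨n, S.Xs_le hn⟩ * q.1)) (by simpa [s, map_inv] using hmem)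
        rw [map_mul, map_mul, map_inv, hfs, hXker ⟨n, _⟩ hn, show f q.1 = 1 from q.2] at h1
        exact absurd h1 (by decide)
    let u : N := ⟨⟨_, S.Xs_le S.u1_Xs⟩, hXker _ S.u1_Xs⟩
    let u' : N := ⟨⟨_, S.Xs_le S.u2_Xs⟩, hXker _ S.u2_Xs⟩
    let x' : N := ⟨⟨_, S.Xs_le S.x_Xs⟩, hXker _ S.x_Xs⟩
    have ord2 : ∀ (a : N) {v : V}, ((a : J) : G) = S.ι v → V.ty v ≠ 0 → orderOf a = 2 := fun a v e hv => by
      rw [← Subgroup.orderOf_coe, ← Subgroup.orderOf_coe, e]; exact S.A.toV.ord v hv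
    have hO : Cfsg.oddCore N = ⊥ := by
      refine M12Cent.oddCore_bot_of_fpf (z := u) (t := u') (ord2 u rfl (by rw [V.plane_ty.1]; norm_num))
        (ord2 u' rfl (by rw [V.plane_ty.2.1]; norm_num))
        (ord2 (u * u') (v := V.u3) (by show _ = S.ι V.u3; rw [← V.plane_mul.2.2.2.1, map_mul]; rfl)
          (by rw [V.plane_ty.2.2.1]; norm_num)) ?_
      have base : ∀ y : N, ¬ 2 ∣ orderOf y → y * u = u * y → y = 1 := by
        intro y hodd hc'
        have y1 : ((y : J) : G) * S.ι V.u1 = S.ι V.u1 * (y : J) :=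
          congrArg (fun a : N => ((a : J) : G)) hc'
        have y2 := S.mem_Js.1 (y : J).2
        obtain ⟨v, hv⟩ := S.A.toV.mem_range (S.z_comm_of y1 y2)
        have h16 : y ^ 2 ^ 4 = 1 := by
          refine Subtype.ext (Subtype.ext ?_)
          show ((y : J) : G) ^ 2 ^ 4 = 1
          rw [show (2 : ℕ) ^ 4 = 16 from rfl, ← hv, ← map_pow, (V.S_small v ((S.A.toV.comm_iff _ _).1 (by rw [hv]; exact y2))).1, map_one]
        obtain ⟨i, -, hi⟩ := (Nat.dvd_prime_pow Nat.prime_two).1 (orderOf_dvd_of_pow_eq_one h16)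
        refine orderOf_eq_one_iff.1 ?_
        rcases i with _ | i
        · rw [hi, pow_zero]
        · exact absurd (hi ▸ dvd_pow_self 2 (Nat.succ_ne_zero i)) hodd
      intro a ha y hodd hc'
      obtain ⟨r, hr⟩ : ∃ r : N, r * a * r⁻¹ = u := by
        rcases ha with rfl | rfl | rfl
        · exact ⟨1, by group⟩
        · exact ⟨x', Subtype.ext (Subtype.ext S.isX.h2)⟩
        · refine ⟨x'⁻¹, ?_⟩
          have e : x' * u * x'⁻¹ = u * u' := Subtype.ext (Subtype.ext (by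
            show S.x * S.ι V.u1 * S.x⁻¹ = S.ι V.u1 * S.ι V.u2
            rw [S.isX.h1, ← map_mul, V.plane_mul.2.2.2.1]))
          rw [← e]; group
      have := base (r * y * r⁻¹) (by rwa [Invol.orderOf_conj]) (by
        rw [← hr, show r * y * r⁻¹ * (r * a * r⁻¹) = r * (y * a) * r⁻¹ by group, hc']; group)
      exact conj_eq_one_iff.1 this
    intro y hy
    have hz := Invol.zstar hiso ⟨y, hy⟩
    rw [hO, Subgroup.mem_bot] at hz
    have e := congrArg (fun a : N => ((a : J) : G)) hz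
    refine S.mem_Xs.2 ⟨S.mem_Js.1 y.2, ?_⟩
    have e' : S.ι V.dC * (y : G) * (S.ι V.dC)⁻¹ * (y : G)⁻¹ = 1 := by simpa using e
    rw [mul_inv_eq_one] at e'
    exact (mul_inv_eq_iff_eq_mul.1 e').symm
  rcases Int.units_eq_one_or (f ⟨g, S.mem_Js.2 hg⟩) with h | h
  · exact Or.inl (hsplit _ h)
  · refine Or.inr (hsplit (s * ⟨g, S.mem_Js.2 hg⟩) ?_)
    rw [map_mul, hfs, h]; rfl

end Seeded

end Cfsg.Agent.Cent32
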