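import Cfsg.Agent.Cent32.PlanesTab

/-!
Checked facts about the centralizers of two double transpositions in the model.
-/

set_option autoImplicit false
set_option maxRecDepth 8000

namespace Cfsg.Agent.Cent32

namespace V

/-- The centralizer of `dB` and `dC`. -/
def WV : Subgroup V := Subgroup.centralizer ({dB, dC} : Set V)

theorem mem_WV {v : V} : v ∈ WV ↔ v * dB = dB * v ∧ v * dC = dC * v := by
  simp only [WV, Subgroup.mem_centralizer_iff, Set.mem_insert_iff, Set.mem_singleton_iff, forall_eq_or_imp,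
    forall_eq]
  exact and_congr eq_comm eq_comm

/-- The four-group `{1, dB, dC, dB * dC}`. -/
def BV : Subgroup V where
  carrier := {v | v = 1 ∨ v = dB ∨ v = dC ∨ v = dB * dC}
  one_mem' := Or.inl rfl
  mul_mem' := by
    intro a b ha hb
    show _ ∨ _
    rcases ha with rfl | rfl | rfl | rfl <;> rcases hb with rfl | rfl | rfl | rfl <;> decide +kernel
  inv_mem' := by
    intro a ha
    show _ ∨ _
    rcases ha with rfl | rfl | rfl | rfl <;> decide +kernel

theorem W_mem : ∀ v, v * dB = dB * v → v * dC = dC * v →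
    v * u1 = u1 * v ∧ v * u2 = u2 * v ∧ (v * sV⁻¹) * dB = dB * (v * sV⁻¹) := by
  decide +kernel

theorem W_basic : u1 * dB = dB * u1 ∧ u1 * dC = dC * u1 ∧ u2 * dB = dB * u2 ∧ u2 * dC = dC * u2 ∧
    u3 * dB = dB * u3 ∧ u3 * dC = dC * u3 ∧ dB * dC = dC * dB ∧ sV * dB = dB * sV ∧ sV * u1 = u1 * sV ∧
    zV * dB = dB * zV ∧ zV * sV = sV * zV ∧ sV * dC * sV⁻¹ = dC * dB ∧
    (u1 ≠ 1 ∧ u1 ≠ dB ∧ u1 ≠ dC ∧ u1 ≠ dB * dC) ∧ (u2 ≠ 1 ∧ u2 ≠ dB ∧ u2 ≠ dC ∧ u2 ≠ dB * dC) := by
  decide +kernel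

theorem W_comm : ∀ v, v * dB = dB * v → v * dC = dC * v → ∀ w, w * dB = dB * w → w * dC = dC * w →
    v * w = w * v := by
  decide +kernel

theorem W_small : ∀ v, v * dB = dB * v → v * dC = dC * v → ty v = 3 ∨ ty v = 5 →
    v = u1 ∨ v = u2 ∨ v = u3 ∨ v = dB ∨ v = dC ∨ v = dB * dC := by
  decide +kernel

theorem W_coset : ∀ v, v = 1 ∨ v = dB ∨ v = dC ∨ v = dB * dC →
    ty (u1 * v) ≠ 0 ∧ (ty (u1 * v) = 3 ∨ ty (u1 * v) = 5 → v = 1) := by
  decide +kernel

theorem W_conj_s : ∀ v, v * dB = dB * v → v * dC = dC * v →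
    sV * v * sV⁻¹ * dB = dB * (sV * v * sV⁻¹) ∧ sV * v * sV⁻¹ * dC = dC * (sV * v * sV⁻¹) := by
  decide +kernel

theorem S_small : ∀ v, v * dB = dB * v → v ^ 16 = 1 ∧ (v ^ 3 = 1 → v = 1) := by decide +kernel

theorem S_center : ∀ v, v * dB = dB * v → (∀ w, w * dB = dB * w → v * w = w * v) →
    ty v ≠ 0 → ty v ≠ 3 → ty v ≠ 5 → v = zV := by
  decide +kernel

theorem T_small : ∀ v, v * dB = dB * v → v * sV = sV * v → ty v ≠ 0 → ty v ≠ 3 → ty v ≠ 5 → v = zV := by
  decide +kernel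

theorem W_card : Nat.card WV = 16 ∧ Nat.card BV = 4 ∧ Nat.card (Subgroup.centralizer ({dB} : Set V)) = 32 ∧
    Nat.card (Subgroup.centralizer ({dB, sV} : Set V)) = 8 := by
  have h16 : (Finset.univ.filter fun v : V => v * dB = dB * v ∧ v * dC = dC * v).card = 16 := by decide +kernel
  have h4 : (Finset.univ.filter fun v : V => v = 1 ∨ v = dB ∨ v = dC ∨ v = dB * dC).card = 4 := by
    decide +kernel
  have h32 : (Finset.univ.filter fun v : V => v * dB = dB * v).card = 32 := by decide +kernel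
  have h8 : (Finset.univ.filter fun v : V => v * dB = dB * v ∧ v * sV = sV * v).card = 8 := by decide +kernel
  have cnt : ∀ (K : Subgroup V) (p : V → Prop) [DecidablePred p], (∀ v, v ∈ K ↔ p v) →
      Nat.card K = (Finset.univ.filter p).card := fun K p _ h => by
    rw [Nat.card_congr (Equiv.subtypeEquivRight h), Nat.card_eq_fintype_card, Fintype.card_subtype]
  refine ⟨(cnt _ _ fun v => mem_WV).trans h16, (cnt BV (fun v => v = 1 ∨ v = dB ∨ v = dC ∨ v = dB * dC) fun v => Iff.rfl).trans h4,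
    (cnt _ _ fun v => Subgroup.mem_centralizer_singleton_iff).trans h32, (cnt _ _ fun v => ?_).trans h8⟩
  simp only [Subgroup.mem_centralizer_iff, Set.mem_insert_iff, Set.mem_singleton_iff, forall_eq_or_imp,
    forall_eq]
  exact and_congr eq_comm eq_comm

end V

end Cfsg.Agent.Cent32
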