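import Cfsg.Agent.Cent32.Hom
import Cfsg.Agent.Cent32.CentTab
import Cfsg.Agent.Cent32.A8Facts
import Cfsg.Agent.Fg24.InvolD8.KleinOrder
import Mathlib.GroupTheory.Index

/-!
The centralizer of a four-group generated by double transpositions.
-/

set_option autoImplicit false
set_option maxRecDepth 8000

namespace Cfsg.Agent.Cent32

universe u

variable {G : Type u} [Group G] {z : G}

namespace VEmb

theorem map_comm (h : VEmb z) {v w : V} (e : v * w = w * v) : h.ι v * h.ι w = h.ι w * h.ι v :=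
  (h.comm_iff v w).2 e

end VEmb

namespace Seeded

variable (S : Seeded z)

/-- The centralizer of the four-group. -/
def Xs : Subgroup G := Subgroup.centralizer ({S.ι V.dB, S.ι V.dC} : Set G)

theorem mem_Xs {g : G} : g ∈ S.Xs ↔ g * S.ι V.dB = S.ι V.dB * g ∧ g * S.ι V.dC = S.ι V.dC * g := by
  simp only [Xs, Subgroup.mem_centralizer_iff, Set.mem_insert_iff, Set.mem_singleton_iff, forall_eq_or_imp,
    forall_eq]
  exact and_congr eq_comm eq_comm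

theorem W_Xs {v : V} (hv : v ∈ V.WV) : S.ι v ∈ S.Xs :=
  S.mem_Xs.2 ⟨S.A.toV.map_comm (V.mem_WV.1 hv).1, S.A.toV.map_comm (V.mem_WV.1 hv).2⟩

theorem x_Xs : S.x ∈ S.Xs :=
  S.mem_Xs.2 ⟨mul_inv_eq_iff_eq_mul.1 S.isX.hB, mul_inv_eq_iff_eq_mul.1 S.isX.hC⟩

theorem z_comm_of {g : G} (h1 : g * S.ι V.u1 = S.ι V.u1 * g) (h2 : g * S.ι V.dB = S.ι V.dB * g) :
    g * z = z * g := by
  have e := (show Commute g (S.ι V.u1) from h1).mul_right (show Commute g (S.ι V.dB) from h2)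
  rw [← map_mul, V.plane_mul.2.2.2.2.2.1, S.A.toV.ι_z] at e
  exact e.eq

/-- An element of the centralizer fixing a point of the moved four-group lies in the two-group. -/
theorem Xs_fix {g : G} (hg : g ∈ S.Xs) (h1 : g * S.ι V.u1 = S.ι V.u1 * g) :
    ∃ w ∈ V.WV, S.ι w = g := by
  obtain ⟨hb, hc⟩ := S.mem_Xs.1 hg
  obtain ⟨v, rfl⟩ := S.A.toV.mem_range (S.z_comm_of h1 hb)
  exact ⟨v, V.mem_WV.2 ⟨(S.A.toV.comm_iff _ _).1 hb, (S.A.toV.comm_iff _ _).1 hc⟩, rfl⟩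

theorem Wi_le : V.WV.map S.ι ≤ S.Xs := by
  rintro _ ⟨v, hv, rfl⟩; exact S.W_Xs hv

theorem u1_Xs : S.ι V.u1 ∈ S.Xs :=
  S.W_Xs (V.mem_WV.2 ⟨V.W_basic.1, V.W_basic.2.1⟩)

theorem u2_Xs : S.ι V.u2 ∈ S.Xs :=
  S.W_Xs (V.mem_WV.2 ⟨V.W_basic.2.2.1, V.W_basic.2.2.2.1⟩)

theorem card_Wi : Nat.card (V.WV.map S.ι) = 16 := by
  rw [← V.W_card.1]
  exact Nat.card_congr (V.WV.equivMapOfInjective _ S.A.toV.inj).toEquiv.symm

theorem card_Bi : Nat.card (V.BV.map S.ι) = 4 := by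
  rw [← V.W_card.2.1]
  exact Nat.card_congr (V.BV.equivMapOfInjective _ S.A.toV.inj).toEquiv.symm

/-- The classes which do not meet that of `z`. -/
theorem not_zconj {v : V} (hv : V.ty v = 3 ∨ V.ty v = 5) : ¬ IsConj z (S.ι v) := fun hc => by
  have := (S.good v (by omega)).1 hc
  omega

theorem ty_of_conj {v w : V} (hv : V.ty v = 3 ∨ V.ty v = 5) {g : G} (e : g * S.ι v * g⁻¹ = S.ι w) :
    V.ty w = 3 ∨ V.ty w = 5 := by
  have hw : V.ty w ≠ 0 := S.A.toV.ty_ne_zero (by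
    show orderOf (S.ι w) = 2
    rw [← e, Invol.orderOf_conj]
    exact S.A.toV.ord v (by omega))
  by_contra hne
  push Not at hne
  exact S.not_zconj hv (((S.good w hw).2 hne).trans (isConj_iff.2 ⟨g, e⟩).symm)

theorem B_cent {g : G} (hg : g ∈ S.Xs) {v : V} (hv : v ∈ V.BV) : g * S.ι v = S.ι v * g := by
  obtain ⟨hb, hc⟩ := S.mem_Xs.1 hg
  rcases hv with rfl | rfl | rfl | rfl
  · rw [map_one, mul_one, one_mul]
  · exact hb
  · exact hc
  · rw [map_mul]; exact ((show Commute g _ from hb).mul_right (show Commute g _ from hc)).eq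

/-- An element normalising the two-group is a power of `x` times an element of it. -/
theorem Xs_norm {n : G} (hn : n ∈ S.Xs) (h : ∀ v ∈ V.WV, ∃ w ∈ V.WV, n * S.ι v * n⁻¹ = S.ι w) :
    ∃ (i : ℕ), ∃ w ∈ V.WV, n = S.x ^ i * S.ι w := by
  obtain ⟨u, hu, e⟩ := h V.u1 (V.mem_WV.2 ⟨V.W_basic.1, V.W_basic.2.1⟩)
  obtain ⟨hu1, hu2⟩ := V.mem_WV.1 hu
  have hty := S.ty_of_conj (Or.inl V.plane_ty.1) e
  have hB : ∀ v ∈ V.BV, u = v → False := fun v hv hv' => by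
    have e' : n * S.ι V.u1 * n⁻¹ = n * S.ι v * n⁻¹ := by
      rw [e, hv', S.B_cent hn hv, mul_inv_cancel_right]
    have := S.A.toV.inj (mul_left_cancel (mul_right_cancel e'))
    obtain ⟨-, -, -, -, -, -, -, -, -, -, -, -, ⟨a, b, c, d⟩, -⟩ := V.W_basic
    rcases hv with rfl | rfl | rfl | rfl
    exacts [a this, b this, c this, d this]
  have main : ∀ i : ℕ, S.x ^ i * S.ι V.u1 * (S.x ^ i)⁻¹ = S.ι u →
      ∃ w ∈ V.WV, n = S.x ^ i * S.ι w := by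
    intro i ei
    obtain ⟨w, hw, hwe⟩ := S.Xs_fix (mul_mem (inv_mem (pow_mem S.x_Xs i)) hn) (by
      have : n * S.ι V.u1 * n⁻¹ = S.x ^ i * S.ι V.u1 * (S.x ^ i)⁻¹ := e.trans ei.symm
      calc (S.x ^ i)⁻¹ * n * S.ι V.u1 = (S.x ^ i)⁻¹ * (n * S.ι V.u1 * n⁻¹) * n := by group
        _ = S.ι V.u1 * ((S.x ^ i)⁻¹ * n) := by rw [this]; group)
    exact ⟨w, hw, by rw [hwe, mul_inv_cancel_left]⟩
  have x2 : S.x ^ 2 * S.ι V.u1 * (S.x ^ 2)⁻¹ = S.ι V.u2 := by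
    rw [pow_two, show S.x * S.x * S.ι V.u1 * (S.x * S.x)⁻¹ = S.x * (S.x * S.ι V.u1 * S.x⁻¹) * S.x⁻¹ by group,
      S.isX.h1, VEmb.IsX.h3 _ S.isX]
  rcases V.W_small u hu1 hu2 hty with rfl | rfl | rfl | rfl | rfl | rfl
  · exact ⟨0, main 0 (by simp)⟩
  · exact ⟨2, main 2 x2⟩
  · exact ⟨1, main 1 (by rw [pow_one]; exact S.isX.h1)⟩
  · exact (hB _ (Or.inr (Or.inl rfl)) rfl).elim
  · exact (hB _ (Or.inr (Or.inr (Or.inl rfl))) rfl).elim
  · exact (hB _ (Or.inr (Or.inr (Or.inr rfl))) rfl).elim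

variable [Finite G]

theorem Xs_sylow : ∃ P : Sylow 2 S.Xs, (P : Subgroup S.Xs) = (V.WV.map S.ι).subgroupOf S.Xs := by
  haveI : Fact (Nat.Prime 2) := ⟨Nat.prime_two⟩
  have hp : IsPGroup 2 ((V.WV.map S.ι).subgroupOf S.Xs) := IsPGroup.of_card (n := 4) (by
    rw [Nat.card_congr (Subgroup.subgroupOfEquivOfLe S.Wi_le).toEquiv, S.card_Wi]; rfl)
  refine sylow_of_normalizer _ hp ?_
  rintro n ⟨k, hk⟩ hiff
  have hnorm : ∀ v ∈ V.WV, ∃ w ∈ V.WV, (n : G) * S.ι v * (n : G)⁻¹ = S.ι w := by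
    intro v hv
    obtain ⟨w, hw, e⟩ := (hiff ⟨_, S.W_Xs hv⟩).1 ⟨v, hv, rfl⟩
    exact ⟨w, hw, e.symm⟩
  obtain ⟨i, w, hw, e⟩ := S.Xs_norm n.2 hnorm
  refine ⟨w, hw, ?_⟩
  show S.ι w = (n : G)
  have hxw : ∀ v ∈ V.WV, ∃ w' ∈ V.WV, S.x ^ i * S.ι v * (S.x ^ i)⁻¹ = S.ι w' := by
    intro v hv
    obtain ⟨w', hw', e'⟩ := hnorm v hv
    refine ⟨w', hw', ?_⟩
    rw [← e', e, show S.x ^ i * S.ι w * S.ι v * (S.x ^ i * S.ι w)⁻¹ =
      S.x ^ i * (S.ι w * S.ι v * (S.ι w)⁻¹) * (S.x ^ i)⁻¹ by group,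
      S.A.toV.map_comm (V.W_comm w (V.mem_WV.1 hw).1 (V.mem_WV.1 hw).2 v (V.mem_WV.1 hv).1 (V.mem_WV.1 hv).2),
      mul_inv_cancel_right]
  -- a power of `x` of two-power order modulo the two-group
  have key : ∀ m : ℕ, ∃ w' ∈ V.WV, (n : G) ^ m = (S.x ^ i) ^ m * S.ι w' := by
    intro m
    induction m with
    | zero => exact ⟨1, one_mem _, by simp⟩
    | succ m ih =>
      obtain ⟨w', hw', e'⟩ := ih
      have hinv : ∀ v ∈ V.WV, ∃ w'' ∈ V.WV, S.ι v * S.x ^ i = S.x ^ i * S.ι w'' := by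
        intro v hv
        choose φ hφ hφe using hxw
        let f : V.WV → V.WV := fun a => ⟨φ a.1 a.2, hφ a.1 a.2⟩
        have finj : Function.Injective f := fun a b eab => by
          have h' : φ a.1 a.2 = φ b.1 b.2 := congrArg Subtype.val eab
          have := (hφe a.1 a.2).trans ((congrArg S.ι h').trans (hφe b.1 b.2).symm)
          exact Subtype.ext (S.A.toV.inj (mul_left_cancel (mul_right_cancel this)))
        obtain ⟨a, ha⟩ := (Finite.surjective_of_injective finj) ⟨v, hv⟩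
        refine ⟨a.1, a.2, ?_⟩
        have h' : φ a.1 a.2 = v := congrArg Subtype.val ha
        rw [← h', ← hφe a.1 a.2]; group
      obtain ⟨w'', hw'', e''⟩ := hinv w' hw'
      refine ⟨w'' * w, mul_mem hw'' hw, ?_⟩
      rw [pow_succ, e', e, pow_succ (S.x ^ i), map_mul]
      calc (S.x ^ i) ^ m * S.ι w' * (S.x ^ i * S.ι w) = (S.x ^ i) ^ m * (S.ι w' * S.x ^ i) * S.ι w := by group
        _ = _ := by rw [e'']; group
  obtain ⟨w', hw', e'⟩ := key (2 ^ k)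
  rw [show (n : G) ^ 2 ^ k = 1 by rw [← Subgroup.coe_pow, hk]; rfl] at e'
  have h3 : (S.x ^ i) ^ 3 = 1 := by rw [← pow_mul, mul_comm, pow_mul, S.isX.cube, one_pow]
  have h16 : ((S.x ^ i) ^ 2 ^ k) ^ 16 = 1 := by
    rw [eq_inv_of_mul_eq_one_left e'.symm, inv_pow, ← map_pow, (V.S_small w' (V.mem_WV.1 hw').1).1, map_one,
      inv_one]
  have hcop : Nat.Coprime (2 ^ k * 16) 3 := by
    rw [show 2 ^ k * 16 = 2 ^ (k + 4) by rw [pow_add]; rfl]
    exact (Nat.Coprime.pow_left _ (by norm_num))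
  have h1 : S.x ^ i = 1 := by
    rw [← pow_mul] at h16
    have := pow_gcd_eq_one.2 ⟨h16, h3⟩
    rwa [hcop, pow_one] at this
  rw [e, h1, one_mul]

theorem card_Xs : Nat.card S.Xs = 48 ∨ Nat.card S.Xs = 240 := by
  classical
  haveI : Fact (Nat.Prime 2) := ⟨Nat.prime_two⟩
  obtain ⟨P, hP⟩ := S.Xs_sylow
  set Bx := (V.BV.map S.ι).subgroupOf S.Xs
  have hBW : V.BV ≤ V.WV := by
    intro v hv
    rcases hv with rfl | rfl | rfl | rfl
    · exact one_mem _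
    · exact V.mem_WV.2 ⟨rfl, V.W_basic.2.2.2.2.2.2.1⟩
    · exact V.mem_WV.2 ⟨V.W_basic.2.2.2.2.2.2.1.symm, rfl⟩
    · exact mul_mem (V.mem_WV.2 ⟨rfl, V.W_basic.2.2.2.2.2.2.1⟩)
        (V.mem_WV.2 ⟨V.W_basic.2.2.2.2.2.2.1.symm, rfl⟩)
  haveI : Bx.Normal := ⟨fun b hb g => by
    obtain ⟨v, hv, e⟩ := hb
    refine ⟨v, hv, ?_⟩
    show S.ι v = (g : G) * (b : G) * (g : G)⁻¹
    rw [← show S.ι v = (b : G) from e, S.B_cent g.2 hv, mul_inv_cancel_right]⟩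
  have hBx : Nat.card Bx = 4 := by
    rw [Nat.card_congr (Subgroup.subgroupOfEquivOfLe ((Subgroup.map_mono hBW).trans S.Wi_le)).toEquiv, S.card_Bi]
  have hP16 : Nat.card P = 16 := by
    show Nat.card (P : Subgroup S.Xs) = 16
    rw [hP, Nat.card_congr (Subgroup.subgroupOfEquivOfLe S.Wi_le).toEquiv, S.card_Wi]
  set g₀ := (P : Subgroup S.Xs).index
  have hg₀ : Odd g₀ := Nat.odd_iff.2 (Nat.two_dvd_ne_zero.1 P.not_dvd_index)
  have hX : Nat.card S.Xs = 16 * g₀ := by rw [← (P : Subgroup S.Xs).card_mul_index]; rw [hP16]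
  have hQ : Nat.card (S.Xs ⧸ Bx) = 4 * g₀ := by
    have := Bx.card_eq_card_quotient_mul_card_subgroup
    rw [hX, hBx] at this
    omega
  have hsurj := QuotientGroup.mk'_surjective Bx
  set Pq := P.mapSurjective hsurj
  have hPq : Nat.card (Pq : Subgroup (S.Xs ⧸ Bx)) = 4 := by
    have h1 : Bx ≤ (P : Subgroup S.Xs) := hP ▸ fun x hx => Subgroup.map_mono hBW hx
    have h2 : Nat.card ((P : Subgroup S.Xs).map (QuotientGroup.mk' Bx)) = Bx.relIndex P := by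
      rw [← Subgroup.relIndex_ker, QuotientGroup.ker_mk']
    show Nat.card ((P : Subgroup S.Xs).map (QuotientGroup.mk' Bx)) = 4
    have h3 := (Bx.subgroupOf (P : Subgroup S.Xs)).card_mul_index
    rw [Nat.card_congr (Subgroup.subgroupOfEquivOfLe h1).toEquiv, hBx] at h3
    rw [h2, Subgroup.relIndex]
    omega
  let a : S.Xs := ⟨_, S.u1_Xs⟩
  set ā := QuotientGroup.mk' Bx a
  have haP : a ∈ (P : Subgroup S.Xs) := hP ▸ ⟨_, V.mem_WV.2 ⟨V.W_basic.1, V.W_basic.2.1⟩, rfl⟩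
  have hnotB : ∀ v : V, (v ≠ 1 ∧ v ≠ V.dB ∧ v ≠ V.dC ∧ v ≠ V.dB * V.dC) → S.ι v ∉ V.BV.map S.ι := by
    rintro v ⟨a1, a2, a3, a4⟩ ⟨w, hw, e⟩
    rcases hw with rfl | rfl | rfl | rfl
    exacts [a1 (S.A.toV.inj e.symm), a2 (S.A.toV.inj e.symm), a3 (S.A.toV.inj e.symm), a4 (S.A.toV.inj e.symm)]
  obtain ⟨-, -, -, -, -, -, -, -, -, -, -, -, hu1ne, hu2ne⟩ := V.W_basic
  have ha2 : orderOf ā = 2 := by
    refine Invol.orderOf_eq_two_iff.2 ⟨fun e => hnotB _ hu1ne ((QuotientGroup.eq_one_iff a).1 e), ?_⟩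
    rw [← map_mul, show a * a = 1 from Subtype.ext (S.A.toV.sq_one (by rw [V.plane_ty.1]; norm_num)), map_one]
  have hC : Nat.card (Subgroup.centralizer ({ā} : Set (S.Xs ⧸ Bx))) = 4 := by
    rw [← hPq]
    congr 1
    refine congrArg (fun H : Subgroup (S.Xs ⧸ Bx) => ↥H) (le_antisymm ?_ ?_)
    · intro q hq
      obtain ⟨g, rfl⟩ := hsurj q
      have hq' := Subgroup.mem_centralizer_singleton_iff.1 hq
      have hmem : g * a * g⁻¹ * a⁻¹ ∈ Bx := by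
        rw [← QuotientGroup.eq_one_iff]
        show (QuotientGroup.mk' Bx) (g * a * g⁻¹ * a⁻¹) = 1
        rw [map_mul, map_mul, map_mul, map_inv, map_inv,
          show QuotientGroup.mk' Bx g * QuotientGroup.mk' Bx a = QuotientGroup.mk' Bx a * QuotientGroup.mk' Bx g from hq']
        group
      obtain ⟨v, hv, e⟩ := hmem
      have e1 : (g : G) * S.ι V.u1 * (g : G)⁻¹ = S.ι (v * V.u1) := by
        rw [map_mul]
        refine mul_inv_eq_iff_eq_mul.1 ?_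
        exact e.symm
      have hvu : v * V.u1 = V.u1 * v :=
        (V.W_mem v (V.mem_WV.1 (hBW hv)).1 (V.mem_WV.1 (hBW hv)).2).1
      rw [hvu] at e1
      have hv1 := (V.W_coset v hv).2 (S.ty_of_conj (Or.inl V.plane_ty.1) e1)
      rw [hv1, mul_one] at e1
      obtain ⟨w, hw, hwe⟩ := S.Xs_fix g.2 (mul_inv_eq_iff_eq_mul.1 e1)
      exact ⟨g, hP ▸ ⟨w, hw, hwe⟩, rfl⟩
    · rintro _ ⟨g, hg, rfl⟩
      refine Subgroup.mem_centralizer_singleton_iff.2 ?_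
      rw [← map_mul, ← map_mul]
      congr 1
      rw [SetLike.mem_coe, hP] at hg
      obtain ⟨w, hw, e⟩ := hg
      refine Subtype.ext ?_
      show (g : G) * S.ι V.u1 = S.ι V.u1 * (g : G)
      rw [← show S.ι w = (g : G) from e]
      exact S.A.toV.map_comm (V.W_mem w (V.mem_WV.1 hw).1 (V.mem_WV.1 hw).2).1
  have hnc : ¬ ∃ N : Subgroup (S.Xs ⧸ Bx), N.Normal ∧ Nat.card N = g₀ := by
    rintro ⟨N, hN, hNc⟩
    set x' := QuotientGroup.mk' Bx ⟨S.x, S.x_Xs⟩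
    have hidx : N.index = 4 := by
      have h1 := N.card_mul_index
      rw [hNc, hQ, mul_comm 4 g₀] at h1
      exact Nat.eq_of_mul_eq_mul_left hg₀.pos h1
    have hxN : x' ∈ N := by
      rw [← QuotientGroup.eq_one_iff]
      have e3 : (x' : (S.Xs ⧸ Bx) ⧸ N) ^ 3 = 1 := by
        rw [← QuotientGroup.mk_pow, ← map_pow, show (⟨S.x, S.x_Xs⟩ : S.Xs) ^ 3 = 1 from Subtype.ext S.isX.cube,
          map_one, QuotientGroup.mk_one]
      have e4 : (x' : (S.Xs ⧸ Bx) ⧸ N) ^ 4 = 1 := by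
        rw [← hidx, Subgroup.index_eq_card]; exact pow_card_eq_one'
      rw [pow_succ, e3, one_mul] at e4
      exact e4
    let b : S.Xs := ⟨_, S.u2_Xs⟩
    have hcm : QuotientGroup.mk' Bx b ∈ N := by
      have h1 := mul_mem hxN (hN.conj_mem _ (inv_mem hxN) ā)
      have e : QuotientGroup.mk' Bx b = x' * (ā * x'⁻¹ * ā⁻¹) := by
        simp only [x', ā, ← map_inv, ← map_mul]
        congr 1
        refine Subtype.ext ?_
        show S.ι V.u2 = S.x * (S.ι V.u1 * S.x⁻¹ * (S.ι V.u1)⁻¹)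
        rw [show S.x * (S.ι V.u1 * S.x⁻¹ * (S.ι V.u1)⁻¹) = (S.x * S.ι V.u1 * S.x⁻¹) * (S.ι V.u1)⁻¹ by group,
          S.isX.h1, ← map_inv, ← map_mul]
        congr 1
      rw [e]; exact h1
    have hb2 : orderOf (QuotientGroup.mk' Bx b) = 2 := by
      refine Invol.orderOf_eq_two_iff.2 ⟨fun e => hnotB _ hu2ne ((QuotientGroup.eq_one_iff b).1 e), ?_⟩
      rw [← map_mul, show b * b = 1 from Subtype.ext (S.A.toV.sq_one (by rw [V.plane_ty.2.1]; norm_num)), map_one]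
    have := N.orderOf_dvd_natCard hcm
    rw [hb2, hNc] at this
    exact (Nat.not_even_iff_odd.2 hg₀) (even_iff_two_dvd.2 this)
  have := Fg24.InvolD8.card_klein_selfcentralizing g₀ hg₀ hQ hnc Pq ā ⟨a, haP, rfl⟩ ha2 hC
  rcases this with e | e <;> rw [hX, e]
  · exact Or.inl rfl
  · exact Or.inr rfl

end Seeded

end Cfsg.Agent.Cent32
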