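import Mathlib
import Cfsg.Agent.M12Cent.CaseTwo
import Cfsg.Agent.Classical.LinearBasic

/-!
An elementary abelian group of order eight containing all conjugates of an involution that commute
with it is normal, the quotient being the linear group of degree three.
-/

set_option autoImplicit false
set_option maxRecDepth 8000

namespace Cfsg.Agent.Cent32

open Cfsg.Agent

universe u

variable {G : Type u} [Group G]

/-- The elementary abelian group of order eight. -/
abbrev W8 := Multiplicative (Fin 3 → ZMod 2)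

/-- The hypotheses on the centralizer of `z` and the subgroup of order eight. -/
structure Norm8 (z : G) (f : W8 →* G) : Prop where
  inj : Function.Injective f
  hz : orderOf z = 2
  mem : z ∈ f.range
  normal : ∀ l, l * z = z * l → ∀ e ∈ f.range, l * e * l⁻¹ ∈ f.range
  conj : ∀ e ∈ f.range, e ≠ 1 → IsConj z e
  cls : ∀ g, g * z * g⁻¹ * z = z * (g * z * g⁻¹) → g * z * g⁻¹ ∈ f.range
  cent : ∀ k, k * z = z * k → k * k = 1 → k ∉ f.range →
    ∀ x, x * z = z * x → x * k = k * x → ∃ n : ℕ, x ^ 2 ^ n = 1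
  comm : ∀ k, k * z = z * k → k * k = 1 → k ∉ f.range → ∃ e₀ ∈ f.range, e₀ ≠ 1 ∧
    (∀ e ∈ f.range, e * k * e⁻¹ * k⁻¹ = 1 ∨ e * k * e⁻¹ * k⁻¹ = e₀) ∧
    ∃ e ∈ f.range, e * k * e⁻¹ * k⁻¹ = e₀
  two : ∀ k, k * z = z * k → k * k = 1 → k ∉ f.range →
    ∃ e ∈ f.range, e ≠ 1 ∧ e ≠ z ∧ e * k = k * e
  self : ∀ x, x * z = z * x → (∀ e ∈ f.range, x * e = e * x) → x ∈ f.range
  outer : ∃ k, k * z = z * k ∧ orderOf k = 2 ∧ k ∉ f.range
  card : Nat.card ↥(Subgroup.centralizer ({z} : Set G)) = 192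

namespace Norm8

variable {z : G} {f : W8 →* G} (h : Norm8 z f)
include h

omit h in
theorem sq {e : G} (he : e ∈ f.range) : e * e = 1 := by
  obtain ⟨w, rfl⟩ := he
  rw [← map_mul, show w * w = 1 from by revert w; decide, map_one]

omit h in
theorem comm_E {e e' : G} (he : e ∈ f.range) (he' : e' ∈ f.range) : e * e' = e' * e := by
  obtain ⟨w, rfl⟩ := he
  obtain ⟨w', rfl⟩ := he'
  rw [← map_mul, ← map_mul, mul_comm]

variable [Finite G]

theorem norm_of_conj {g : G} (hg : g * z * g⁻¹ ∈ f.range) :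
    g ∈ Subgroup.normalizer (f.range : Set G) := by
  have key : ∀ e ∈ f.range, g⁻¹ * e * g ∈ f.range := by
    intro e he
    by_cases h1 : e = 1
    · rw [h1, mul_one, inv_mul_cancel]; exact one_mem _
    obtain ⟨c, hc⟩ := isConj_iff.1 (h.conj e he h1)
    have hk := comm_E he hg
    have e1 : g⁻¹ * c * z * (g⁻¹ * c)⁻¹ = g⁻¹ * e * g := by rw [← hc]; group
    rw [← e1]
    refine h.cls _ ?_
    rw [e1]
    calc g⁻¹ * e * g * z = g⁻¹ * (e * (g * z * g⁻¹)) * g := by group
      _ = g⁻¹ * (g * z * g⁻¹ * e) * g := by rw [hk]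
      _ = z * (g⁻¹ * e * g) := by group
  refine Subgroup.mem_normalizer_iff.2 fun e => ⟨fun he => ?_, fun he => ?_⟩
  · let φ : f.range → f.range := fun e => ⟨g⁻¹ * e * g, key _ e.2⟩
    have hφ : Function.Injective φ := fun a b hab =>
      Subtype.ext (mul_left_cancel (mul_right_cancel (congrArg Subtype.val hab)))
    obtain ⟨⟨e', he'⟩, hee⟩ := (Finite.surjective_of_injective hφ) ⟨e, he⟩
    have : g⁻¹ * e' * g = e := congrArg Subtype.val hee
    rw [← this, show g * (g⁻¹ * e' * g) * g⁻¹ = e' by group]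
    exact he'
  · have := key _ he
    rwa [show g⁻¹ * (g * e * g⁻¹) * g = e by group] at this

theorem exists_from_z {e : G} (he : e ∈ f.range) (h1 : e ≠ 1) :
    ∃ a ∈ Subgroup.normalizer (f.range : Set G), a * z * a⁻¹ = e := by
  obtain ⟨a, ha⟩ := isConj_iff.1 (h.conj e he h1)
  exact ⟨a, h.norm_of_conj (ha ▸ he), ha⟩

theorem mem_N {g e : G} (he : e ∈ f.range) (h1 : e ≠ 1) (hg : g * e * g⁻¹ ∈ f.range) :
    g ∈ Subgroup.normalizer (f.range : Set G) := by
  obtain ⟨a, ha, rfl⟩ := h.exists_from_z he h1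
  have : g * a ∈ Subgroup.normalizer (f.range : Set G) :=
    h.norm_of_conj (by rwa [show g * a * z * (g * a)⁻¹ = g * (a * z * a⁻¹) * g⁻¹ by group])
  simpa using mul_mem this (inv_mem ha)

theorem cent_z {x : G} (hx : x * z = z * x) : x ∈ Subgroup.normalizer (f.range : Set G) :=
  h.norm_of_conj (by rw [hx, mul_inv_cancel_right]; exact h.mem)

omit h in
theorem exists_fixed {k : G} (hk : k ∈ Subgroup.normalizer (f.range : Set G)) (kk : k * k = 1)
    (hinj : Function.Injective f) : ∃ e ∈ f.range, e ≠ 1 ∧ k * e = e * k := by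
  have hne : ∃ e ∈ f.range, e ≠ (1 : G) :=
    ⟨f (Multiplicative.ofAdd ![1, 0, 0]), ⟨_, rfl⟩, fun e => by
      have := hinj (e.trans (map_one f).symm)
      exact absurd this (by decide)⟩
  obtain ⟨e, he, h1⟩ := hne
  have hki : k⁻¹ = k := inv_eq_of_mul_eq_one_right kk
  have he' : k * e * k⁻¹ ∈ f.range := (Subgroup.mem_normalizer_iff.1 hk e).1 he
  by_cases heq : k * e * k⁻¹ = e
  · exact ⟨e, he, h1, mul_inv_eq_iff_eq_mul.1 heq⟩
  refine ⟨e * (k * e * k⁻¹), mul_mem he he', fun e1 => heq ?_, ?_⟩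
  · exact (mul_left_cancel (e1.trans (sq he).symm))
  · refine mul_inv_eq_iff_eq_mul.1 ?_
    rw [show k * (e * (k * e * k⁻¹)) * k⁻¹ = (k * e * k⁻¹) * (k * (k * e * k⁻¹) * k⁻¹) by group,
      show k * (k * e * k⁻¹) * k⁻¹ = (k * k) * e * (k * k)⁻¹ by group, kk, one_mul, inv_one, mul_one]
    exact comm_E he' he

omit h [Finite G] in
theorem conj_notMem {a k : G} (ha : a ∈ Subgroup.normalizer (f.range : Set G)) (hk : k ∉ f.range) :
    a⁻¹ * k * a ∉ f.range := fun hm => hk (by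
  have := (Subgroup.mem_normalizer_iff.1 ha _).1 hm
  rwa [show a * (a⁻¹ * k * a) * a⁻¹ = k by group] at this)

theorem core {k : G} (kz : k * z = z * k) (kk : k * k = 1) (kE : k ∉ f.range)
    (hc : ∀ e ∈ f.range, e * k * e⁻¹ * k⁻¹ = 1 ∨ e * k * e⁻¹ * k⁻¹ = z)
    (hw : ∃ e ∈ f.range, e * k * e⁻¹ * k⁻¹ = z) {x : G} (hx : x * k = k * x) : x * z = z * x := by
  set H := Subgroup.centralizer ({k} : Set G)
  obtain ⟨t, htE, ht1, htz, htk⟩ := h.two k kz kk kE
  let z' : H := ⟨z, Subgroup.mem_centralizer_singleton_iff.2 kz.symm⟩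
  let t' : H := ⟨t, Subgroup.mem_centralizer_singleton_iff.2 htk⟩
  have ord : ∀ s : G, s ∈ f.range → s ≠ 1 → orderOf s = 2 := fun s hs h1 =>
    Invol.orderOf_eq_two_iff.2 ⟨h1, sq hs⟩
  have hztE : z * t ∈ f.range := mul_mem h.mem htE
  have hzt1 : z * t ≠ 1 := fun e => htz ((mul_left_cancel (e.trans (sq h.mem).symm)))
  have hiso : Cfsg.IsIsolatedInvolution z' := by
    refine ⟨by rw [← Subgroup.orderOf_coe]; exact h.hz, fun g hcomm => Subtype.ext ?_⟩
    have hgk := Subgroup.mem_centralizer_singleton_iff.1 g.2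
    have hc' : (g : G) * z * (g : G)⁻¹ ∈ f.range := h.cls _ (congrArg Subtype.val hcomm.eq).symm
    have hgN := Subgroup.mem_normalizer_iff.1 (h.norm_of_conj hc')
    obtain ⟨e, he, hee⟩ := hw
    have e2 : (g : G) * e * (g : G)⁻¹ * k * ((g : G) * e * (g : G)⁻¹)⁻¹ * k⁻¹ =
        (g : G) * z * (g : G)⁻¹ := by
      have hgk' : (g : G)⁻¹ * k = k * (g : G)⁻¹ := by
        calc (g : G)⁻¹ * k = (g : G)⁻¹ * (k * g) * (g : G)⁻¹ := by group
          _ = (g : G)⁻¹ * (g * k) * (g : G)⁻¹ := by rw [hgk]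
          _ = k * (g : G)⁻¹ := by group
      calc _ = (g : G) * e * ((g : G)⁻¹ * k) * ((g : G) * e⁻¹ * (g : G)⁻¹) * k⁻¹ := by group
        _ = (g : G) * e * (k * (g : G)⁻¹) * ((g : G) * e⁻¹ * (g : G)⁻¹) * k⁻¹ := by rw [hgk']
        _ = (g : G) * (e * k * e⁻¹ * k⁻¹) * (k * (g : G)⁻¹ * k⁻¹) := by group
        _ = (g : G) * z * (g : G)⁻¹ := by rw [hee, ← hgk', mul_inv_cancel_right]
    rcases hc _ ((hgN e).1 he) with e1 | e1
    · rw [e1, eq_comm, conj_eq_one_iff] at e2
      exact absurd e2 (Invol.ne_one h.hz)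
    · exact (e2.symm.trans e1)
  have hO : Cfsg.oddCore H = ⊥ := by
    refine M12Cent.oddCore_bot_of_fpf (z := z') (t := t') (by rw [← Subgroup.orderOf_coe]; exact h.hz)
      (by rw [← Subgroup.orderOf_coe]; exact ord t htE ht1)
      (by rw [← Subgroup.orderOf_coe]; exact ord _ hztE hzt1) fun s hs x hodd hxs => ?_
    have hsE : (s : G) ∈ f.range ∧ (s : G) ≠ 1 := by
      rcases hs with rfl | rfl | rfl
      exacts [⟨h.mem, Invol.ne_one h.hz⟩, ⟨htE, ht1⟩, ⟨hztE, hzt1⟩]
    obtain ⟨a, ha, has⟩ := h.exists_from_z hsE.1 hsE.2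
    have hsk : (s : G) * k = k * s := Subgroup.mem_centralizer_singleton_iff.1 s.2
    have hxk := Subgroup.mem_centralizer_singleton_iff.1 x.2
    have hxs' : (x : G) * s = s * x := congrArg Subtype.val hxs
    have tr : ∀ u v : G, u * v = v * u → a⁻¹ * u * a * (a⁻¹ * v * a) = a⁻¹ * v * a * (a⁻¹ * u * a) := by
      intro u v e
      rw [show a⁻¹ * u * a * (a⁻¹ * v * a) = a⁻¹ * (u * v) * a by group, e]; group
    have hz' : a⁻¹ * (s : G) * a = z := by rw [← has]; group
    obtain ⟨n, hn⟩ := h.cent (a⁻¹ * k * a) (hz' ▸ tr _ _ hsk.symm)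
      (by rw [show a⁻¹ * k * a * (a⁻¹ * k * a) = a⁻¹ * (k * k) * a by group, kk]; group)
      (conj_notMem ha kE) (a⁻¹ * x * a) (hz' ▸ tr _ _ hxs') (tr _ _ hxk)
    have hn' : (x : G) ^ 2 ^ n = 1 := by
      have e : (a⁻¹ * x * a) ^ 2 ^ n = a⁻¹ * (x : G) ^ 2 ^ n * a := by
        simpa using conj_pow (i := 2 ^ n) (a := a⁻¹) (b := (x : G))
      rw [hn] at e
      calc (x : G) ^ 2 ^ n = a * (a⁻¹ * (x : G) ^ 2 ^ n * a) * a⁻¹ := by group
        _ = 1 := by rw [← e]; group
    obtain ⟨m, -, hm⟩ := (Nat.dvd_prime_pow Nat.prime_two).1 (orderOf_dvd_of_pow_eq_one hn')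
    rw [← Subgroup.orderOf_coe, hm] at hodd
    rcases m with _ | m
    · exact Subtype.ext (orderOf_eq_one_iff.1 hm)
    · exact absurd ⟨2 ^ m, by ring⟩ hodd
  have h1 := Invol.zstar hiso ⟨x, Subgroup.mem_centralizer_singleton_iff.2 hx⟩
  rw [hO, Subgroup.mem_bot, mul_inv_eq_one, mul_inv_eq_iff_eq_mul] at h1
  exact (congrArg Subtype.val h1).symm

theorem cent_le {k : G} (hk : k ∈ Subgroup.normalizer (f.range : Set G)) (kk : k * k = 1) (k1 : k ≠ 1)
    {x : G} (hx : x * k = k * x) : x ∈ Subgroup.normalizer (f.range : Set G) := by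
  by_cases hkE : k ∈ f.range
  · exact h.mem_N hkE k1 (by rw [hx, mul_inv_cancel_right]; exact hkE)
  obtain ⟨e, he, h1, hke⟩ := exists_fixed hk kk h.inj
  obtain ⟨a, ha, rfl⟩ := h.exists_from_z he h1
  have kz' : a⁻¹ * k * a * z = z * (a⁻¹ * k * a) := by
    calc a⁻¹ * k * a * z = a⁻¹ * (k * (a * z * a⁻¹)) * a := by group
      _ = a⁻¹ * (a * z * a⁻¹ * k) * a := by rw [hke]
      _ = z * (a⁻¹ * k * a) := by group
  have sq' : ∀ a k : G, k * k = 1 → a⁻¹ * k * a * (a⁻¹ * k * a) = 1 := fun a k e => by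
    rw [show a⁻¹ * k * a * (a⁻¹ * k * a) = a⁻¹ * (k * k) * a by group, e]; group
  have tr : ∀ a u v : G, u * v = v * u →
      a⁻¹ * u * a * (a⁻¹ * v * a) = a⁻¹ * v * a * (a⁻¹ * u * a) := fun a u v e => by
    rw [show a⁻¹ * u * a * (a⁻¹ * v * a) = a⁻¹ * (u * v) * a by group, e]; group
  have hxa := tr a x k hx
  have hkk' := sq' a k kk
  have hkE' := conj_notMem ha hkE
  generalize hk' : a⁻¹ * k * a = k' at kz' hxa hkk' hkE'
  obtain ⟨e₀, he₀, he₀1, hall, e, hee, hw⟩ := h.comm k' kz' hkk' hkE'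
  have hk0 : k' * e₀ = e₀ * k' := by
    have hki : k'⁻¹ = k' := inv_eq_of_mul_eq_one_right hkk'
    have hei : e⁻¹ = e := inv_eq_of_mul_eq_one_right (sq hee)
    have hinv : k' * e₀ * k'⁻¹ = e₀⁻¹ := by
      rw [← hw]
      simp only [mul_inv_rev, inv_inv]
      rw [hei, hki]
      simp [mul_assoc, hkk']
    rw [inv_eq_of_mul_eq_one_right (sq he₀)] at hinv
    exact mul_inv_eq_iff_eq_mul.1 hinv
  obtain ⟨b, hb, rfl⟩ := h.exists_from_z he₀ he₀1
  have hbN := Subgroup.mem_normalizer_iff.1 hb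
  have ct : ∀ e : G, b⁻¹ * e * b * (b⁻¹ * k' * b) * (b⁻¹ * e * b)⁻¹ * (b⁻¹ * k' * b)⁻¹ =
      b⁻¹ * (e * k' * e⁻¹ * k'⁻¹) * b := fun e => by group
  have key : b⁻¹ * (a⁻¹ * x * a) * b * z = z * (b⁻¹ * (a⁻¹ * x * a) * b) := by
    refine h.core (k := b⁻¹ * k' * b) ?_ (sq' b k' hkk') (conj_notMem hb hkE') (fun e he => ?_) ?_
      (tr b _ _ hxa)
    · have := tr b _ _ hk0
      rwa [show b⁻¹ * (b * z * b⁻¹) * b = z by group] at this
    · have := hall _ ((hbN e).1 he)
      have e1 := ct (b * e * b⁻¹)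
      rw [show b⁻¹ * (b * e * b⁻¹) * b = e by group] at e1
      rw [e1]
      rcases this with r | r <;> rw [r]
      · exact Or.inl (by group)
      · exact Or.inr (by group)
    · refine ⟨b⁻¹ * e * b, ?_, ?_⟩
      · exact (hbN _).2 (by rwa [show b * (b⁻¹ * e * b) * b⁻¹ = e by group])
      · rw [ct, hw]; group
  have hN := mul_mem (mul_mem (mul_mem (mul_mem ha hb) (h.cent_z key)) (inv_mem hb)) (inv_mem ha)
  rwa [show a * b * (b⁻¹ * (a⁻¹ * x * a) * b) * b⁻¹ * a⁻¹ = x by group] at hN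

theorem mem_E_of_isConj {k : G} (hk : k ∈ Subgroup.normalizer (f.range : Set G))
    (hc : IsConj z k) : k ∈ f.range := by
  by_contra hkE
  obtain ⟨g, rfl⟩ := isConj_iff.1 hc
  obtain ⟨e, he, h1, hke⟩ := exists_fixed hk (by
    rw [show g * z * g⁻¹ * (g * z * g⁻¹) = g * (z * z) * g⁻¹ by group, sq h.mem]; group) h.inj
  obtain ⟨a, ha, rfl⟩ := h.exists_from_z he h1
  refine conj_notMem ha hkE ?_
  rw [show a⁻¹ * (g * z * g⁻¹) * a = a⁻¹ * g * z * (a⁻¹ * g)⁻¹ by group]
  refine h.cls _ ?_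
  calc a⁻¹ * g * z * (a⁻¹ * g)⁻¹ * z = a⁻¹ * (g * z * g⁻¹ * (a * z * a⁻¹)) * a := by group
    _ = a⁻¹ * (a * z * a⁻¹ * (g * z * g⁻¹)) * a := by rw [hke]
    _ = z * (a⁻¹ * g * z * (a⁻¹ * g)⁻¹) := by group

theorem normalizer_top (g : G) : g ∈ Subgroup.normalizer (f.range : Set G) := by
  by_contra hg
  have hu : g * z * g⁻¹ ∉ Subgroup.normalizer (f.range : Set G) := fun hm =>
    hg (h.norm_of_conj (h.mem_E_of_isConj hm (isConj_iff.2 ⟨g, rfl⟩)))
  obtain ⟨k, kz, ko, kE⟩ := h.outer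
  have hkN := h.cent_z kz
  have ho : orderOf (g * z * g⁻¹) = 2 := by rw [Invol.orderOf_conj]; exact h.hz
  have hodd : Odd (orderOf (g * z * g⁻¹ * k)) := by
    by_contra hne
    rw [Nat.not_odd_iff_even] at hne
    have hw2 := Invol.orderOf_central hne (orderOf_pos (g * z * g⁻¹ * k))
    have hwk := Invol.commute_central' ho ko hne
    have hwu := Invol.commute_central ho ko hne
    have hwN := h.cent_le hkN (Invol.mul_self_eq_one ko) (Invol.ne_one ko) hwk.eq
    exact hu (h.cent_le hwN (Invol.mul_self_eq_one hw2) (Invol.ne_one hw2) hwu.eq.symm)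
  exact kE (h.mem_E_of_isConj hkN
    ((isConj_iff.2 ⟨g, rfl⟩ : IsConj z (g * z * g⁻¹)).trans (Invol.isConj_of_odd ho ko hodd)))

theorem range_normal : f.range.Normal := by
  refine ⟨fun e he g => ?_⟩
  exact (Subgroup.mem_normalizer_iff.1 (h.normalizer_top g) e).1 he

theorem card_G : Nat.card G = 1344 := by
  classical
  haveI := h.range_normal
  have h1 := (Subgroup.centralizer ({z} : Set G)).card_mul_index
  rw [h.card] at h1
  rw [← h1]
  suffices (Subgroup.centralizer ({z} : Set G)).index = 7 by rw [this]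
  have h7 : Nat.card {w : W8 // w ≠ 1} = 7 := by rw [Nat.card_eq_fintype_card]; decide
  rw [← h7, Subgroup.index]
  let F : G ⧸ Subgroup.centralizer ({z} : Set G) → G := Quotient.lift (fun g => g * z * g⁻¹)
    fun a b hab => by
      have hm := Subgroup.mem_centralizer_singleton_iff.1 (QuotientGroup.leftRel_apply.1 hab)
      calc a * z * a⁻¹ = a * (z * (a⁻¹ * b)) * b⁻¹ := by group
        _ = a * (a⁻¹ * b * z) * b⁻¹ := by rw [hm]
        _ = b * z * b⁻¹ := by group
  have hFinj : Function.Injective F := by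
    intro p q
    refine Quotient.inductionOn₂ p q fun a b (hab : a * z * a⁻¹ = b * z * b⁻¹) => ?_
    refine Quotient.sound (QuotientGroup.leftRel_apply.2 (Subgroup.mem_centralizer_singleton_iff.2 ?_))
    calc a⁻¹ * b * z = a⁻¹ * (b * z * b⁻¹) * b := by group
      _ = a⁻¹ * (a * z * a⁻¹) * b := by rw [hab]
      _ = z * (a⁻¹ * b) := by group
  have hmem : ∀ p, ∃ w : {w : W8 // w ≠ 1}, f w.1 = F p := fun p => by
    refine Quotient.inductionOn p fun a => ?_
    obtain ⟨w, hw⟩ := (inferInstance : f.range.Normal).conj_mem z h.mem a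
    refine ⟨⟨w, fun e => Invol.ne_one h.hz ?_⟩, hw⟩
    rw [e, map_one, eq_comm, conj_eq_one_iff] at hw
    exact hw
  choose φ hφ using hmem
  refine Nat.card_congr (Equiv.ofBijective φ ⟨fun p q e => hFinj (by rw [← hφ p, e, hφ q]), fun w => ?_⟩)
  obtain ⟨a, ha⟩ := isConj_iff.1 (h.conj _ ⟨w.1, rfl⟩ fun e => w.2 (h.inj (e.trans (map_one f).symm)))
  exact ⟨Quotient.mk'' a, Subtype.ext (h.inj ((hφ _).trans ha))⟩

theorem self_cent {x : G} (hx : ∀ e ∈ f.range, x * e = e * x) : x ∈ f.range :=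
  h.self x (hx z h.mem) hx

theorem main : ∃ (N : Subgroup G) (hN : N.Normal), IsMulCommutative N ∧ (∀ n ∈ N, n ^ 2 = 1) ∧
    Nat.card N = 8 ∧
      Nonempty (G ⧸ N ≃* Matrix.ProjectiveSpecialLinearGroup (Fin 3) (ZMod 2)) := by
  classical
  haveI := h.range_normal
  have h8 : Nat.card f.range = 8 := by
    rw [← Nat.card_congr (MonoidHom.ofInjective h.inj).toEquiv, Nat.card_eq_fintype_card]
    decide
  refine ⟨f.range, inferInstance, ⟨⟨fun a b => Subtype.ext (comm_E a.2 b.2)⟩⟩,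
    fun n hn => by rw [pow_two, sq hn], h8, ?_⟩
  let fe := MonoidHom.ofInjective h.inj
  let lin : G → ((Fin 3 → ZMod 2) →ₗ[ZMod 2] (Fin 3 → ZMod 2)) := fun g =>
    AddMonoidHom.toZModLinearMap 2
      { toFun := fun v => Multiplicative.toAdd (fe.symm
          ⟨g * f (Multiplicative.ofAdd v) * g⁻¹, (inferInstance : f.range.Normal).conj_mem _ ⟨_, rfl⟩ g⟩)
        map_zero' := by
          rw [ofAdd_zero, ← toAdd_one, ← map_one fe.symm]
          congr 2; exact Subtype.ext (by simp)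
        map_add' := fun u v => by
          rw [← toAdd_mul, ← map_mul fe.symm]
          congr 2; exact Subtype.ext (by
            show g * f (Multiplicative.ofAdd (u + v)) * g⁻¹ =
              (g * f (Multiplicative.ofAdd u) * g⁻¹) * (g * f (Multiplicative.ofAdd v) * g⁻¹)
            rw [ofAdd_add, map_mul]; group) }
  have hlin : ∀ g v, f (Multiplicative.ofAdd (lin g v)) = g * f (Multiplicative.ofAdd v) * g⁻¹ := by
    intro g v
    show f (Multiplicative.ofAdd (Multiplicative.toAdd (fe.symm _))) = _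
    rw [ofAdd_toAdd]
    exact congrArg Subtype.val (fe.apply_symm_apply _)
  have hinjA : ∀ u v : Fin 3 → ZMod 2, f (Multiplicative.ofAdd u) = f (Multiplicative.ofAdd v) → u = v :=
    fun u v e => Multiplicative.ofAdd.injective (h.inj e)
  have hone : lin 1 = LinearMap.id := LinearMap.ext fun v => hinjA _ _ (by rw [hlin]; simp)
  have hmul : ∀ a b, lin (a * b) = lin a ∘ₗ lin b := fun a b => LinearMap.ext fun v => hinjA _ _ (by
    rw [LinearMap.comp_apply, hlin, hlin, hlin]; group)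
  have hdet : ∀ g, (LinearMap.toMatrix' (lin g)).det = 1 := by
    intro g
    have key : ∀ x y : ZMod 2, x * y = 1 → x = 1 := by decide
    refine key _ (LinearMap.toMatrix' (lin g⁻¹)).det ?_
    rw [← Matrix.det_mul, ← LinearMap.toMatrix'_comp, ← hmul, mul_inv_cancel, hone,
      LinearMap.toMatrix'_id, Matrix.det_one]
  let ψ : G →* Matrix.SpecialLinearGroup (Fin 3) (ZMod 2) :=
    { toFun := fun g => ⟨LinearMap.toMatrix' (lin g), hdet g⟩
      map_one' := Subtype.ext (by simp [hone])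
      map_mul' := fun a b => Subtype.ext (by
        show LinearMap.toMatrix' (lin (a * b)) = LinearMap.toMatrix' (lin a) * LinearMap.toMatrix' (lin b)
        rw [hmul, LinearMap.toMatrix'_comp]) }
  have hker : ψ.ker = f.range := by
    ext g
    rw [MonoidHom.mem_ker]
    constructor
    · intro hg
      have hg' : lin g = LinearMap.id := LinearMap.toMatrix'.injective (by
        rw [LinearMap.toMatrix'_id]; exact congrArg Subtype.val hg)
      refine h.self_cent ?_
      rintro _ ⟨w, rfl⟩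
      have := hlin g (Multiplicative.toAdd w)
      rw [hg', LinearMap.id_apply, ofAdd_toAdd] at this
      exact (mul_inv_eq_iff_eq_mul.1 this.symm)
    · intro hg
      refine Subtype.ext ?_
      show LinearMap.toMatrix' (lin g) = 1
      rw [← LinearMap.toMatrix'_id]
      congr 1
      refine LinearMap.ext fun v => hinjA _ _ ?_
      rw [hlin, LinearMap.id_apply, comm_E hg ⟨_, rfl⟩, mul_inv_cancel_right]
  have hcen : Subgroup.center (Matrix.SpecialLinearGroup (Fin 3) (ZMod 2)) = ⊥ := by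
    refine (Subgroup.eq_bot_iff_forall _).2 fun c hc => ?_
    obtain ⟨x, hx, hc'⟩ := Matrix.SpecialLinearGroup.mem_center_iff.1 hc
    have key : ∀ y : ZMod 2, y ^ 3 = 1 → y = 1 := by decide
    rw [Fintype.card_fin] at hx
    rw [key x hx, map_one] at hc'
    exact Subtype.ext hc'.symm
  have hcardSL : Nat.card (Matrix.SpecialLinearGroup (Fin 3) (ZMod 2)) = 168 := by
    have h2 := Classical.card_sl_mul (F := ZMod 2) (ZMod.card 2) 3 (by norm_num)
    rw [show (∏ i : Fin 3, (2 ^ 3 - 2 ^ (i : ℕ))) = 168 from by decide, show 2 - 1 = 1 from rfl,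
      one_mul] at h2
    exact h2
  have hsurj : Function.Surjective ψ := by
    refine MonoidHom.range_eq_top.1 (Subgroup.eq_top_of_card_eq _ ?_)
    have := ψ.ker.card_mul_index
    rw [Subgroup.index_ker, hker, h8, h.card_G] at this
    rw [hcardSL]; omega
  exact ⟨((QuotientGroup.quotientMulEquivOfEq hker.symm).trans
    (QuotientGroup.quotientKerEquivOfSurjective ψ hsurj)).trans
    ((QuotientGroup.quotientMulEquivOfEq hcen).trans QuotientGroup.quotientBot).symm⟩

end Norm8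

end Cfsg.Agent.Cent32
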