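import Cfsg.Agent.Cent32.AGL
import Cfsg.Agent.Cent32.NormalE

/-!
Checked facts about the model used for the patterns of fusion.
-/

set_option autoImplicit false
set_option maxRecDepth 8000
set_option synthInstance.maxSize 1000

namespace Cfsg.Agent.Cent32

/-- The index of a vector. -/
def w8 (w : W8) : Fin 8 :=
  ⟨((Multiplicative.toAdd w 0).val + 2 * (Multiplicative.toAdd w 1).val +
    4 * (Multiplicative.toAdd w 2).val) % 8, Nat.mod_lt _ (by norm_num)⟩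

/-- The translation by a vector. -/
def eV (w : W8) : V := tV (w8 w)

theorem eV_mul : eV 1 = 1 ∧ ∀ a b : W8, eV (a * b) = eV a * eV b := by decide +kernel

/-- The translations as the image of a homomorphism. -/
def eVHom : W8 →* V where
  toFun := eV
  map_one' := eV_mul.1
  map_mul' := eV_mul.2

theorem eV_inj : ∀ a b : W8, eV a = eV b → a = b := by decide +kernel

theorem eV_ty : (∀ w : W8, w ≠ 1 → V.ty (eV w) = 1 ∨ V.ty (eV w) = 2) ∧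
    ∀ x : V, V.ty x = 1 ∨ V.ty x = 2 → ∃ w, eV w = x := by decide +kernel

theorem eV_normal : ∀ (l : V) (w : W8), ∃ w', eV w' = l * eV w * l⁻¹ := by decide +kernel

theorem eV_cent : ∀ k : V, k * k = 1 → (∀ w, eV w ≠ k) → ∀ x : V, x * k = k * x → x ^ 16 = 1 := by
  decide +kernel

theorem eV_comm : ∀ k : V, k * k = 1 → (∀ w, eV w ≠ k) →
    (∃ w₀ : W8, w₀ ≠ 1 ∧ (∀ w, eV w * k * (eV w)⁻¹ * k⁻¹ = 1 ∨ eV w * k * (eV w)⁻¹ * k⁻¹ = eV w₀) ∧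
      ∃ w, eV w * k * (eV w)⁻¹ * k⁻¹ = eV w₀) ∧
    ∃ w, eV w ≠ 1 ∧ eV w ≠ V.zV ∧ eV w * k = k * eV w := by
  decide +kernel

theorem eV_self : ∀ x : V, (∀ w, x * eV w = eV w * x) → ∃ w, eV w = x := by decide +kernel

theorem eV_outer : V.bV * V.bV = 1 ∧ V.bV ≠ 1 ∧ ∀ w, eV w ≠ V.bV := by decide +kernel

theorem ty_conj : ∀ c u : V, V.ty (c * u * c⁻¹) = V.ty u := by decide +kernel

theorem W_cent : ∀ p : V, V.ty p = 5 ∨ V.ty p = 6 →
    ∃ c : V, ∀ x : V, x * p = p * x → c⁻¹ * x * c * V.cV = V.cV * (c⁻¹ * x * c) := by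
  decide +kernel

theorem W_small : ∀ p : V, 2 ≤ V.ty p → V.ty p ≤ 4 →
    (Finset.univ.filter fun q : V => (V.ty q = 1 ∨ V.ty q = 2 ∨ V.ty q = 3 ∨ V.ty q = 4) ∧ q * p = p * q).card < 15 := by
  decide +kernel

theorem W_facts : (∀ x y : V, x * V.cV = V.cV * x → y * V.cV = V.cV * y → x * y = y * x) ∧
    (∀ x : V, x * V.cV = V.cV * x → x ≠ 1 → V.ty x ≠ 0) ∧
    (Finset.univ.filter fun x : V => x * V.cV = V.cV * x ∧ x ≠ 1).card = 15 ∧
    (∀ x : V, (∀ y : V, y * V.cV = V.cV * y → x * y = y * x) → x * V.cV = V.cV * x) ∧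
    V.zV * V.cV = V.cV * V.zV := by
  decide +kernel

/-- The normalizer in the model of the centralizer of `cV`. -/
def inNW (n : V) : Bool :=
  decide (∀ x : V, x * V.cV = V.cV * x → n * x * n⁻¹ * V.cV = V.cV * (n * x * n⁻¹))

/-- A pair generating the normalizer modulo the centralizer of `cV`. -/
theorem NW_facts : ∃ n₁ n₂ : V, inNW n₁ = true ∧ inNW n₂ = true ∧
    n₁ * n₁ * V.cV = V.cV * (n₁ * n₁) ∧ n₂ * n₂ * V.cV = V.cV * (n₂ * n₂) ∧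
    (∀ n : V, inNW n = true → ∃ i j : Fin 2, (n₂ ^ j.1)⁻¹ * (n₁ ^ i.1)⁻¹ * n * V.cV =
      V.cV * ((n₂ ^ j.1)⁻¹ * (n₁ ^ i.1)⁻¹ * n)) ∧
    (∀ n : V, n = n₁ ∨ n = n₂ ∨ n = n₁ * n₂ →
      (Finset.univ.filter fun x : V => x * V.cV = V.cV * x ∧ x ≠ 1 ∧ n * x = x * n).card = 3 ∧
        n * V.cV ≠ V.cV * n) ∧
    (n₁ * n₂ * (n₂ * n₁)⁻¹) * V.cV = V.cV * (n₁ * n₂ * (n₂ * n₁)⁻¹) ∧
    (∀ x : V, x * V.cV = V.cV * x → x ≠ 1 → n₁ * x = x * n₁ → n₂ * x = x * n₂ → x = V.zV) := by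
  refine ⟨V.mk' 24, V.mk' 16, ?_⟩
  decide +kernel

end Cfsg.Agent.Cent32
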