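import Cfsg.Agent.Cent32.Split
import Cfsg.Agent.Cent32.ClassTab
import Mathlib.GroupTheory.Transfer

/-!
The patterns of fusion.
-/

set_option autoImplicit false
set_option maxRecDepth 8000

namespace Cfsg.Agent.Cent32

universe u

variable {G : Type u} [Group G] [Finite G] {z : G} (h : VEmb z)
include h

omit [Finite G] in
theorem norm8V (hza : IsConj z (h.ι V.aV)) 
    (hno : ∀ y, 3 ≤ V.ty y → ¬ IsConj z (h.ι y)) :
    Norm8 z (h.ι.comp eVHom) := by
  have hmem : ∀ {k : V}, h.ι k ∉ (h.ι.comp eVHom).range → ∀ w, eV w ≠ k := fun hk w e =>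
    hk ⟨w, congrArg h.ι e⟩
  have hk2 : ∀ {k : V}, h.ι k * h.ι k = 1 → k * k = 1 := fun e => h.inj (by rw [map_mul, e, map_one])
  refine
    { inj := fun a b e => eV_inj a b (h.inj e)
      hz := h.hz
      mem := ?_
      normal := ?_
      conj := ?_
      cls := ?_
      cent := ?_
      comm := ?_
      two := ?_
      self := ?_
      outer := ?_
      card := h.card_cent }
  · obtain ⟨w, hw⟩ := eV_ty.2 V.zV (Or.inl V.ty_rep.1)
    exact ⟨w, (congrArg h.ι hw).trans h.ι_z⟩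
  · rintro l hl _ ⟨w, rfl⟩
    obtain ⟨x, rfl⟩ := h.mem_range hl
    obtain ⟨w', hw'⟩ := eV_normal x w
    exact ⟨w', (congrArg h.ι hw').trans (by simp [eVHom])⟩
  · rintro _ ⟨w, rfl⟩ he
    rcases eV_ty.1 w (fun e => he (by rw [e, map_one])) with e | e
    · show IsConj z (h.ι (eV w))
      rw [(V.ty_spec _).2.2 e, h.ι_z]
    · exact hza.trans (h.conj_ty (V.ty_rep.2.1.trans e.symm) (by rw [V.ty_rep.2.1]; norm_num))
  · intro g hg
    obtain ⟨y, hy, hye⟩ := h.lift (by rw [Invol.orderOf_conj, h.hz]) hg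
    have hc : IsConj z (h.ι y) := isConj_iff.2 ⟨g, hye.symm⟩
    rw [← hye]
    obtain ⟨w, rfl⟩ := eV_ty.2 y (by
      by_contra hne
      exact hno y (by omega) hc)
    exact ⟨w, rfl⟩
  · intro k kz kk kE x xz xk
    obtain ⟨k, rfl⟩ := h.mem_range kz
    obtain ⟨x, rfl⟩ := h.mem_range xz
    exact ⟨4, by rw [show 2 ^ 4 = 16 from rfl, ← map_pow, eV_cent k (hk2 kk) (hmem kE) x ((h.comm_iff _ _).1 xk), map_one]⟩
  · intro k kz kk kE
    obtain ⟨k, rfl⟩ := h.mem_range kz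
    obtain ⟨⟨w₀, hw0, hall, w, hw⟩, -⟩ := eV_comm k (hk2 kk) (hmem kE)
    refine ⟨h.ι (eV w₀), ⟨w₀, rfl⟩, fun e => hw0 (eV_inj _ _ ((h.inj (e.trans (map_one h.ι).symm)).trans
      eV_mul.1.symm)), ?_, h.ι (eV w), ⟨w, rfl⟩, by rw [← map_inv, ← map_inv, ← map_mul, ← map_mul, ← map_mul, hw]⟩
    rintro _ ⟨v, rfl⟩
    show h.ι (eV v) * h.ι k * (h.ι (eV v))⁻¹ * (h.ι k)⁻¹ = 1 ∨
      h.ι (eV v) * h.ι k * (h.ι (eV v))⁻¹ * (h.ι k)⁻¹ = h.ι (eV w₀)
    rw [← map_inv, ← map_inv, ← map_mul, ← map_mul, ← map_mul]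
    rcases hall v with e | e <;> rw [e]
    · exact Or.inl (map_one _)
    · exact Or.inr rfl
  · intro k kz kk kE
    obtain ⟨k, rfl⟩ := h.mem_range kz
    obtain ⟨-, w, h1, h2, h3⟩ := eV_comm k (hk2 kk) (hmem kE)
    exact ⟨h.ι (eV w), ⟨w, rfl⟩, fun e => h1 (h.inj (e.trans (map_one h.ι).symm)),
      fun e => h2 (h.inj (e.trans h.ι_z.symm)), (h.comm_iff _ _).2 h3⟩
  · intro x xz hx
    obtain ⟨x, rfl⟩ := h.mem_range xz
    obtain ⟨w, rfl⟩ := eV_self x fun w => (h.comm_iff _ _).1 (hx _ ⟨w, rfl⟩)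
    exact ⟨w, rfl⟩
  · refine ⟨h.ι V.bV, h.comm _, h.ord _ (by rw [V.ty_rep.2.2.1]; norm_num), ?_⟩
    rintro ⟨w, hw⟩
    exact eV_outer.2.2 w (h.inj hw)

/-- Not all involutions are fused. -/
theorem not_all (hall : ∀ x, V.ty x ≠ 0 → IsConj z (h.ι x)) : False := by
  classical
  obtain ⟨Wab, Wty, W15, Wself, Wz⟩ := W_facts
  set WV : Subgroup V := Subgroup.centralizer ({V.cV} : Set V)
  have memW : ∀ x, x ∈ WV ↔ x * V.cV = V.cV * x := fun x => Subgroup.mem_centralizer_singleton_iff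
  set Wi : Subgroup G := WV.map h.ι
  have memWi : ∀ g, g ∈ Wi ↔ ∃ x, x * V.cV = V.cV * x ∧ h.ι x = g := fun g => by
    simp only [Wi, Subgroup.mem_map, memW]
  set N := Subgroup.normalizer (Wi : Set G)
  let Om := {x : V // x * V.cV = V.cV * x ∧ x ≠ 1}
  have hOm : Nat.card Om = 15 := by rw [Nat.card_eq_fintype_card, Fintype.card_subtype]; exact W15
  have hzO : V.zV * V.cV = V.cV * V.zV ∧ V.zV ≠ 1 :=
    ⟨Wz, ((V.ty_spec V.zV).1.1 (by rw [V.ty_rep.1]; norm_num)).2⟩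
  let zo : Om := ⟨V.zV, hzO⟩
  -- the action
  have hact : ∀ (g : N) (x : Om), ∃ y : Om, h.ι y.1 = (g : G) * h.ι x.1 * (g : G)⁻¹ := by
    intro g x
    obtain ⟨y, hy, hye⟩ := (memWi _).1 ((Subgroup.mem_normalizer_iff.1 g.2 _).1
      ((memWi _).2 ⟨x.1, x.2.1, rfl⟩))
    refine ⟨⟨y, hy, fun e => x.2.2 (h.inj ?_)⟩, hye⟩
    rw [e, map_one, eq_comm, conj_eq_one_iff] at hye
    rw [hye, map_one]
  choose φ hφ using hact
  letI : MulAction N Om :=
    { smul := φ
      one_smul := fun x => Subtype.ext (h.inj ((hφ 1 x).trans (by simp)))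
      mul_smul := fun a b x => Subtype.ext (h.inj ((hφ (a * b) x).trans (by
        show _ = h.ι (φ a (φ b x)).1
        rw [hφ a, hφ b]; simp [mul_assoc]))) }
  have hsm : ∀ (g : N) (x : Om), h.ι (g • x).1 = (g : G) * h.ι x.1 * (g : G)⁻¹ := hφ
  -- transitivity
  have htrans : ∀ x : Om, ∃ g : N, g • x = zo := by
    rintro ⟨w, hw, hw1⟩
    obtain ⟨g, hg⟩ := isConj_iff.1 (hall w (Wty w hw hw1)).symm
    have key : ∀ u : V, u * V.cV = V.cV * u → ∃ u' : V, h.ι u' = g * h.ι u * g⁻¹ := by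
      intro u hu
      refine h.mem_range ?_
      conv_lhs => arg 2; rw [← hg]
      conv_rhs => arg 1; rw [← hg]
      rw [show g * h.ι u * g⁻¹ * (g * h.ι w * g⁻¹) = g * (h.ι u * h.ι w) * g⁻¹ by group,
        (h.comm_iff _ _).2 (Wab u w hu hw)]
      group
    choose ψ hψ using key
    have hinjψ : ∀ u hu u' hu', ψ u hu = ψ u' hu' → u = u' := fun u hu u' hu' e => h.inj
      (mul_left_cancel (mul_right_cancel ((hψ u hu).symm.trans ((congrArg h.ι e).trans (hψ u' hu')))))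
    let S : Finset V := (Finset.univ : Finset Om).image fun u => ψ u.1 u.2.1
    have hS : S.card = 15 := by
      rw [Finset.card_image_of_injective _ (fun u u' e => Subtype.ext (hinjψ _ _ _ _ e)), Finset.card_univ,
        ← Nat.card_eq_fintype_card, hOm]
    have hScomm : ∀ p ∈ S, ∀ q ∈ S, q * p = p * q := by
      simp only [S, Finset.mem_image, Finset.mem_univ, true_and]
      rintro _ ⟨u, rfl⟩ _ ⟨u', rfl⟩
      refine (h.comm_iff _ _).1 ?_
      rw [hψ, hψ, show g * h.ι u'.1 * g⁻¹ * (g * h.ι u.1 * g⁻¹) = g * (h.ι u'.1 * h.ι u.1) * g⁻¹ by group,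
        (h.comm_iff _ _).2 (Wab _ _ u'.2.1 u.2.1)]
      group
    have hSty : ∀ p ∈ S, V.ty p ≠ 0 := by
      simp only [S, Finset.mem_image, Finset.mem_univ, true_and]
      rintro _ ⟨u, rfl⟩
      refine h.ty_ne_zero ?_
      rw [hψ, Invol.orderOf_conj]
      exact h.ord _ (Wty _ u.2.1 u.2.2)
    obtain ⟨p, hpS, hp56⟩ : ∃ p ∈ S, V.ty p = 5 ∨ V.ty p = 6 := by
      by_contra hne
      push Not at hne
      obtain ⟨p, hp, hpz⟩ : ∃ p ∈ S, p ≠ V.zV := by
        by_contra hcon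
        push Not at hcon
        have := Finset.card_le_card (show S ⊆ {V.zV} from fun p hp => Finset.mem_singleton.2 (hcon p hp))
        rw [hS, Finset.card_singleton] at this
        omega
      have h6 : ∀ q ∈ S, V.ty q = 1 ∨ V.ty q = 2 ∨ V.ty q = 3 ∨ V.ty q = 4 := fun q hq => by
        have := hSty q hq; have := (V.ty_spec q).2.1; have := hne q hq; omega
      have hp2 : 2 ≤ V.ty p := by
        by_contra hlt
        exact hpz ((V.ty_spec p).2.2 (by have := hSty p hp; omega))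
      have hsub : S ⊆ Finset.univ.filter fun q : V =>
          (V.ty q = 1 ∨ V.ty q = 2 ∨ V.ty q = 3 ∨ V.ty q = 4) ∧ q * p = p * q := fun q hq => by
        simp only [Finset.mem_filter, Finset.mem_univ, true_and]
        exact ⟨h6 q hq, hScomm p hp q hq⟩
      have := (Finset.card_le_card hsub).trans_lt (W_small p hp2 (by have := h6 p hp; omega))
      omega
    obtain ⟨c, hc⟩ := W_cent p hp56
    have hmap : ∀ u, u * V.cV = V.cV * u →
        ∃ u', u' * V.cV = V.cV * u' ∧ h.ι u' = (h.ι c)⁻¹ * g * h.ι u * ((h.ι c)⁻¹ * g)⁻¹ := by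
      intro u hu
      refine ⟨c⁻¹ * ψ u hu * c, hc _ ?_, by rw [map_mul, map_mul, map_inv, hψ]; group⟩
      by_cases hu1 : u = 1
      · have : ψ u hu = 1 := h.inj (by rw [hψ, hu1]; simp)
        rw [this, one_mul, mul_one]
      · exact hScomm p hpS _ (Finset.mem_image.2 ⟨⟨u, hu, hu1⟩, Finset.mem_univ _, rfl⟩)
    choose χ hχ1 hχ2 using hmap
    let F : Om → Om := fun u => ⟨χ u.1 u.2.1, hχ1 _ _, fun e => u.2.2 (h.inj (by
      have := hχ2 u.1 u.2.1
      rw [e, map_one, eq_comm, conj_eq_one_iff] at this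
      rw [this, map_one]))⟩
    have hF : Function.Injective F := fun u u' e => Subtype.ext (h.inj (by
      have := (hχ2 u.1 u.2.1).symm.trans
        ((congrArg (fun x : Om => h.ι x.1) e).trans (hχ2 u'.1 u'.2.1))
      exact mul_left_cancel (mul_right_cancel this)))
    have hgN : (h.ι c)⁻¹ * g ∈ N := by
      refine Subgroup.mem_normalizer_iff.2 fun x => ⟨fun hx => ?_, fun hx => ?_⟩
      · obtain ⟨u, hu, rfl⟩ := (memWi x).1 hx
        exact (memWi _).2 ⟨χ u hu, hχ1 u hu, hχ2 u hu⟩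
      · obtain ⟨u', hu', hu'e⟩ := (memWi _).1 hx
        by_cases h1 : u' = 1
        · rw [h1, map_one, eq_comm, conj_eq_one_iff] at hu'e
          rw [hu'e]; exact one_mem _
        · obtain ⟨u, hu⟩ := (Finite.surjective_of_injective hF) ⟨u', hu', h1⟩
          have e := congrArg (fun y : Om => h.ι y.1) hu
          simp only [F] at e
          rw [hχ2, hu'e] at e
          exact (memWi x).2 ⟨u.1, u.2.1, mul_left_cancel (mul_right_cancel e)⟩
    refine ⟨⟨_, hgN⟩, Subtype.ext (h.inj ((hsm _ _).trans ?_))⟩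
    show (h.ι c)⁻¹ * g * h.ι w * ((h.ι c)⁻¹ * g)⁻¹ = h.ι V.zV
    rw [show (h.ι c)⁻¹ * g * h.ι w * ((h.ι c)⁻¹ * g)⁻¹ = (h.ι c)⁻¹ * (g * h.ι w * g⁻¹) * h.ι c by group,
      hg, mul_assoc, ← h.comm c, inv_mul_cancel_left, h.ι_z]
  -- the permutation group
  set ρ : N →* Equiv.Perm Om := MulAction.toPermHom N Om
  let R := ρ.range
  let T : Subgroup R := MulAction.stabilizer R zo
  obtain ⟨n₁, n₂, hn1, hn2, hsq1, hsq2, hgen, hfix, hab, hcommon⟩ := NW_facts
  have toN : ∀ n, inNW n = true → h.ι n ∈ N := by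
    intro n hn
    simp only [inNW, decide_eq_true_eq] at hn
    let F : Om → Om := fun x => ⟨n * x.1 * n⁻¹, hn _ x.2.1, fun e => x.2.2 (conj_eq_one_iff.1 e)⟩
    have hF : Function.Injective F := fun a b e =>
      Subtype.ext (mul_left_cancel (mul_right_cancel (congrArg Subtype.val e)))
    refine Subgroup.mem_normalizer_iff.2 fun x => ⟨fun hx => ?_, fun hx => ?_⟩
    · obtain ⟨u, hu, rfl⟩ := (memWi x).1 hx
      exact (memWi _).2 ⟨_, hn u hu, by rw [map_mul, map_mul, map_inv]⟩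
    · obtain ⟨u', hu', hu'e⟩ := (memWi _).1 hx
      by_cases h1 : u' = 1
      · rw [h1, map_one, eq_comm, conj_eq_one_iff] at hu'e
        rw [hu'e]; exact one_mem _
      · obtain ⟨u, hu⟩ := (Finite.surjective_of_injective hF) ⟨u', hu', h1⟩
        have e : h.ι (n * u.1 * n⁻¹) = h.ι u' := congrArg (fun y : Om => h.ι y.1) hu
        rw [map_mul, map_mul, map_inv, hu'e] at e
        exact (memWi x).2 ⟨u.1, u.2.1, mul_left_cancel (mul_right_cancel e)⟩
  let r : ∀ n, inNW n = true → R := fun n hn => ⟨ρ ⟨h.ι n, toN n hn⟩, ⟨_, rfl⟩⟩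
  have hr : ∀ n hn (x : Om), h.ι (r n hn • x).1 = h.ι (n * x.1 * n⁻¹) := fun n hn x => by
    rw [map_mul, map_mul, map_inv]
    exact hsm ⟨h.ι n, toN n hn⟩ x
  have hr' : ∀ n hn (x : Om), r n hn • x = x ↔ n * x.1 = x.1 * n := fun n hn x => by
    rw [Subtype.ext_iff, ← h.inj.eq_iff, hr n hn x, h.inj.eq_iff, mul_inv_eq_iff_eq_mul]
  have hmulNW : ∀ a b, inNW a = true → inNW b = true → inNW (a * b) = true := by
    intro a b ha hb
    simp only [inNW, decide_eq_true_eq] at ha hb ⊢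
    intro x hx
    rw [show a * b * x * (a * b)⁻¹ = a * (b * x * b⁻¹) * a⁻¹ by group]
    exact ha _ (hb x hx)
  have hrmul : ∀ a b ha hb, r (a * b) (hmulNW a b ha hb) = r a ha * r b hb := fun a b ha hb => Subtype.ext (by
    show ρ _ = ρ _ * ρ _
    rw [← map_mul]; congr 1; exact Subtype.ext (map_mul _ _ _))
  have hW1 : ∀ n hn, n * V.cV = V.cV * n → r n hn = 1 := fun n hn e =>
    Subtype.ext (Equiv.ext fun x => (hr' n hn x).2 (Wab n x.1 e x.2.1))
  have h1T : ∀ n hn, r n hn ∈ T := fun n hn => (hr' n hn zo).2 (V.zV_central n)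
  -- the stabilizer of the central involution
  have hT : ∀ t ∈ T, ∃ i j : Fin 2, t = r n₁ hn1 ^ i.1 * r n₂ hn2 ^ j.1 := by
    rintro ⟨_, n, rfl⟩ ht
    have e : h.ι (n • zo).1 = h.ι V.zV := congrArg (fun y : Om => h.ι y.1) ht
    rw [hsm, h.ι_z] at e
    obtain ⟨v, hv⟩ := h.mem_range (mul_inv_eq_iff_eq_mul.1 e)
    have hvN : inNW v = true := by
      simp only [inNW, decide_eq_true_eq]
      intro x hx
      have hm := (Subgroup.mem_normalizer_iff.1 n.2 _).1 ((memWi _).2 ⟨x, hx, rfl⟩)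
      rw [← hv, ← map_inv, ← map_mul, ← map_mul] at hm
      obtain ⟨y, hy, hye⟩ := (memWi _).1 hm
      rwa [h.inj hye] at hy
    obtain ⟨i, j, hij⟩ := hgen v hvN
    refine ⟨i, j, ?_⟩
    have e0 : (⟨ρ n, ⟨n, rfl⟩⟩ : R) = r v hvN := Subtype.ext (congrArg ρ (Subtype.ext hv.symm))
    rw [e0]
    have hq : ∀ (a : V) ha (k : Fin 2), inNW (a ^ k.1) = true ∧ ∀ h', r (a ^ k.1) h' = r a ha ^ k.1 := by
      intro a ha k
      fin_cases k
      · refine ⟨by simp [inNW], fun h' => ?_⟩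
        simp only [pow_zero]
        exact hW1 _ (by simp [inNW]) (by simp)
      · refine ⟨by simpa using ha, fun h' => ?_⟩
        simp only [pow_one]
    obtain ⟨h1, e1⟩ := hq n₁ hn1 i
    obtain ⟨h2, e2⟩ := hq n₂ hn2 j
    have hiW : inNW ((n₂ ^ j.1)⁻¹ * (n₁ ^ i.1)⁻¹ * v) = true := by
      simp only [inNW, decide_eq_true_eq]
      intro x hx
      rw [Wab _ _ hij hx, mul_inv_cancel_right]; exact hx
    have := hW1 _ hiW hij
    calc r v hvN = r (n₁ ^ i.1 * n₂ ^ j.1 * ((n₂ ^ j.1)⁻¹ * (n₁ ^ i.1)⁻¹ * v)) (hmulNW _ _ (hmulNW _ _ h1 h2) hiW) := by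
          simp only [r]; congr 4; group
      _ = _ := by rw [hrmul _ _ (hmulNW _ _ h1 h2) hiW, this, mul_one, hrmul _ _ h1 h2, e1 h1, e2 h2]
  have hsqr : ∀ n hn, n * n * V.cV = V.cV * (n * n) → r n hn * r n hn = 1 := fun n hn e => by
    rw [← hrmul n n hn hn]; exact hW1 _ (hmulNW n n hn hn) e
  have hcomm : r n₁ hn1 * r n₂ hn2 = r n₂ hn2 * r n₁ hn1 := by
    have hwm : inNW (n₁ * n₂ * (n₂ * n₁)⁻¹) = true := by
      simp only [inNW, decide_eq_true_eq]
      intro x hx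
      rw [Wab _ _ hab hx, mul_inv_cancel_right]; exact hx
    calc r n₁ hn1 * r n₂ hn2 = r (n₁ * n₂) (hmulNW _ _ hn1 hn2) := (hrmul _ _ hn1 hn2).symm
      _ = r (n₁ * n₂ * (n₂ * n₁)⁻¹ * (n₂ * n₁)) (hmulNW _ _ hwm (hmulNW _ _ hn2 hn1)) := by
        simp only [r]; congr 4; group
      _ = r n₂ hn2 * r n₁ hn1 := by rw [hrmul _ _ hwm (hmulNW _ _ hn2 hn1), hW1 _ hwm hab, one_mul, hrmul _ _ hn2 hn1]
  have hTcomm : ∀ a ∈ T, ∀ b ∈ T, a * b = b * a := by
    intro a ha b hb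
    obtain ⟨i, j, rfl⟩ := hT a ha
    obtain ⟨k, l, rfl⟩ := hT b hb
    exact Commute.mul_left
      (((Commute.refl (r n₁ hn1)).pow_pow _ _).mul_right ((show Commute (r n₁ hn1) (r n₂ hn2) from hcomm).pow_pow _ _))
      ((((show Commute (r n₁ hn1) (r n₂ hn2) from hcomm).symm).pow_pow _ _).mul_right ((Commute.refl (r n₂ hn2)).pow_pow _ _))
  have hne : ∀ n hn, (n = n₁ ∨ n = n₂ ∨ n = n₁ * n₂) → r n hn ≠ 1 := by
    intro n hn e h1
    refine (hfix n e).2 ?_
    have hall' : ∀ x : V, x * V.cV = V.cV * x → n * x = x * n := fun x hx => by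
      by_cases hx1 : x = 1
      · rw [hx1, mul_one, one_mul]
      · exact (hr' n hn ⟨x, hx, hx1⟩).1 (by rw [h1, one_smul])
    exact Wself n hall'
  have hT4 : Nat.card T = 4 := by
    let f : Fin 2 × Fin 2 → T := fun p => ⟨r n₁ hn1 ^ p.1.1 * r n₂ hn2 ^ p.2.1,
      mul_mem (pow_mem (h1T _ hn1) _) (pow_mem (h1T _ hn2) _)⟩
    have hne1 := hne n₁ hn1 (Or.inl rfl)
    have hne2 := hne n₂ hn2 (Or.inr (Or.inl rfl))
    have hne3 : r n₁ hn1 * r n₂ hn2 ≠ 1 := by
      rw [← hrmul _ _ hn1 hn2]; exact hne _ (hmulNW _ _ hn1 hn2) (Or.inr (Or.inr rfl))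
    have hab' : r n₁ hn1 ≠ r n₂ hn2 := fun e => hne3 (by rw [e]; exact hsqr _ hn2 hsq2)
    have hf : Function.Injective f := by
      rintro ⟨i, j⟩ ⟨k, l⟩ e
      have e' := congrArg Subtype.val e
      simp only [f] at e'
      fin_cases i <;> fin_cases j <;> fin_cases k <;> fin_cases l <;>
        first
        | rfl
        | (exfalso; simp only [pow_zero, pow_one, one_mul, mul_one] at e'
           first
           | exact hne1 e' | exact hne1 e'.symm | exact hne2 e' | exact hne2 e'.symm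
           | exact hne3 e' | exact hne3 e'.symm | exact hab' e' | exact hab' e'.symm
           | exact hne2 (mul_eq_left.1 e') | exact hne2 (mul_eq_left.1 e'.symm)
           | exact hne1 (mul_eq_right.1 e') | exact hne1 (mul_eq_right.1 e'.symm))
    have hfs : Function.Surjective f := fun t => by
      obtain ⟨i, j, e⟩ := hT t.1 t.2
      exact ⟨(i, j), Subtype.ext e.symm⟩
    rw [← Nat.card_congr (Equiv.ofBijective f ⟨hf, hfs⟩)]
    simp
  haveI : MulAction.IsPretransitive R Om := ⟨fun x y => by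
    obtain ⟨a, ha⟩ := htrans x
    obtain ⟨b, hb⟩ := htrans y
    refine ⟨⟨ρ (b⁻¹ * a), ⟨_, rfl⟩⟩, ?_⟩
    show (b⁻¹ * a) • x = y
    rw [mul_smul, ha, ← hb, inv_smul_smul]⟩
  have hR : Nat.card R = 60 := by
    rw [← T.card_mul_index, hT4, MulAction.index_stabilizer_of_transitive, hOm]
  have hfixz : ∀ x : Om, (∀ t ∈ T, t • x = x) → x = zo := fun x hx => Subtype.ext
    (hcommon x.1 x.2.1 x.2.2 ((hr' _ hn1 x).1 (hx _ (h1T _ hn1))) ((hr' _ hn2 x).1 (hx _ (h1T _ hn2))))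
  haveI : Fact (Nat.Prime 2) := ⟨Nat.prime_two⟩
  have hT2 : Nat.card T = 2 ^ (Nat.card R).factorization 2 := by
    rw [hT4, hR, show (60 : ℕ) = 2 ^ 2 * 15 by norm_num, Nat.factorization_mul (by norm_num) (by norm_num),
      Finsupp.add_apply, Nat.Prime.factorization_pow Nat.prime_two, Finsupp.single_eq_same,
      Nat.factorization_eq_zero_of_not_dvd (by norm_num)]
    norm_num
  let P : Sylow 2 R := Sylow.ofCard T hT2
  have hPT : (P : Subgroup R) = T := Sylow.coe_ofCard T hT2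
  have hnormT : Subgroup.normalizer ((P : Subgroup R) : Set R) ≤ Subgroup.centralizer ((P : Subgroup R) : Set R) := by
    rw [hPT]
    intro s hs
    have hsT : s ∈ T := by
      refine hfixz _ fun t ht => ?_
      have hm : s⁻¹ * t * s ∈ T := by
        refine (Subgroup.mem_normalizer_iff.1 hs _).2 ?_
        rwa [show s * (s⁻¹ * t * s) * s⁻¹ = t by group]
      calc t • s • zo = s • (s⁻¹ * t * s) • zo := by rw [← mul_smul, ← mul_smul]; congr 1; group
        _ = s • zo := by rw [show (s⁻¹ * t * s) • zo = zo from hm]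
    exact Subgroup.mem_centralizer_iff.2 fun t ht => hTcomm t ht s hsT
  have hK := MonoidHom.ker_transferSylow_isComplement' P hnormT
  set K := (MonoidHom.transferSylow P hnormT).ker
  have hK15 : Nat.card K = 15 := by
    have := hK.card_mul
    rw [hPT, hT4, hR] at this
    omega
  haveI : Fact (Nat.Prime 5) := ⟨by norm_num⟩
  obtain ⟨q, hq⟩ := exists_prime_orderOf_dvd_card' (G := K) 5 (by rw [hK15]; norm_num)
  have hq' : orderOf (q : R) = 5 := by rw [Subgroup.orderOf_coe]; exact hq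
  -- the conjugates of `q` in `K` are powers of `q`
  have hpow : ∀ p ∈ K, p ^ 5 = 1 → p ∈ Subgroup.zpowers (q : R) := by
    intro p hp p5
    by_contra hn
    have hop : orderOf p = 5 := orderOf_eq_prime p5 (fun e => hn (e ▸ one_mem _))
    have hinj : Function.Injective (fun ij : Fin 5 × Fin 5 =>
        (⟨(q : R) ^ ij.1.1 * p ^ ij.2.1, mul_mem (pow_mem q.2 _) (pow_mem hp _)⟩ : K)) := by
      rintro ⟨i, j⟩ ⟨k, l⟩ e
      have e' : (q : R) ^ i.1 * p ^ j.1 = (q : R) ^ k.1 * p ^ l.1 := congrArg Subtype.val e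
      have hm : p ^ ((j.1 : ℤ) - l.1) ∈ Subgroup.zpowers (q : R) := by
        refine ⟨(k.1 : ℤ) - i.1, ?_⟩
        show (q : R) ^ ((k.1 : ℤ) - i.1) = p ^ ((j.1 : ℤ) - l.1)
        rw [zpow_sub, zpow_sub, zpow_natCast, zpow_natCast, zpow_natCast, zpow_natCast]
        calc (q : R) ^ k.1 * ((q : R) ^ i.1)⁻¹ = ((q : R) ^ i.1)⁻¹ * ((q : R) ^ k.1 * p ^ l.1) * (p ^ l.1)⁻¹ := by
              group
          _ = p ^ j.1 * (p ^ l.1)⁻¹ := by rw [← e']; group
      have hjl : j = l := by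
        by_contra hne
        have hcop : IsCoprime ((j.1 : ℤ) - l.1) 5 := by
          rw [Int.isCoprime_iff_gcd_eq_one]
          have hj := j.2; have hl := l.2
          have hjl' : j.1 ≠ l.1 := fun e => hne (Fin.ext e)
          obtain ⟨d, hd⟩ : ∃ d : ℤ, d = (j.1 : ℤ) - l.1 := ⟨_, rfl⟩
          rw [← hd]
          have : d = -4 ∨ d = -3 ∨ d = -2 ∨ d = -1 ∨ d = 1 ∨ d = 2 ∨ d = 3 ∨ d = 4 := by omega
          rcases this with rfl | rfl | rfl | rfl | rfl | rfl | rfl | rfl <;> decide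
        obtain ⟨a, c, hac⟩ := hcop
        refine hn ?_
        have e1 : p = (p ^ ((j.1 : ℤ) - l.1)) ^ a := by
          conv_lhs => rw [← zpow_one p, ← hac, zpow_add, mul_comm c, zpow_mul p 5]
          rw [show p ^ (5 : ℤ) = 1 by exact_mod_cast p5, one_zpow, mul_one, mul_comm a, zpow_mul]
        rw [e1]
        exact zpow_mem hm a
      subst hjl
      have e2 := mul_right_cancel e'
      have := pow_injOn_Iio_orderOf (x := (q : R)) (by rw [hq']; exact i.2) (by rw [hq']; exact k.2) e2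
      exact Prod.ext (Fin.ext this) rfl
    have := Nat.card_le_card_of_injective _ hinj
    rw [hK15] at this
    simp at this
  -- some element of `T` centralizes `q`
  have hconj : ∀ t ∈ T, t * t = 1 → t * (q : R) * t⁻¹ = q ∨ t * (q : R) * t⁻¹ = (q : R)⁻¹ := by
    intro t _ t2
    have hm : t * (q : R) * t⁻¹ ∈ K := (inferInstance : K.Normal).conj_mem _ q.2 t
    obtain ⟨i, hi⟩ := hpow _ hm (by rw [conj_pow, show (q : R) ^ 5 = 1 from hq' ▸ pow_orderOf_eq_one _]; group)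
    have hi' : (q : R) ^ i = t * (q : R) * t⁻¹ := hi
    have hii : (q : R) ^ (i * i) = q := by
      rw [zpow_mul, hi', conj_zpow, hi', show t * (t * (q : R) * t⁻¹) * t⁻¹ = (t * t) * q * (t * t)⁻¹ by group,
        t2]
      group
    have hdvd : (5 : ℤ) ∣ (i * i - 1) := by
      have : (q : R) ^ (i * i - 1) = 1 := by rw [zpow_sub, hii, zpow_one, mul_inv_cancel]
      have := orderOf_dvd_iff_zpow_eq_one.2 this
      rwa [hq'] at this
    have h5 : (5 : ℤ) ∣ (i - 1) ∨ (5 : ℤ) ∣ (i + 1) :=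
      (Nat.prime_iff_prime_int.1 (show Nat.Prime 5 by norm_num)).dvd_or_dvd
        (by rwa [show i * i - 1 = (i - 1) * (i + 1) by ring] at hdvd)
    rw [← hi']
    rcases h5 with h5 | h5
    · left
      have := orderOf_dvd_iff_zpow_eq_one.1 (show (orderOf (q : R) : ℤ) ∣ i - 1 by rwa [hq'])
      rwa [zpow_sub, zpow_one, mul_inv_eq_one] at this
    · right
      have := orderOf_dvd_iff_zpow_eq_one.1 (show (orderOf (q : R) : ℤ) ∣ i + 1 by rwa [hq'])
      rwa [zpow_add, zpow_one, mul_eq_one_iff_eq_inv] at this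
  obtain ⟨n, hn, hn', hcq⟩ : ∃ n hn, (n = n₁ ∨ n = n₂ ∨ n = n₁ * n₂) ∧
      r n hn * (q : R) * (r n hn)⁻¹ = q := by
    rcases hconj _ (h1T _ hn1) (hsqr _ hn1 hsq1) with e1 | e1
    · exact ⟨n₁, hn1, Or.inl rfl, e1⟩
    rcases hconj _ (h1T _ hn2) (hsqr _ hn2 hsq2) with e2 | e2
    · exact ⟨n₂, hn2, Or.inr (Or.inl rfl), e2⟩
    refine ⟨n₁ * n₂, hmulNW _ _ hn1 hn2, Or.inr (Or.inr rfl), ?_⟩
    rw [hrmul _ _ hn1 hn2, show r n₁ hn1 * r n₂ hn2 * (q : R) * (r n₁ hn1 * r n₂ hn2)⁻¹ =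
      r n₁ hn1 * (r n₂ hn2 * (q : R) * (r n₂ hn2)⁻¹) * (r n₁ hn1)⁻¹ by group, e2,
      show r n₁ hn1 * (q : R)⁻¹ * (r n₁ hn1)⁻¹ = (r n₁ hn1 * (q : R) * (r n₁ hn1)⁻¹)⁻¹ by group, e1, inv_inv]
  let Fx := {x : Om // n * x.1 = x.1 * n}
  have hFx : Nat.card Fx = 3 := by
    rw [← (hfix n hn').1, ← Fintype.card_subtype, ← Nat.card_eq_fintype_card]
    exact Nat.card_congr
      ((Equiv.subtypeSubtypeEquivSubtypeInter (fun x : V => x * V.cV = V.cV * x ∧ x ≠ 1)
        (fun x => n * x = x * n)).trans (Equiv.subtypeEquivRight fun x => and_assoc))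
  have hpres : ∀ x : Om, n * x.1 = x.1 * n ↔ n * ((q : R) • x).1 = ((q : R) • x).1 * n := by
    intro x
    have hc' := mul_inv_eq_iff_eq_mul.1 hcq
    rw [← hr' n hn, ← hr' n hn, ← mul_smul, hc', mul_smul]
    exact ⟨fun e => by rw [e], fun e => MulAction.injective (q : R) e⟩
  let π : Equiv.Perm Fx := (MulAction.toPerm (q : R) : Equiv.Perm Om).subtypePerm (fun x => (hpres x).symm)
  have hπ5 : π ^ 5 = 1 := by
    refine Equiv.ext fun x => Subtype.ext ?_
    show (q : R) • (q : R) • (q : R) • (q : R) • (q : R) • x.1 = x.1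
    rw [← mul_smul, ← mul_smul, ← mul_smul, ← mul_smul,
      show (q : R) * (q : R) * (q : R) * (q : R) * (q : R) = (q : R) ^ 5 by simp only [pow_succ, pow_zero, one_mul],
      show (q : R) ^ 5 = 1 from hq' ▸ pow_orderOf_eq_one _, one_smul]
  have hπ1 : π = 1 := by
    rw [← orderOf_eq_one_iff]
    refine Nat.eq_one_of_dvd_coprimes (by decide : Nat.Coprime 5 6) (orderOf_dvd_of_pow_eq_one hπ5) ?_
    have := orderOf_dvd_natCard π
    rwa [Nat.card_perm, hFx] at this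
  have hqz : (q : R) • zo = zo :=
    congrArg Subtype.val (DFunLike.congr_fun hπ1 (⟨zo, V.zV_central n⟩ : Fx))
  have := Subgroup.orderOf_dvd_natCard T (show (q : R) ∈ T from hqz)
  rw [hq', hT4] at this
  norm_num at this

omit h

/-- Either the group of order `1344` occurs or the centralizer extends to the affine group with the
translations fused to the involutions without fixed points only. -/
theorem exists_good (h : VEmb z) {v : V} (hv2 : 2 ≤ V.ty v) (hv4 : V.ty v ≤ 4) (hv : IsConj z (h.ι v)) :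
    (∃ (N : Subgroup G) (hN : N.Normal), IsMulCommutative N ∧ (∀ n ∈ N, n ^ 2 = 1) ∧ Nat.card N = 8 ∧
        Nonempty (G ⧸ N ≃* Matrix.ProjectiveSpecialLinearGroup (Fin 3) (ZMod 2))) ∨
    ∃ A : AEmb z, ∀ x, V.ty x ≠ 0 → (IsConj z (A.toV.ι x) ↔ V.ty x ≠ 3 ∧ V.ty x ≠ 5) := by
  obtain ⟨g, hg⟩ := isConj_iff.1 hv.symm
  obtain ⟨y, hy2, hy4, -, f, hf⟩ := h.exists_cycle hv2 hv4 hg
  obtain ⟨θ, hb, hz, -, f', hf'⟩ := h.exists_norm hy2 hy4 hf
  obtain ⟨A, -⟩ := (h.comp θ hb hz).exists_split hf'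
  have key : ∀ B : AEmb z, IsConj z (B.toV.ι V.aV) ∧ IsConj (B.toV.ι V.bV) (B.toV.ι V.cV) ∧
      IsConj (B.toV.ι (V.mk' 47)) (B.toV.ι (V.mk' 26)) := by
    intro B
    have hh : ∀ x y : V, (∃ t, GoodT t ∧ ∀ p, affFun t (V.act x p) = V.act y (affFun t p)) →
        IsConj (B.toV.ι x) (B.toV.ι y) := by
      rintro x y ⟨t, ht, hp⟩
      obtain ⟨π, hπ⟩ := exists_aff ht
      refine isConj_iff.2 ⟨B.ι π, ?_⟩
      show B.ι π * B.ι (pA x) * (B.ι π)⁻¹ = B.ι (pA y)
      rw [← map_mul, ← map_inv, ← map_mul]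
      congr 1
      rw [mul_inv_eq_iff_eq_mul]
      refine Subtype.ext (Equiv.ext fun p => ?_)
      show (π : Equiv.Perm (Fin 8)) (V.act x p) = V.act y ((π : Equiv.Perm (Fin 8)) p)
      rw [hπ, hπ, hp]
    refine ⟨?_, hh _ _ V_fusion.1, hh _ _ V_fusion.2.1⟩
    have := hh _ _ V_fusion.2.2
    rwa [show B.toV.ι V.zV = z from B.toV.ι_z] at this
  obtain ⟨hza, hbc, h46⟩ := key A
  set h' := A.toV
  have hX1 : ∀ x, V.ty x = 3 ∨ V.ty x = 5 → IsConj (h'.ι V.bV) (h'.ι x) := by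
    rintro x (e | e)
    · exact h'.conj_ty (V.ty_rep.2.2.1.trans e.symm) (by rw [V.ty_rep.2.2.1]; norm_num)
    · exact hbc.trans (h'.conj_ty (V.ty_rep.2.2.2.2.1.trans e.symm) (by rw [V.ty_rep.2.2.2.2.1]; norm_num))
  have hX2 : ∀ x, V.ty x = 4 ∨ V.ty x = 6 → IsConj (h'.ι (V.mk' 47)) (h'.ι x) := by
    rintro x (e | e)
    · exact h'.conj_ty (V.ty_rep.2.2.2.1.trans e.symm) (by rw [V.ty_rep.2.2.2.1]; norm_num)
    · exact h46.trans (h'.conj_ty (V.ty_rep.2.2.2.2.2.1.trans e.symm) (by rw [V.ty_rep.2.2.2.2.2.1]; norm_num))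
  by_cases hb' : IsConj z (h'.ι V.bV)
  · by_cases hw : IsConj z (h'.ι (V.mk' 47))
    · exfalso
      refine not_all h' fun x hx => ?_
      have h6 := (V.ty_spec x).2.1
      have : V.ty x = 1 ∨ V.ty x = 2 ∨ (V.ty x = 3 ∨ V.ty x = 5) ∨ (V.ty x = 4 ∨ V.ty x = 6) := by omega
      rcases this with e | e | e | e
      · rw [(V.ty_spec x).2.2 e, h'.ι_z]
      · exact hza.trans (h'.conj_ty (V.ty_rep.2.1.trans e.symm) (by rw [V.ty_rep.2.1]; norm_num))
      · exact hb'.trans (hX1 x e)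
      · exact hw.trans (hX2 x e)
    · right
      obtain ⟨hza', hbc', h46'⟩ := key A.twist
      obtain ⟨v1, hv1, hv1e⟩ := alpha_V.2.1
      obtain ⟨v2, hv2', hv2e⟩ := alpha_V.2.2
      have e1 : A.twist.toV.ι V.bV = h'.ι v1 := by
        show A.ι (alpha (pA V.bV)) = A.ι (pA v1)
        congr 1
        exact Subtype.ext (Equiv.ext fun p => (alpha_apply _ p).trans (hv1e p))
      have e2 : A.twist.toV.ι (V.mk' 47) = h'.ι v2 := by
        show A.ι (alpha (pA (V.mk' 47))) = A.ι (pA v2)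
        congr 1
        exact Subtype.ext (Equiv.ext fun p => (alpha_apply _ p).trans (hv2e p))
      refine ⟨A.twist, fun x hx => ?_⟩
      have hnb : ¬ IsConj z (A.twist.toV.ι V.bV) := fun hc => hw ((e1 ▸ hc).trans (hX2 v1 hv1).symm)
      have hyw : IsConj z (A.twist.toV.ι (V.mk' 47)) := e2 ▸ hb'.trans (hX1 v2 hv2')
      set h'' := A.twist.toV
      have h6 := (V.ty_spec x).2.1
      have : V.ty x = 1 ∨ V.ty x = 2 ∨ V.ty x = 3 ∨ V.ty x = 5 ∨ V.ty x = 4 ∨ V.ty x = 6 := by omega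
      rcases this with e | e | e | e | e | e
      · rw [(V.ty_spec x).2.2 e, h''.ι_z, V.ty_rep.1]
        exact iff_of_true (IsConj.refl z) (by norm_num)
      · exact iff_of_true (hza'.trans (h''.conj_ty (V.ty_rep.2.1.trans e.symm) (by rw [V.ty_rep.2.1]; norm_num)))
          (by omega)
      · exact iff_of_false (fun hc => hnb (hc.trans (h''.conj_ty (V.ty_rep.2.2.1.trans e.symm)
          (by rw [V.ty_rep.2.2.1]; norm_num)).symm)) (by omega)
      · exact iff_of_false (fun hc => hnb (hc.trans (hbc'.trans (h''.conj_ty (V.ty_rep.2.2.2.2.1.trans e.symm)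
          (by rw [V.ty_rep.2.2.2.2.1]; norm_num))).symm)) (by omega)
      · exact iff_of_true (hyw.trans (h''.conj_ty (V.ty_rep.2.2.2.1.trans e.symm)
          (by rw [V.ty_rep.2.2.2.1]; norm_num))) (by omega)
      · exact iff_of_true (hyw.trans (h46'.trans (h''.conj_ty (V.ty_rep.2.2.2.2.2.1.trans e.symm)
          (by rw [V.ty_rep.2.2.2.2.2.1]; norm_num)))) (by omega)
  · by_cases hw : IsConj z (h'.ι (V.mk' 47))
    · right
      refine ⟨A, fun x hx => ?_⟩
      have h6 := (V.ty_spec x).2.1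
      have : V.ty x = 1 ∨ V.ty x = 2 ∨ (V.ty x = 3 ∨ V.ty x = 5) ∨ (V.ty x = 4 ∨ V.ty x = 6) := by omega
      rcases this with e | e | e | e
      · rw [(V.ty_spec x).2.2 e, h'.ι_z, V.ty_rep.1]
        exact iff_of_true (IsConj.refl z) (by norm_num)
      · exact iff_of_true (hza.trans (h'.conj_ty (V.ty_rep.2.1.trans e.symm) (by rw [V.ty_rep.2.1]; norm_num)))
          (by omega)
      · exact iff_of_false (fun hc => hb' (hc.trans (hX1 x e).symm)) (by omega)
      · exact iff_of_true (hw.trans (hX2 x e)) (by omega)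
    · left
      refine (norm8V h' hza fun y hy hc => ?_).main
      have h6 := (V.ty_spec y).2.1
      have : (V.ty y = 3 ∨ V.ty y = 5) ∨ (V.ty y = 4 ∨ V.ty y = 6) := by omega
      rcases this with e | e
      · exact hb' (hc.trans (hX1 y e).symm)
      · exact hw (hc.trans (hX2 y e).symm)

end Cfsg.Agent.Cent32
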