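import Cfsg.Agent.Cent32.Emb
import Cfsg.Agent.Cent32.AGL
import Cfsg.Agent.Invol.Pair

/-!
Basic facts about an embedding of the centralizer and cycles on its four-groups.
-/

set_option autoImplicit false
set_option maxRecDepth 8000

namespace Cfsg.Agent.Cent32

universe u

variable {G : Type u} [Group G] {z : G}

theorem ty_class : ∀ x y : V, V.ty x = V.ty y → V.ty x ≠ 0 → ∃ c : V, c * x * c⁻¹ = y := by
  decide +kernel

theorem ty_cent32 : ∀ x : V, V.ty x ≠ 0 → x ≠ V.zV →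
    (32 ≤ (Finset.univ.filter fun y : V => y * x = x * y).card ↔ V.ty x ≤ 4) := by
  decide +kernel

theorem ty_mul_z : ∀ x : V, 2 ≤ V.ty x → V.ty x ≤ 4 → V.ty (x * V.zV) = V.ty x := by decide +kernel

/-- An element of order three permuting cyclically the involutions of `⟨z, a⟩`. -/
def IsCyc (z a g : G) : Prop := g * z * g⁻¹ = a ∧ g * a * g⁻¹ = a * z

namespace VEmb

variable (h : VEmb z)
include h

theorem mem_range {g : G} (hg : g * z = z * g) : ∃ x, h.ι x = g := by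
  have : g ∈ h.ι.range := by rw [h.range]; exact Subgroup.mem_centralizer_singleton_iff.2 hg
  exact this

theorem comm_iff (x y : V) : h.ι x * h.ι y = h.ι y * h.ι x ↔ x * y = y * x := by
  rw [← map_mul, ← map_mul]
  exact h.inj.eq_iff

theorem comm (x : V) : h.ι x * z = z * h.ι x := by
  have e : h.ι x * h.ι V.zV = h.ι V.zV * h.ι x := (h.comm_iff x V.zV).2 (V.zV_central x)
  rwa [h.ι_z] at e

theorem sq_one {x : V} (hx : V.ty x ≠ 0) : h.ι x * h.ι x = 1 := by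
  rw [← map_mul, ((V.ty_spec x).1.1 hx).1, map_one]

theorem ord (x : V) (hx : V.ty x ≠ 0) : orderOf (h.ι x) = 2 :=
  Invol.orderOf_eq_two_iff.2
    ⟨fun e => ((V.ty_spec x).1.1 hx).2 (h.inj (e.trans (map_one h.ι).symm)), h.sq_one hx⟩

theorem hz : orderOf z = 2 := by
  rw [← h.ι_z]; exact h.ord _ (by rw [V.ty_rep.1]; norm_num)

theorem ty_ne_zero {x : V} (hx : orderOf (h.ι x) = 2) : V.ty x ≠ 0 := by
  obtain ⟨h1, h2⟩ := Invol.orderOf_eq_two_iff.1 hx
  exact (V.ty_spec x).1.2 ⟨h.inj (by rw [map_mul, h2, map_one]), fun e => h1 (by rw [e, map_one])⟩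

theorem lift {g : G} (hg : orderOf g = 2) (hgz : g * z = z * g) : ∃ x, V.ty x ≠ 0 ∧ h.ι x = g := by
  obtain ⟨x, rfl⟩ := h.mem_range hgz
  exact ⟨x, h.ty_ne_zero hg, rfl⟩

theorem conj_ty {x y : V} (e : V.ty x = V.ty y) (h0 : V.ty x ≠ 0) : IsConj (h.ι x) (h.ι y) := by
  obtain ⟨c, rfl⟩ := ty_class x y e h0
  exact isConj_iff.2 ⟨h.ι c, by rw [map_mul, map_mul, map_inv]⟩

theorem card_cent : Nat.card ↥(Subgroup.centralizer ({z} : Set G)) = 192 := by
  rw [← h.range, ← Nat.card_congr (MonoidHom.ofInjective h.inj).toEquiv, V.card]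

/-- An involution fused with `z` in the small classes gives a cycle on one of its four-groups. -/
theorem exists_cycle {v : V} (h2 : 2 ≤ V.ty v) (h4 : V.ty v ≤ 4) {g : G} (hg : g * h.ι v * g⁻¹ = z) :
    ∃ y : V, 2 ≤ V.ty y ∧ V.ty y ≤ 4 ∧ h.ι y = g * z * g⁻¹ ∧ ∃ f, IsCyc z (h.ι y) f := by
  have hvz : v ≠ V.zV := fun e => by rw [e, V.ty_rep.1] at h2; omega
  have hc : g * z * g⁻¹ * z = z * (g * z * g⁻¹) := by
    conv_lhs => arg 2; rw [← hg]
    conv_rhs => arg 1; rw [← hg]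
    rw [show g * z * g⁻¹ * (g * h.ι v * g⁻¹) = g * (z * h.ι v) * g⁻¹ by group,
      show g * h.ι v * g⁻¹ * (g * z * g⁻¹) = g * (h.ι v * z) * g⁻¹ by group, h.comm v]
  obtain ⟨y, hy, hye⟩ := h.lift (by rw [Invol.orderOf_conj, h.hz]) hc
  have hyz : y ≠ V.zV := fun e => hvz (h.inj (by
    rw [e, h.ι_z] at hye
    rw [h.ι_z]
    have := hg.trans hye
    exact mul_left_cancel (mul_right_cancel this)))
  have hy4 : V.ty y ≤ 4 := by
    refine (ty_cent32 y hy hyz).1 (le_trans ((ty_cent32 v (by omega) hvz).2 h4) ?_)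
    rw [← Fintype.card_subtype, ← Fintype.card_subtype]
    have key : ∀ w : {w : V // w * v = v * w}, ∃ w' : {w : V // w * y = y * w}, h.ι w'.1 = g * h.ι w.1 * g⁻¹ := by
      rintro ⟨w, hw⟩
      have e1 := (h.comm_iff _ _).2 hw
      have e2 : g * h.ι w * g⁻¹ * z = z * (g * h.ι w * g⁻¹) := by
        conv_lhs => arg 2; rw [← hg]
        conv_rhs => arg 1; rw [← hg]
        rw [show g * h.ι w * g⁻¹ * (g * h.ι v * g⁻¹) = g * (h.ι w * h.ι v) * g⁻¹ by group, e1]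
        group
      obtain ⟨w', hw'⟩ := h.mem_range e2
      refine ⟨⟨w', (h.comm_iff _ _).1 ?_⟩, hw'⟩
      rw [hw', hye, show g * h.ι w * g⁻¹ * (g * z * g⁻¹) = g * (h.ι w * z) * g⁻¹ by group, h.comm w]
      group
    choose φ hφ using key
    refine Fintype.card_le_of_injective φ fun a b e => Subtype.ext (h.inj ?_)
    exact mul_left_cancel (mul_right_cancel ((hφ a).symm.trans ((by rw [e] : h.ι (φ a).1 = h.ι (φ b).1).trans (hφ b))))
  have hy2 : 2 ≤ V.ty y := by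
    by_contra hlt
    exact hyz ((V.ty_spec y).2.2 (by omega))
  refine ⟨y, hy2, hy4, hye, ?_⟩
  have hz2 := Invol.mul_self_eq_one h.hz
  obtain ⟨c, hc'⟩ := ty_class v (v * V.zV) (ty_mul_z v h2 h4).symm (by omega)
  obtain ⟨c', hc''⟩ := ty_class y (y * V.zV) (ty_mul_z y hy2 hy4).symm hy
  set a := h.ι y
  set k := g * h.ι c * g⁻¹
  have hcz : h.ι c * z * (h.ι c)⁻¹ = z := by rw [h.comm c, mul_inv_cancel_right]
  have hcz' : h.ι c' * z * (h.ι c')⁻¹ = z := by rw [h.comm c', mul_inv_cancel_right]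
  have hcv : h.ι c * h.ι v * (h.ι c)⁻¹ = h.ι v * z := by
    have e := congrArg h.ι hc'
    rwa [map_mul, map_mul, map_inv, map_mul, h.ι_z] at e
  have hca : h.ι c' * a * (h.ι c')⁻¹ = a * z := by
    have e := congrArg h.ι hc''
    rwa [map_mul, map_mul, map_inv, map_mul, h.ι_z] at e
  have k1 : k * z * k⁻¹ = z * a := by
    calc k * z * k⁻¹ = g * (h.ι c * (g⁻¹ * z * g) * (h.ι c)⁻¹) * g⁻¹ := by simp only [k]; group
      _ = g * (h.ι c * h.ι v * (h.ι c)⁻¹) * g⁻¹ := by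
        rw [show g⁻¹ * z * g = h.ι v from (congrArg (fun w => g⁻¹ * w * g) hg.symm).trans (by group)]
      _ = (g * h.ι v * g⁻¹) * (g * z * g⁻¹) := by rw [hcv]; group
      _ = z * a := by rw [hg, hye]
  have k2 : k * a * k⁻¹ = a := by
    calc k * a * k⁻¹ = g * (h.ι c * (g⁻¹ * a * g) * (h.ι c)⁻¹) * g⁻¹ := by simp only [k]; group
      _ = g * z * g⁻¹ := by rw [show g⁻¹ * a * g = z by rw [hye]; group, hcz]
      _ = a := hye.symm
  refine ⟨h.ι c' * k, ?_, ?_⟩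
  · rw [show h.ι c' * k * z * (h.ι c' * k)⁻¹ = h.ι c' * (k * z * k⁻¹) * (h.ι c')⁻¹ by group, k1,
      show h.ι c' * (z * a) * (h.ι c')⁻¹ =
        (h.ι c' * z * (h.ι c')⁻¹) * (h.ι c' * a * (h.ι c')⁻¹) by group, hcz', hca, ← mul_assoc,
      show z * a = a * z from (h.comm y).symm, mul_assoc, hz2, mul_one]
  · rw [show h.ι c' * k * a * (h.ι c' * k)⁻¹ = h.ι c' * (k * a * k⁻¹) * (h.ι c')⁻¹ by group, k2, hca]

/-- Change of labelling. -/
def comp (θ : V →* V) (hb : Function.Bijective θ) (hz : θ V.zV = V.zV) : VEmb z where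
  ι := h.ι.comp θ
  inj := h.inj.comp hb.1
  range := by
    rw [MonoidHom.range_comp, MonoidHom.range_eq_top.2 hb.2, ← MonoidHom.range_eq_map, h.range]
  ι_z := by rw [MonoidHom.comp_apply, hz, h.ι_z]

end VEmb

theorem psi_aV : V.ty (psi 0 (SemidirectProduct.inl (QuaternionGroup.a 1, QuaternionGroup.a 1))) = 2 :=
  (psi_spec 0).2.2.2

/-- Relabel so that the translations are the class with a cycle. -/
theorem VEmb.exists_norm [Finite G] (h : VEmb z) {y : V} (h2 : 2 ≤ V.ty y) (h4 : V.ty y ≤ 4) {f : G}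
    (hf : IsCyc z (h.ι y) f) :
    ∃ θ : V →* V, ∃ hb : Function.Bijective θ, ∃ hz : θ V.zV = V.zV,
      (∀ x, V.ty x = 2 → V.ty (θ x) = V.ty y) ∧ ∃ f', IsCyc z ((h.comp θ hb hz).ι V.aV) f' := by
  obtain ⟨θ, hb, hz, hty⟩ := exists_theta ⟨V.ty y - 2, by omega⟩
  have hty' : V.ty (θ (psi 0 (SemidirectProduct.inl (QuaternionGroup.a 1, QuaternionGroup.a 1)))) =
      V.ty y := by
    rw [hty]; simp only; omega
  set p := psi 0 (SemidirectProduct.inl (QuaternionGroup.a 1, QuaternionGroup.a 1))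
  have hmap : ∀ x, V.ty x = 2 → V.ty (θ x) = V.ty y := fun x hx => by
    have hci : ∀ c u : V, V.ty (c * u * c⁻¹) = V.ty u := by decide +kernel
    obtain ⟨c, hc⟩ := ty_class p x (psi_aV.trans hx.symm) (by rw [psi_aV]; norm_num)
    rw [← hc, map_mul, map_mul, map_inv, hci, hty']
  refine ⟨θ, hb, hz, hmap, ?_⟩
  obtain ⟨c, hc⟩ := ty_class (θ V.aV) y (hmap _ V.ty_rep.2.1) (by rw [hmap _ V.ty_rep.2.1]; omega)
  refine ⟨(h.ι c)⁻¹ * f * h.ι c, ?_, ?_⟩ <;>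
    have hcz : h.ι c * z * (h.ι c)⁻¹ = z := by rw [h.comm c, mul_inv_cancel_right]
  · have hy : (h.ι c)⁻¹ * h.ι y * h.ι c = (h.comp θ hb hz).ι V.aV := by
      rw [← hc, map_mul, map_mul, map_inv]
      show _ = h.ι (θ V.aV)
      group
    rw [← hy, ← hf.1, show (h.ι c)⁻¹ * f * h.ι c * z * ((h.ι c)⁻¹ * f * h.ι c)⁻¹ =
      (h.ι c)⁻¹ * (f * (h.ι c * z * (h.ι c)⁻¹) * f⁻¹) * h.ι c by group, hcz]
  · have hy : (h.ι c)⁻¹ * h.ι y * h.ι c = (h.comp θ hb hz).ι V.aV := by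
      rw [← hc, map_mul, map_mul, map_inv]
      show _ = h.ι (θ V.aV)
      group
    have hcz2 : (h.ι c)⁻¹ * z * h.ι c = z := by rw [mul_assoc, ← h.comm c, inv_mul_cancel_left]
    rw [← hy, show (h.ι c)⁻¹ * f * h.ι c * ((h.ι c)⁻¹ * h.ι y * h.ι c) * ((h.ι c)⁻¹ * f * h.ι c)⁻¹ =
      (h.ι c)⁻¹ * (f * h.ι y * f⁻¹) * h.ι c by group, hf.2,
      show (h.ι c)⁻¹ * (h.ι y * z) * h.ι c = ((h.ι c)⁻¹ * h.ι y * h.ι c) * ((h.ι c)⁻¹ * z * h.ι c) by group,
      hcz2]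

end Cfsg.Agent.Cent32
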