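import Mathlib

/-!
Generated tables for the centralizer of a fixed-point-free involution in the alternating group of
degree eight (order 192).
-/

set_option autoImplicit false
set_option linter.all false

namespace Cfsg.Agent.Cent32

/-- Products of the permutations of four letters. -/
def vsTab : ℕ := 0x443214c74254b635cf84653a56d731d0952c0110c8573d8d8c29594ef610c012918d73e1131d0952e72b5e95635cf84443004a4424c75aad79cab4424c75a9cf6363000443216b4bda5373d8d8c10931d6a10c01292f6ad2720808510ce652d0994e95b5d8d73e113994b4242021443a5653bd9cf636302142018a53a56d73994b425ac845cf94e95b5c850806252ce64a2116b1ee52ce64a29594ef60808510dee8c18da5653bd94b399282142018a307b9ac188a4005ac845cf9cad7a54c74254b6b21173c6229001b5e72ad10931d6a2906208272b5e956b21173ce652d099cad7a54a418820845ac7b94b39928845ac7bad79cab4188a4005285a8c7b5e72ad2116b1ee290620816a4a0e64a16a31dee8c18dad2f694c0110c857ba30635285a8c7bdab49c843004a45a92839ab4bda537ba306342021443ad2f694d6a4a0e68c1ee6b085080628c1ee6b2f6ad2724a16a31c6229001bdab49ca307b9ac5a928398a418820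

/-- The action on the sign vectors. -/
def vaTab : ℕ := 0xf93948f4b990fa54c8ecd5a0f662d0ed6360eb3868e6b8b0ea1ce8ee9ca0e62af0ef2a60f35458e5d530f11d58f59d10e54770f74650f2e298e9e328f0ab98f9ab08e8c7a8fac688

/-- Inverses. -/
def vivTab : ℕ := 0xbfb9bdb7b3b1beb8bcb6b2b0bbb5bab4afaeadabacaaa9a8a741a53f6b698e285c5622808b255a541f7e65633492319047a1756f9b392e882c865250736d429c37967d1b4c4a19785f598d2783215e588c268220a33da23c67669533943261607771459f3b997670449e3a982b852a844f4e1d7b1c7a49488f295d572381a640a43e6a685b558a247f1e3593646291302f892d87535146a0746e9a38439d726c97364d4b7c1a79181711150f0b091610140e0a08130d120c0706050304020100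

/-- The classes of involutions. -/
def vtyTab : ℕ := 0x4300021800005b01b183000000000000014300000414000003000300000000000098002b000000000000940033000004180000028003828000000000000183428002140000568168

/-- The permutations of eight points. -/
def vpTab : ℕ := 0x539774c19770654f79414f74e5077953077053de54c1de50774e5dc14e54f7065dd3065065dd3941dd3077953dc1953977053de50534e5dc1953dc14f7941dd39419774c1de54c121397e4c897e2254fe9484fe4e523e95323e213fa54c8fa523e4e5f884e54fe225f93225225f93948f9323e953f8895397e213fa52134e5f88953f884fe948f9394897e4c8fa54c805a97e68197e0656be9416be6a507e95a07e05afa5681fa507e6a5f816a56be065f9a065065f9a941f9a07e95af8195a97e05afa505a6a5f8195af816be941f9a94197e681fa568121a9776889772256b79486b76a523795a23721ade5688de52376a5dc86a56b7225dda225225dda948dda23795adc895a97721ade521a6a5dc895adc86b7948dda948977688de5688053b3e4c1b3e06c4feb014fe4ec07eb1307e053fac4c1fac07e4ecf814ec4fe06cf9306c06cf93b01f9307eb13f81b13b3e053fac0534ecf81b13f814feb01f93b01b3e4c1fac4c1213b374c8b3722c4f7b084f74ec237b13237213dec4c8dec2374ecdc84ec4f722cdd322c22cdd3b08dd3237b13dc8b13b37213dec2134ecdc8b13dc84f7b08dd3b08b374c8dec4c805ab37681b3706c6b7b016b76ac077b1a07705adec681dec0776acdc16ac6b706cdda06c06cddab01dda077b1adc1b1ab3705adec05a6acdc1b1adc16b7b01ddab01b37681dec68121ab3e688b3e22c6beb086be6ac23eb1a23e21afac688fac23e6acf886ac6be22cf9a22c22cf9ab08f9a23eb1af88b1ab3e21afac21a6acf88b1af886beb08f9ab08b3e688fac688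

end Cfsg.Agent.Cent32
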