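import Cfsg.Agent.Cent32.Agree
import Cfsg.Agent.Cent32.HomTab
import Mathlib.GroupTheory.SpecificGroups.Alternating.Simple

/-!
The alternating group of degree eight inside `G`.
-/

set_option autoImplicit false
set_option maxRecDepth 8000

namespace Cfsg.Agent.Cent32

open Equiv

universe u

variable {G : Type u} [Group G] [Finite G] {z : G}

namespace Seeded

variable (S : Seeded z)

/-- Pairs of an element and a permutation compatible on the triples. -/
def Gam : Subgroup (G × Equiv.Perm (Fin 8)) where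
  carrier := {p | ∀ a b c, Dist a b c → p.1 * S.T0 a b c * p.1⁻¹ = S.T0 (p.2 a) (p.2 b) (p.2 c)}
  one_mem' := fun a b c _ => by simp
  mul_mem' := fun {p q} hp hq a b c h => by
    show p.1 * q.1 * S.T0 a b c * (p.1 * q.1)⁻¹ = S.T0 (p.2 (q.2 a)) (p.2 (q.2 b)) (p.2 (q.2 c))
    rw [show p.1 * q.1 * S.T0 a b c * (p.1 * q.1)⁻¹ = p.1 * (q.1 * S.T0 a b c * q.1⁻¹) * p.1⁻¹ by group,
      hq a b c h, hp _ _ _ (dist_image q.2 h)]
  inv_mem' := fun {p} hp a b c h => by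
    show p.1⁻¹ * S.T0 a b c * p.1⁻¹⁻¹ = S.T0 (p.2⁻¹ a) (p.2⁻¹ b) (p.2⁻¹ c)
    have := hp _ _ _ (dist_image p.2⁻¹ h)
    simp only [Equiv.Perm.inv_def, Equiv.apply_symm_apply] at this
    rw [← this]; simp only [Equiv.Perm.inv_def]; group

theorem mem_Gam {g : G} {π : Equiv.Perm (Fin 8)} : (g, π) ∈ S.Gam ↔
    ∀ a b c, Dist a b c → g * S.T0 a b c * g⁻¹ = S.T0 (π a) (π b) (π c) := Iff.rfl

theorem gamA (π : agl) : ((S.A.ι π, (π : Equiv.Perm (Fin 8))) : G × Equiv.Perm (Fin 8)) ∈ S.Gam :=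
  fun _ _ _ h => S.T0_map π h

theorem gamB (π : agl) : ((S.B.ι π, tau * (π : Equiv.Perm (Fin 8)) * tau) : G × Equiv.Perm (Fin 8)) ∈ S.Gam := by
  intro a b c h
  show S.B.ι π * S.T0 a b c * (S.B.ι π)⁻¹ = _
  rw [S.agree_T h, S.T2_map π h]
  refine (S.agree_T ?_).symm
  exact dist_image (tau * (π : Equiv.Perm (Fin 8)) * tau) h

theorem gam_x : ((S.x, cyc 0 1 2) : G × Equiv.Perm (Fin 8)) ∈ S.Gam := by
  have h1 := mul_mem (S.gamA hA) (inv_mem (S.gamB hA))
  have h2 := mul_mem h1 h1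
  have ex : S.A.ι hA * (S.B.ι hA)⁻¹ = S.x * S.x := by
    rw [S.relA, S.relB, mul_inv_rev, inv_inv]; group
  have hx4 : S.x * S.x * (S.x * S.x) = S.x := by
    calc S.x * S.x * (S.x * S.x) = S.x ^ 3 * S.x := by simp only [pow_succ, pow_zero, one_mul]; group
      _ = S.x := by rw [S.isX.cube, one_mul]
  have e : ((S.x, cyc 0 1 2) : G × Equiv.Perm (Fin 8)) =
      (S.A.ι hA, (hA : Equiv.Perm (Fin 8))) * (S.B.ι hA, tau * (hA : Equiv.Perm (Fin 8)) * tau)⁻¹ *
        ((S.A.ι hA, (hA : Equiv.Perm (Fin 8))) * (S.B.ι hA, tau * (hA : Equiv.Perm (Fin 8)) * tau)⁻¹) := by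
    refine Prod.ext ?_ ?_
    · show S.x = S.A.ι hA * (S.B.ι hA)⁻¹ * (S.A.ι hA * (S.B.ι hA)⁻¹)
      rw [ex, hx4]
    · show cyc 0 1 2 = hP * (tau * hP * tau)⁻¹ * (hP * (tau * hP * tau)⁻¹)
      rw [show (tau * hP * tau)⁻¹ = tau * hP⁻¹ * tau by
        rw [mul_inv_rev, mul_inv_rev, show tau⁻¹ = tau from rfl, mul_assoc]]
      exact (Equiv.ext cyc_gen).symm
  rw [e]
  exact h2

theorem gam_T {a b c : Fin 8} (h : Dist a b c) :
    ((S.T0 a b c, cyc a b c) : G × Equiv.Perm (Fin 8)) ∈ S.Gam := by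
  obtain ⟨π, rfl, rfl, rfl⟩ := exists_pi h
  have := mul_mem (mul_mem (S.gamA π) S.gam_x) (inv_mem (S.gamA π))
  rw [← cyc_conj, ← S.T0_map π (by decide : Dist 0 1 2), S.T0_base]
  exact this

/-- The group generated by the pairs of the triples. -/
def Gam0 : Subgroup (G × Equiv.Perm (Fin 8)) :=
  Subgroup.closure {p | ∃ a b c, Dist a b c ∧ p = (S.T0 a b c, cyc a b c)}

theorem Gam0_le : S.Gam0 ≤ S.Gam := (Subgroup.closure_le _).2 (by
  rintro _ ⟨a, b, c, h, rfl⟩; exact S.gam_T h)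

theorem Gam0_map : S.Gam0.map (MonoidHom.snd G (Equiv.Perm (Fin 8))) = alternatingGroup (Fin 8) := by
  rw [Gam0, MonoidHom.map_closure]
  refine le_antisymm ((Subgroup.closure_le _).2 ?_) ?_
  · rintro _ ⟨_, ⟨a, b, c, h, rfl⟩, rfl⟩; exact cyc_even h
  · rw [← Equiv.Perm.closure_three_cycles_eq_alternating, Subgroup.closure_le]
    intro σ hσ
    refine Subgroup.subset_closure ?_
    obtain ⟨a, ha⟩ : ∃ a, a ∈ σ.support := Finset.card_pos.1 (by
      rw [Equiv.Perm.IsThreeCycle.card_support hσ]; norm_num)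
    have hn := (Equiv.Perm.IsThreeCycle.nodup_iff_mem_support hσ).2 ha
    simp only [List.nodup_cons, List.mem_cons, List.not_mem_nil, or_false, not_or, List.nodup_nil,
      and_true, not_false_eq_true] at hn
    have hd : Dist a (σ a) (σ (σ a)) := ⟨hn.1.1, hn.2, hn.1.2⟩
    refine ⟨_, ⟨a, σ a, σ (σ a), hd, rfl⟩, ?_⟩
    show cyc a (σ a) (σ (σ a)) = σ
    obtain ⟨e1, e2, e3, e4⟩ := cyc_apply _ _ _ hd
    have hsupp := (Equiv.Perm.IsThreeCycle.support_eq_iff_mem_support hσ).2 ha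
    have h3 : σ (σ (σ a)) = a := by
      have : σ ^ 3 = 1 := by rw [← Equiv.Perm.IsThreeCycle.orderOf hσ, pow_orderOf_eq_one]
      exact DFunLike.congr_fun this a
    refine Equiv.ext fun y => ?_
    by_cases hy : y ∈ σ.support
    · rw [hsupp] at hy
      simp only [Finset.mem_insert, Finset.mem_singleton] at hy
      rcases hy with rfl | rfl | rfl
      · exact e1
      · exact e2
      · rw [e3, h3]
    · rw [e4 y (fun e => hy (e ▸ ha)) (fun e => hy (by rw [e]; exact Equiv.Perm.apply_mem_support.2 ha))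
        (fun e => hy (by rw [e]; exact Equiv.Perm.apply_mem_support.2 (Equiv.Perm.apply_mem_support.2 ha)))]
      exact (Equiv.Perm.notMem_support.1 hy).symm

theorem exists_lift {σ : Equiv.Perm (Fin 8)} (h : σ ∈ alternatingGroup (Fin 8)) : ∃ g, (g, σ) ∈ S.Gam0 := by
  rw [← S.Gam0_map] at h
  obtain ⟨⟨g, σ'⟩, hp, rfl⟩ := h
  exact ⟨g, hp⟩

theorem perm_eq_one {π : Equiv.Perm (Fin 8)} (h : ((1, π) : G × Equiv.Perm (Fin 8)) ∈ S.Gam) : π = 1 := by
  classical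
  haveI := alternatingGroup.isSimpleGroup (α := Fin 8) (by simp)
  let K : Subgroup (alternatingGroup (Fin 8)) :=
    { carrier := {σ | ((1, (σ : Equiv.Perm (Fin 8))) : G × Equiv.Perm (Fin 8)) ∈ S.Gam}
      one_mem' := one_mem S.Gam
      mul_mem' := fun {a b} ha hb => by
        have := mul_mem (show ((1, (a : Equiv.Perm (Fin 8))) : G × Equiv.Perm (Fin 8)) ∈ S.Gam from ha)
          (show ((1, (b : Equiv.Perm (Fin 8))) : G × Equiv.Perm (Fin 8)) ∈ S.Gam from hb)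
        simpa using this
      inv_mem' := fun {a} ha => by
        have := inv_mem (show ((1, (a : Equiv.Perm (Fin 8))) : G × Equiv.Perm (Fin 8)) ∈ S.Gam from ha)
        simpa using this }
  have hconj : ∀ σ ∈ alternatingGroup (Fin 8), ∀ ρ : Equiv.Perm (Fin 8),
      ((1, ρ) : G × Equiv.Perm (Fin 8)) ∈ S.Gam → ((1, σ * ρ * σ⁻¹) : G × Equiv.Perm (Fin 8)) ∈ S.Gam := by
    intro σ hσ ρ hρ
    obtain ⟨g, hg⟩ := S.exists_lift hσ
    have := mul_mem (mul_mem (S.Gam0_le hg) hρ) (inv_mem (S.Gam0_le hg))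
    simpa using this
  haveI : K.Normal := ⟨fun σ hσ τ' => hconj τ'.1 τ'.2 σ.1 hσ⟩
  have hK : K = ⊥ := by
    rcases Subgroup.Normal.eq_bot_or_eq_top (inferInstance : K.Normal) with e | e
    · exact e
    · exfalso
      have hm : Equiv.swap (0 : Fin 8) 1 * Equiv.swap 4 5 ∈ alternatingGroup (Fin 8) := by
        rw [Equiv.Perm.mem_alternatingGroup, map_mul, Equiv.Perm.sign_swap (by decide),
          Equiv.Perm.sign_swap (by decide)]
        rfl
      have h1 : (⟨_, hm⟩ : alternatingGroup (Fin 8)) ∈ K := e ▸ Subgroup.mem_top _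
      have h2 := (S.mem_Gam.1 h1) 0 1 2 (by decide)
      rw [one_mul, inv_one, mul_one] at h2
      change S.T0 0 1 2 = S.T0 ((Equiv.swap (0 : Fin 8) 1 * Equiv.swap (4 : Fin 8) 5 : Equiv.Perm (Fin 8)) 0)
        ((Equiv.swap (0 : Fin 8) 1 * Equiv.swap (4 : Fin 8) 5 : Equiv.Perm (Fin 8)) 1)
        ((Equiv.swap (0 : Fin 8) 1 * Equiv.swap (4 : Fin 8) 5 : Equiv.Perm (Fin 8)) 2) at h2
      rw [show (Equiv.swap (0 : Fin 8) 1 * Equiv.swap 4 5 : Equiv.Perm (Fin 8)) 0 = 1 by decide,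
        show (Equiv.swap (0 : Fin 8) 1 * Equiv.swap 4 5 : Equiv.Perm (Fin 8)) 1 = 0 by decide,
        show (Equiv.swap (0 : Fin 8) 1 * Equiv.swap 4 5 : Equiv.Perm (Fin 8)) 2 = 2 by decide,
        S.T0_swap (by decide : Dist 0 1 2), S.T0_base] at h2
      refine S.x_ne_one ?_
      have h3 := S.isX.cube
      rw [show S.x ^ 3 = S.x * S.x * S.x by simp only [pow_succ, pow_zero, one_mul]] at h3
      nth_rewrite 2 [h2] at h3
      rwa [mul_inv_cancel, one_mul] at h3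
  have key : ∀ a b c, Dist a b c → π * cyc a b c * π⁻¹ = cyc a b c := by
    intro a b c hd
    have hm : π * cyc a b c * π⁻¹ * (cyc a b c)⁻¹ ∈ alternatingGroup (Fin 8) := by
      rw [cyc_conj]; exact mul_mem (cyc_even (dist_image π hd)) (inv_mem (cyc_even hd))
    have h1 := mul_mem h (hconj _ (cyc_even hd) _ (inv_mem h |> fun e => by simpa using e))
    have h2 : (⟨_, hm⟩ : alternatingGroup (Fin 8)) ∈ K := by
      show ((1, π * cyc a b c * π⁻¹ * (cyc a b c)⁻¹) : G × Equiv.Perm (Fin 8)) ∈ S.Gam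
      simpa [mul_assoc] using h1
    rw [hK, Subgroup.mem_bot] at h2
    exact mul_inv_eq_one.1 (congrArg Subtype.val h2)
  refine Equiv.ext fun a => fix_of_triples a (π a) fun b c hd => ?_
  have e := key a b c hd
  rw [cyc_conj] at e
  obtain ⟨-, -, -, e4⟩ := cyc_apply a b c hd
  by_contra hne
  push Not at hne
  have e5 := (cyc_apply _ _ _ (dist_image π hd)).1
  rw [e, e4 _ hne.1 hne.2.1 hne.2.2] at e5
  exact hd.1 (π.injective e5)

theorem eq_ι_of_cent {g : G} (h : ∀ a b c, Dist a b c → g * S.T0 a b c * g⁻¹ = S.T0 a b c) :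
    ∃ v, S.ι v = g := by
  have cT : ∀ a b c, Dist a b c → Commute g (S.T0 a b c) := fun a b c hd => mul_inv_eq_iff_eq_mul.1 (h a b c hd)
  set ι := S.ι
  obtain ⟨-, -, -, w4, -⟩ := V.plane_w
  have ex : S.x = S.T0 0 1 2 := S.T0_base.symm
  have p := V.points.2.2.1
  simp only [List.cons.injEq, and_true] at p
  have e2 : ι V.u2 = S.T0 1 0 3 * (S.T0 0 1 2)⁻¹ := by
    have := S.T0_V V.u1 (by decide : Dist 0 1 2)
    rw [p.1, p.2.1, p.2.2] at this
    rw [← this, ← ex]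
    have hu : (ι V.u1)⁻¹ = ι V.u1 := by rw [← map_inv]; congr 1
    calc ι V.u2 = ι (V.u1 * V.u3) := by congr 1
      _ = ι V.u1 * (S.x * ι V.u1 * S.x⁻¹) := by rw [map_mul, S.isX.h1]
      _ = ι V.u1 * S.x * (ι V.u1)⁻¹ * S.x⁻¹ := by rw [hu]; group
  have c2 : Commute g (ι V.u2) := by
    rw [e2]; exact (cT _ _ _ (by decide)).mul_right (cT _ _ _ (by decide)).inv_right
  have cx : Commute g S.x := ex ▸ cT _ _ _ (by decide)
  have c1 : Commute g (ι V.u1) := by
    rw [← S.isX.h2]; exact (cx.mul_right c2).mul_right cx.inv_right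
  have cw : Commute g (ι V.wV * S.x * (ι V.wV)⁻¹) := S.T0_wxw ▸ cT _ _ _ (by decide)
  have cC : Commute g (ι V.dC) := by
    have e : ι V.dC = ι V.wV * ι V.u2 * (ι V.wV)⁻¹ := by
      rw [← map_inv, ← map_mul, ← map_mul]; congr 1
    have p3 := S.T0_V V.wV (by decide : Dist 1 0 3)
    rw [e, e2, show ι V.wV * (S.T0 1 0 3 * (S.T0 0 1 2)⁻¹) * (ι V.wV)⁻¹ =
      (ι V.wV * S.T0 1 0 3 * (ι V.wV)⁻¹) * (ι V.wV * S.T0 0 1 2 * (ι V.wV)⁻¹)⁻¹ by group, p3, ← ex]
    exact (cT _ _ _ (dist_image (V.toP V.wV) (by decide : Dist 1 0 3))).mul_right cw.inv_right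
  have cB : Commute g (ι V.dB) := by
    have e : ι V.dB = (ι V.wV * S.x * (ι V.wV)⁻¹) * ι V.dC * (ι V.wV * S.x * (ι V.wV)⁻¹)⁻¹ := by
      have e0 : ι V.dC = ι V.wV * ι V.u2 * (ι V.wV)⁻¹ := by
        rw [← map_inv, ← map_mul, ← map_mul]; congr 1
      have e1 : ι V.dB = ι V.wV * ι V.u1 * (ι V.wV)⁻¹ := by
        rw [← map_inv, ← map_mul, ← map_mul]; congr 1
      rw [e0, e1]
      calc ι V.wV * ι V.u1 * (ι V.wV)⁻¹ = ι V.wV * (S.x * ι V.u2 * S.x⁻¹) * (ι V.wV)⁻¹ := by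
            rw [show S.x * ι V.u2 * S.x⁻¹ = ι V.u1 from S.isX.h2]
        _ = _ := by group
    rw [e]; exact (cw.mul_right cC).mul_right cw.inv_right
  refine S.A.toV.mem_range ?_
  rw [← S.A.toV.ι_z, ← V.plane_mul.2.2.2.2.2.1, map_mul]
  exact (c1.mul_right cB).eq

theorem gamV (v : V) : ((S.ι v, V.toP v) : G × Equiv.Perm (Fin 8)) ∈ S.Gam := S.gamA (pA v)

theorem gam_fst_one {g : G} (h : ((g, 1) : G × Equiv.Perm (Fin 8)) ∈ S.Gam) : g = 1 := by
  obtain ⟨v, hv⟩ := S.eq_ι_of_cent fun a b c hd => h a b c hd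
  have h1 := mul_mem (inv_mem h) (S.gamV v)
  simp only [Prod.inv_mk, Prod.mk_mul_mk, inv_one, one_mul, hv, inv_mul_cancel] at h1
  have e := V.toP_inj ((S.perm_eq_one h1).trans V.toP_one.symm)
  rw [e, map_one] at hv
  exact hv.symm

/-- The projection to the alternating group. -/
noncomputable def proj : S.Gam0 →* alternatingGroup (Fin 8) :=
  ((MonoidHom.snd G (Equiv.Perm (Fin 8))).comp S.Gam0.subtype).codRestrict _ fun p =>
    S.Gam0_map ▸ Subgroup.mem_map_of_mem _ p.2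

theorem proj_bij : Function.Bijective S.proj := by
  refine ⟨(injective_iff_map_eq_one _).2 fun p hp => ?_, fun σ => ?_⟩
  · have h2 : (p : G × Equiv.Perm (Fin 8)).2 = 1 := congrArg Subtype.val hp
    have h1 := S.gam_fst_one (g := (p : G × Equiv.Perm (Fin 8)).1) (h2 ▸ S.Gam0_le p.2)
    exact Subtype.ext (Prod.ext h1 h2)
  · obtain ⟨g, hg⟩ := S.exists_lift σ.2
    exact ⟨⟨_, hg⟩, Subtype.ext rfl⟩

/-- The alternating group in `G`. -/
noncomputable def phi : alternatingGroup (Fin 8) →* G :=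
  ((MonoidHom.fst G (Equiv.Perm (Fin 8))).comp S.Gam0.subtype).comp
    (MulEquiv.ofBijective S.proj S.proj_bij).symm.toMonoidHom

theorem phi_mem (σ : alternatingGroup (Fin 8)) : ((S.phi σ, (σ : Equiv.Perm (Fin 8))) : G × Equiv.Perm (Fin 8)) ∈ S.Gam0 := by
  set p := (MulEquiv.ofBijective S.proj S.proj_bij).symm σ
  have e : ((p : G × Equiv.Perm (Fin 8))).2 = σ :=
    congrArg Subtype.val ((MulEquiv.ofBijective S.proj S.proj_bij).apply_symm_apply σ)
  rw [← e]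
  exact p.2

theorem phi_unique {g : G} {σ : alternatingGroup (Fin 8)}
    (h : ((g, (σ : Equiv.Perm (Fin 8))) : G × Equiv.Perm (Fin 8)) ∈ S.Gam) : S.phi σ = g := by
  have h1 := mul_mem (inv_mem h) (S.Gam0_le (S.phi_mem σ))
  simp only [Prod.inv_mk, Prod.mk_mul_mk, inv_mul_cancel] at h1
  exact (inv_mul_eq_one.1 (S.gam_fst_one h1)).symm

theorem phi_inj : Function.Injective S.phi := by
  refine (injective_iff_map_eq_one _).2 fun σ hσ => Subtype.ext (S.perm_eq_one ?_)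
  have := S.Gam0_le (S.phi_mem σ)
  rwa [hσ] at this

theorem phi_V (v : V) : S.phi ⟨V.toP v, Equiv.Perm.mem_alternatingGroup.2 (V_even v)⟩ = S.ι v :=
  S.phi_unique (S.gamV v)

theorem phi_cyc {a b c : Fin 8} (h : Dist a b c) : S.phi ⟨cyc a b c, cyc_even h⟩ = S.T0 a b c :=
  S.phi_unique (S.gam_T h)

end Seeded

end Cfsg.Agent.Cent32
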