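import Cfsg.Agent.Cent32.M12Tab
import Cfsg.Agent.M12Cent.Order
import Cfsg.Agent.M12Cent.Host
import Cfsg.Agent.Fg24.M12.Ident
import Cfsg.Agent.Compute.MathieuActions

/-!
The centralizer is that of the Mathieu group of degree twelve.
-/

set_option autoImplicit false
set_option maxRecDepth 8000

namespace Cfsg.Agent.Cent32

open Cfsg.Agent.M12Cent

universe u

variable {G : Type u} [Group G] [Finite G] {z : G} (h : M12Cent.Emb z)
include h

omit [Finite G] in
theorem norm8M (hza : IsConj z (h.ι M.aM)) (hzc : ¬ IsConj z (h.ι M.cM)) :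
    Norm8 z (h.ι.comp eMHom) := by
  have hmem : ∀ {k : M}, h.ι k ∉ (h.ι.comp eMHom).range → ∀ w, eM w ≠ k := fun hk w e =>
    hk ⟨w, congrArg h.ι e⟩
  have hk2 : ∀ {k : M}, h.ι k * h.ι k = 1 → k * k = 1 := fun e => h.inj (by rw [map_mul, e, map_one])
  refine
    { inj := fun a b e => eM_inj a b (h.inj e)
      hz := h.hz
      mem := ?_
      normal := ?_
      conj := ?_
      cls := ?_
      cent := ?_
      comm := ?_
      two := ?_
      self := ?_
      outer := ?_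
      card := h.card_cent }
  · obtain ⟨w, hw⟩ := eM_ty.2 M.zM (Or.inl M.ty_rep.1)
    exact ⟨w, (congrArg h.ι hw).trans h.ι_z⟩
  · rintro l hl _ ⟨w, rfl⟩
    obtain ⟨x, rfl⟩ := h.mem_range hl
    obtain ⟨w', hw'⟩ := eM_normal x w
    exact ⟨w', (congrArg h.ι hw').trans (by simp [eMHom])⟩
  · rintro _ ⟨w, rfl⟩ he
    rcases eM_ty.1 w (fun e => he (by rw [e, map_one])) with e | e
    · show IsConj z (h.ι (eM w))
      rw [M.ty_one _ e, h.ι_z]
    · exact hza.trans (h.conj_two e)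
  · intro g hg
    obtain ⟨y, hy, hye⟩ := h.lift (by rw [Invol.orderOf_conj, h.hz]) hg
    have hc : IsConj z (h.ι y) := isConj_iff.2 ⟨g, hye.symm⟩
    have h4 := (M.ty_spec y).2
    have h5 : M.ty y = 1 ∨ M.ty y = 2 ∨ M.ty y = 3 ∨ M.ty y = 4 := by omega
    rw [← hye]
    rcases h5 with e | e | e | e
    · obtain ⟨w, rfl⟩ := eM_ty.2 y (Or.inl e); exact ⟨w, rfl⟩
    · obtain ⟨w, rfl⟩ := eM_ty.2 y (Or.inr e); exact ⟨w, rfl⟩
    · exact absurd (hc.trans (h.conj_three e).symm) h.not_conj_b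
    · exact absurd (hc.trans (h.conj_four e).symm) hzc
  · intro k kz kk kE x xz xk
    obtain ⟨k, rfl⟩ := h.mem_range kz
    obtain ⟨x, rfl⟩ := h.mem_range xz
    exact ⟨4, by rw [show 2 ^ 4 = 16 from rfl, ← map_pow, eM_cent k (hk2 kk) (hmem kE) x ((h.comm_iff _ _).1 xk), map_one]⟩
  · intro k kz kk kE
    obtain ⟨k, rfl⟩ := h.mem_range kz
    obtain ⟨⟨w₀, hw0, hall, w, hw⟩, -⟩ := eM_comm k (hk2 kk) (hmem kE)
    refine ⟨h.ι (eM w₀), ⟨w₀, rfl⟩, fun e => hw0 (eM_inj _ _ ((h.inj (e.trans (map_one h.ι).symm)).trans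
      eM_mul.1.symm)), ?_, h.ι (eM w), ⟨w, rfl⟩, by rw [← map_inv, ← map_inv, ← map_mul, ← map_mul, ← map_mul, hw]⟩
    rintro _ ⟨v, rfl⟩
    show h.ι (eM v) * h.ι k * (h.ι (eM v))⁻¹ * (h.ι k)⁻¹ = 1 ∨
      h.ι (eM v) * h.ι k * (h.ι (eM v))⁻¹ * (h.ι k)⁻¹ = h.ι (eM w₀)
    rw [← map_inv, ← map_inv, ← map_mul, ← map_mul, ← map_mul]
    rcases hall v with e | e <;> rw [e]
    · exact Or.inl (map_one _)
    · exact Or.inr rfl
  · intro k kz kk kE
    obtain ⟨k, rfl⟩ := h.mem_range kz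
    obtain ⟨-, w, h1, h2, h3⟩ := eM_comm k (hk2 kk) (hmem kE)
    exact ⟨h.ι (eM w), ⟨w, rfl⟩, fun e => h1 (h.inj (e.trans (map_one h.ι).symm)),
      fun e => h2 (h.inj (e.trans h.ι_z.symm)), (h.comm_iff _ _).2 h3⟩
  · intro x xz hx
    obtain ⟨x, rfl⟩ := h.mem_range xz
    obtain ⟨w, rfl⟩ := eM_self x fun w => (h.comm_iff _ _).1 (hx _ ⟨w, rfl⟩)
    exact ⟨w, rfl⟩
  · refine ⟨h.ι M.bM, h.comm _, h.ord _ (by rw [M.ty_rep.2.2.1]; norm_num), ?_⟩
    rintro ⟨w, hw⟩
    exact eM_outer.2.2 w (h.inj hw)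

theorem simpleM (hza : IsConj z (h.ι M.aM)) (hzc : IsConj z (h.ι M.cM)) :
    IsSimpleGroup G ∧ ¬ IsMulCommutative G := by
  classical
  haveI : Fact (Nat.Prime 2) := ⟨Nat.prime_two⟩
  have hz1 := Invol.ne_one h.hz
  have hna : ¬ IsMulCommutative G := fun hc => by
    obtain ⟨x, y, hxy⟩ : ∃ x y : M, x * y ≠ y * x := not_abelian.elim (fun e => ⟨_, _, e⟩) id
    exact hxy (h.inj (by rw [map_mul, map_mul]; exact hc.is_comm.comm _ _))
  haveI : Nontrivial G := ⟨⟨z, 1, hz1⟩⟩
  refine ⟨⟨fun N hN => ?_⟩, hna⟩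
  by_cases hzN : z ∈ N
  · right
    have hcl : ∀ {g}, IsConj z g → g ∈ N := fun hg => by
      obtain ⟨c, rfl⟩ := isConj_iff.1 hg
      exact hN.conj_mem _ hzN c
    have hgen : ∀ p : M, M.zOne p = true → h.ι p ∈ N := by
      intro p hp
      simp only [M.zOne, decide_eq_true_eq] at hp
      rcases hp with e | e | e
      · rw [M.ty_one p e, h.ι_z]; exact hzN
      · exact hcl (hza.trans (h.conj_two e))
      · exact hcl (hzc.trans (h.conj_four e))
    have hL : Subgroup.centralizer ({z} : Set G) ≤ N := by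
      rw [← h.range]
      rintro _ ⟨x, rfl⟩
      obtain ⟨p, q, hp, hq, hr⟩ := gen_zOne x
      have : x = p * q * (q⁻¹ * p⁻¹ * x) := by group
      rw [this, map_mul, map_mul]
      exact mul_mem (mul_mem (hgen p hp) (hgen q hq)) (hgen _ hr)
    obtain ⟨S, hS⟩ := h.exists_sylow
    have hSN : (S : Subgroup G) ≤ N := by
      rw [hS]
      rintro _ ⟨x, -, rfl⟩
      exact hL (Subgroup.mem_centralizer_singleton_iff.2 (h.comm x))
    have hnS : Subgroup.normalizer ((S : Subgroup G) : Set G) ≤ N := by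
      intro n hn
      refine hL (Subgroup.mem_centralizer_singleton_iff.2 (mul_inv_eq_iff_eq_mul.1 ?_))
      have hzS : z ∈ (S : Subgroup G) := hS ▸ ⟨M.zM, M.inS_spec.2.1, h.ι_z⟩
      have hm : n * z * n⁻¹ ∈ (S : Subgroup G) := (Subgroup.mem_normalizer_iff.1 hn z).1 hzS
      rw [hS] at hm
      obtain ⟨x, hxS, hxe⟩ := hm
      rw [← hxe]
      rcases M.inS_center x hxS fun y hy => h.inj (by
          have hyS : h.ι y ∈ (S : Subgroup G) := hS ▸ ⟨y, hy, rfl⟩
          have hy' : n⁻¹ * h.ι y * n ∈ (S : Subgroup G) := by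
            refine (Subgroup.mem_normalizer_iff.1 hn _).2 ?_
            rwa [show n * (n⁻¹ * h.ι y * n) * n⁻¹ = h.ι y by group]
          rw [hS] at hy'
          obtain ⟨w, -, hw⟩ := hy'
          rw [map_mul, map_mul, hxe]
          calc n * z * n⁻¹ * h.ι y = n * (z * (n⁻¹ * h.ι y * n)) * n⁻¹ := by group
            _ = n * (n⁻¹ * h.ι y * n * z) * n⁻¹ := by rw [← hw, h.comm w]
            _ = h.ι y * (n * z * n⁻¹) := by group) with e | e
      · rw [e, map_one, eq_comm, conj_eq_one_iff] at hxe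
        exact absurd hxe hz1
      · rw [e, h.ι_z]
    have htop := Sylow.normalizer_sup_eq_top' (G := G) S hSN
    exact (sup_eq_right.2 hnS).symm.trans htop
  · left
    have hodd : ¬ 2 ∣ Nat.card N := by
      intro h2
      obtain ⟨n, hn⟩ := exists_prime_orderOf_dvd_card' 2 h2
      obtain ⟨x, hx, -, hc⟩ := h.conj_into (g := (n : G)) (by rw [Subgroup.orderOf_coe, hn])
      obtain ⟨c, hc'⟩ := isConj_iff.1 hc
      have hxN : h.ι x ∈ N := hc' ▸ hN.conj_mem _ n.2 c
      rcases comm_z x hx with e | ⟨d, hd⟩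
      · exact hzN (h.ι_z ▸ e ▸ hxN)
      · refine hzN ?_
        rw [← h.ι_z, ← hd, map_mul, map_mul, map_mul, map_inv, map_inv, mul_assoc, mul_assoc]
        refine mul_mem hxN ?_
        rw [← mul_assoc]
        exact hN.conj_mem _ (inv_mem hxN) _
    have hinv : ∀ s : G, IsConj z s → ∀ x ∈ N, s * x * s⁻¹ = x⁻¹ := by
      intro s hs
      obtain ⟨c, rfl⟩ := isConj_iff.1 hs
      let φ : N →* N :=
        { toFun := fun x => ⟨c * z * c⁻¹ * x * (c * z * c⁻¹)⁻¹, hN.conj_mem _ x.2 _⟩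
          map_one' := Subtype.ext (by simp)
          map_mul' := fun a b => Subtype.ext (by simp [mul_assoc]) }
      have hfp : MonoidHom.FixedPointFree φ := by
        intro x hx
        have hx' : c * z * c⁻¹ * (x : G) * (c * z * c⁻¹)⁻¹ = x := congrArg Subtype.val hx
        obtain ⟨m, hm⟩ : ∃ m, h.ι m = c⁻¹ * x * c := h.mem_range (by
          have := mul_inv_eq_iff_eq_mul.1 hx'
          calc c⁻¹ * (x : G) * c * z = c⁻¹ * ((x : G) * (c * z * c⁻¹)) * c := by group
            _ = c⁻¹ * (c * z * c⁻¹ * x) * c := by rw [this]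
            _ = z * (c⁻¹ * x * c) := by group)
        have hmN : h.ι m ∈ N := by
          rw [hm]; simpa using hN.conj_mem _ x.2 c⁻¹
        -- an element of odd order in the model whose class lies in `N`
        by_contra hne
        have hm1 : m ≠ 1 := fun e => hne (Subtype.ext (by
          rw [e, map_one] at hm
          calc (x : G) = c * (c⁻¹ * x * c) * c⁻¹ := by group
            _ = 1 := by rw [← hm]; group))
        have h192 := orderOf_dvd_natCard m
        rw [M.card] at h192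
        have hmo : ¬ 2 ∣ orderOf m := fun h2 => hodd (by
          have := Subgroup.orderOf_dvd_natCard N hmN
          rw [orderOf_injective h.ι h.inj] at this
          exact h2.trans this)
        have three : ∀ n : ℕ, n ∣ 192 → ¬ 2 ∣ n → n ∣ 3 := fun n hn h2 =>
          Nat.Coprime.dvd_of_dvd_mul_left
            (show Nat.Coprime n (2 ^ 6) from (Nat.coprime_two_right.2 (Nat.not_even_iff_odd.1
              (fun e => h2 e.two_dvd))).pow_right 6) (show n ∣ 2 ^ 6 * 3 by norm_num; exact hn)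
        obtain ⟨d, hd⟩ := odd_comm m hm1 (orderOf_dvd_iff_pow_eq_one.1 (three _ h192 hmo))
        refine hd (orderOf_dvd_iff_pow_eq_one.1 (three _ (by rw [← M.card]; exact orderOf_dvd_natCard _) ?_))
        intro h2
        have hdN : h.ι (m * d * m⁻¹ * d⁻¹) ∈ N := by
          rw [map_mul, map_mul, map_mul, map_inv, map_inv, mul_assoc, mul_assoc, ← mul_assoc (h.ι d)]
          exact mul_mem hmN (hN.conj_mem _ (inv_mem hmN) _)
        have h3 := Subgroup.orderOf_dvd_natCard N hdN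
        rw [orderOf_injective h.ι h.inj] at h3
        exact hodd (h2.trans h3)
      have h2 : Function.Involutive φ := fun x => Subtype.ext (by
        show c * z * c⁻¹ * (c * z * c⁻¹ * x * (c * z * c⁻¹)⁻¹) * (c * z * c⁻¹)⁻¹ = (x : G)
        calc _ = c * (z * z) * c⁻¹ * x * (c * (z * z) * c⁻¹)⁻¹ := by group
          _ = x := by rw [Invol.mul_self_eq_one h.hz]; group)
      intro x hx
      exact congrArg Subtype.val
        (congrFun (MonoidHom.FixedPointFree.coe_eq_inv_of_involutive hfp h2) ⟨x, hx⟩)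
    refine (Subgroup.eq_bot_iff_forall _).2 fun x hx => ?_
    have a1 := hinv z (IsConj.refl z) x hx
    have a2 := hinv _ hza x hx
    have hzaz : IsConj z (h.ι M.aM * z) := by
      rw [← h.ι_az]; exact hza.trans (h.conj_two M.ty_rep.2.2.2.2)
    have a3 := hinv _ hzaz x hx
    rw [show h.ι M.aM * z * x * (h.ι M.aM * z)⁻¹ = h.ι M.aM * (z * x * z⁻¹) * (h.ι M.aM)⁻¹ by group, a1,
      show h.ι M.aM * x⁻¹ * (h.ι M.aM)⁻¹ = (h.ι M.aM * x * (h.ι M.aM)⁻¹)⁻¹ by group, a2, inv_inv] at a3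
    have hsq : x ^ 2 = 1 := by
      rw [sq]; nth_rewrite 2 [a3]; exact mul_inv_cancel x
    rcases (Nat.dvd_prime Nat.prime_two).1 (orderOf_dvd_of_pow_eq_one hsq) with e | e
    · exact orderOf_eq_one_iff.1 e
    · exact absurd (e ▸ Subgroup.orderOf_dvd_natCard N hx) hodd

/-- The conclusion for this centralizer. -/
theorem resultM {v : M} (hv2 : 2 ≤ M.ty v) (hv3 : M.ty v ≤ 3) (hv : IsConj z (h.ι v)) :
    (∃ (N : Subgroup G) (hN : N.Normal), IsMulCommutative N ∧ (∀ n ∈ N, n ^ 2 = 1) ∧ Nat.card N = 8 ∧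
        Nonempty (G ⧸ N ≃* Matrix.ProjectiveSpecialLinearGroup (Fin 3) (ZMod 2))) ∨
    Cfsg.Spor.IsoM12 G := by
  have hv' : M.ty v = 2 := by
    by_contra hne
    exact h.not_conj_b (hv.trans (h.conj_three (by omega)).symm)
  have hza : IsConj z (h.ι M.aM) := hv.trans (h.conj_two hv').symm
  by_cases hzc : IsConj z (h.ι M.cM)
  · obtain ⟨hsimp, hna⟩ := simpleM h hza hzc
    have hcard := h.card_eq hna
    haveI := Cfsg.Agent.Compute.isSimpleGroup_m12
    haveI := M12Cent.finite_m12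
    letI := Fintype.ofFinite G
    letI := Fintype.ofFinite Cfsg.Spor.M12
    exact Or.inr (Fg24.M12.unique_95040 (K := Cfsg.Spor.M12) hcard Cfsg.Agent.Compute.card_m12)
  · exact Or.inl (norm8M h hza hzc).main

end Cfsg.Agent.Cent32
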