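import Cfsg.Agent.M12Cent.Facts
import Cfsg.Agent.Cent32.NormalE

/-!
Checked facts about the model of the centralizer in the Mathieu group of degree twelve.
-/

set_option autoImplicit false
set_option maxRecDepth 8000
set_option synthInstance.maxSize 1000

namespace Cfsg.Agent.Cent32

open Cfsg.Agent.M12Cent

/-- The normal elementary abelian subgroup of order eight. -/
def eM (w : W8) : M :=
  M.mk' (24 * ((Multiplicative.toAdd w 0).val + 2 * (Multiplicative.toAdd w 1).val +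
    4 * (Multiplicative.toAdd w 2).val))

theorem eM_mul : eM 1 = 1 ∧ ∀ a b : W8, eM (a * b) = eM a * eM b := by decide +kernel

/-- The subgroup of order eight as the image of a homomorphism. -/
def eMHom : W8 →* M where
  toFun := eM
  map_one' := eM_mul.1
  map_mul' := eM_mul.2

theorem eM_inj : ∀ a b : W8, eM a = eM b → a = b := by decide +kernel

theorem eM_ty : (∀ w : W8, w ≠ 1 → M.ty (eM w) = 1 ∨ M.ty (eM w) = 2) ∧
    ∀ x : M, M.ty x = 1 ∨ M.ty x = 2 → ∃ w, eM w = x := by decide +kernel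

theorem eM_normal : ∀ (l : M) (w : W8), ∃ w', eM w' = l * eM w * l⁻¹ := by decide +kernel

theorem eM_cent : ∀ k : M, k * k = 1 → (∀ w, eM w ≠ k) → ∀ x : M, x * k = k * x → x ^ 16 = 1 := by
  decide +kernel

theorem eM_comm : ∀ k : M, k * k = 1 → (∀ w, eM w ≠ k) →
    (∃ w₀ : W8, w₀ ≠ 1 ∧ (∀ w, eM w * k * (eM w)⁻¹ * k⁻¹ = 1 ∨ eM w * k * (eM w)⁻¹ * k⁻¹ = eM w₀) ∧
      ∃ w, eM w * k * (eM w)⁻¹ * k⁻¹ = eM w₀) ∧
    ∃ w, eM w ≠ 1 ∧ eM w ≠ M.zM ∧ eM w * k = k * eM w := by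
  decide +kernel

theorem eM_self : ∀ x : M, (∀ w, x * eM w = eM w * x) → ∃ w, eM w = x := by decide +kernel

theorem eM_outer : M.bM * M.bM = 1 ∧ M.bM ≠ 1 ∧ ∀ w, eM w ≠ M.bM := by decide +kernel

theorem comm_z : ∀ x : M, M.ty x ≠ 0 → x = M.zM ∨ ∃ c : M, x * c * x⁻¹ * c⁻¹ = M.zM := by
  decide +kernel

theorem gen_zOne : ∀ x : M, ∃ p q : M, M.zOne p = true ∧ M.zOne q = true ∧
    M.zOne (q⁻¹ * p⁻¹ * x) = true := by
  decide +kernel

theorem odd_comm : ∀ m : M, m ≠ 1 → m ^ 3 = 1 → ∃ d, (m * d * m⁻¹ * d⁻¹) ^ 3 ≠ 1 := by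
  decide +kernel

theorem not_abelian : M.bM * M.cM ≠ M.cM * M.bM ∨ ∃ x y : M, x * y ≠ y * x := by decide +kernel

end Cfsg.Agent.Cent32
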