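import Cfsg.Agent.Cent32.PairTab

/-!
Elements of the model attached to two complementary planes, and checked facts about them.
-/

set_option autoImplicit false
set_option maxRecDepth 8000

namespace Cfsg.Agent.Cent32

namespace V

/-- `(0 1)(2 3)` -/
def u1 : V := mk' 72
/-- `(0 2)(1 3)` -/
def u2 : V := mk' 6
/-- `(0 3)(1 2)` -/
def u3 : V := mk' 78
/-- `(4 5)(6 7)` -/
def dB : V := mk' 96
/-- `(4 6)(5 7)` -/
def dC : V := mk' 1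
/-- The translation by four. -/
def wV : V := mk' 16
/-- `(0 1)(4 5)` -/
def sV : V := mk' 120
/-- `(0 2 4)(1 3 5)` -/
def rV : V := mk' 8
/-- `(2 4)(3 5)` -/
def tV' : V := mk' 2
/-- `(2 3)(4 5)` -/
def dV : V := mk' 144

theorem plane_mul : u1 * u1 = 1 ∧ u2 * u2 = 1 ∧ u3 * u3 = 1 ∧ u1 * u2 = u3 ∧ u2 * u1 = u3 ∧
    u1 * dB = zV ∧ dB * dB = 1 ∧ dC * dC = 1 ∧ dB * dC = dC * dB ∧
    u1 * dB = dB * u1 ∧ u1 * dC = dC * u1 ∧ u2 * dB = dB * u2 ∧ u2 * dC = dC * u2 := by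
  decide +kernel

theorem plane_ty : ty u1 = 3 ∧ ty u2 = 5 ∧ ty u3 = 5 ∧ ty dB = 3 ∧ ty dC = 5 ∧ ty sV = 3 ∧
    ty tV' = 5 ∧ (ty (tV' * zV) = 4 ∨ ty (tV' * zV) = 6) := by
  decide +kernel

theorem plane_w : wV * u1 * wV⁻¹ = dB ∧ wV * u2 * wV⁻¹ = dC ∧ wV * dB * wV⁻¹ = u1 ∧
    wV * dC * wV⁻¹ = u2 ∧ wV * wV = 1 := by
  decide +kernel

theorem plane_s : sV * u1 * sV⁻¹ = u1 ∧ sV * u2 * sV⁻¹ = u3 ∧ sV * u3 * sV⁻¹ = u2 ∧
    sV * dB * sV⁻¹ = dB ∧ sV * dC * sV⁻¹ = dC * dB ∧ sV * sV = 1 := by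
  decide +kernel

theorem plane_cent : ∀ v : V, v * u1 = u1 * v → v * u2 = u2 * v → v * dB = dB * v → v * dC = dC * v →
    ∃ i j k l : Fin 2, v = u1 ^ i.1 * u2 ^ j.1 * dB ^ k.1 * dC ^ l.1 := by
  decide +kernel

theorem plane_words : ∀ i j k l : Fin 2,
    (u1 ^ i.1 * u2 ^ j.1 * dB ^ k.1 * dC ^ l.1 = 1 ↔ i = 0 ∧ j = 0 ∧ k = 0 ∧ l = 0) ∧
    (u3 ^ i.1 * u1 ^ j.1 * dB ^ k.1 * dC ^ l.1 = u1 ^ i.1 * u2 ^ j.1 * dB ^ k.1 * dC ^ l.1 ↔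
      i = 0 ∧ j = 0) := by
  decide +kernel

theorem plane_fix : ∀ v : V, act v 0 = 0 → act v 1 = 1 → act v 2 = 2 →
    ∃ k l : Fin 2, v = dB ^ k.1 * dC ^ l.1 := by
  decide +kernel

theorem orbit_A : ∀ a b c : Fin 8, a ^^^ b = 1 → c ≠ a → c ≠ b →
    ∃ v : V, act v 0 = a ∧ act v 1 = b ∧ act v 2 = c := by
  decide +kernel

theorem orbit_B : ∀ a b c : Fin 8, a ≠ b → b ≠ c → a ≠ c → a ^^^ b ≠ 1 → b ^^^ c ≠ 1 → c ^^^ a ≠ 1 →
    ∃ v : V, act v 0 = a ∧ act v 2 = b ∧ act v 4 = c := by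
  decide +kernel

theorem rV_cent : (Finset.univ.filter fun y : V => y * rV = rV * y).card = 6 ∧ rV ^ 3 = 1 ∧ rV ≠ 1 ∧
    tV' * rV * tV'⁻¹ = rV⁻¹ ∧ tV' * zV = zV * tV' ∧ tV' * tV' = 1 := by
  decide +kernel

theorem points :
    [act wV 0, act wV 1, act wV 2] = [4, 5, 6] ∧ [act sV 0, act sV 1, act sV 2] = [1, 0, 2] ∧
    [act u1 0, act u1 1, act u1 2] = [1, 0, 3] ∧
    [act zV 0, act zV 2, act zV 4] = [1, 3, 5] ∧ [act tV' 0, act tV' 2, act tV' 4] = [0, 4, 2] ∧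
    [act u2 1, act u2 0, act u2 6] = [3, 2, 6] ∧ [act dV 1, act dV 0, act dV 6] = [1, 0, 6] ∧
    [act dV 2, act dV 3, act dV 6] = [3, 2, 6] := by
  decide +kernel

theorem faithful_cycles : ∀ v : V, (∀ a b c : Fin 8, a ≠ b → b ≠ c → a ≠ c →
    (act v a = a ∨ act v a = b ∨ act v a = c)) → v = 1 := by
  decide +kernel

end V

/-- `(0 1 2)(4 5 6)` -/
def hP : Equiv.Perm (Fin 8) where
  toFun := affFun (1, 2, 0, 5)
  invFun := affFun (2, 0, 1, 6)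
  left_inv := by unfold Function.LeftInverse; decide +kernel
  right_inv := by unfold Function.RightInverse Function.LeftInverse; decide +kernel

/-- `(0 1 2)(4 5 6)` in the affine group. -/
def hA : agl := ⟨hP, (affFun_spec (1, 2, 0, 5) (by decide)).2.1⟩

theorem hA_conj : ∀ p : V × V, p ∈ [(V.u1, V.u3), (V.u2, V.u1), (V.dB, V.dB * V.dC), (V.dC, V.dB)] →
    ∀ x, hP (V.act p.1 x) = V.act p.2 (hP x) ∧ hP (V.act (sigmaV p.1) x) =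
      V.act (sigmaV (if p.1 = V.u1 then V.u2 else if p.1 = V.u2 then V.u3 else p.2)) (hP x) := by
  decide +kernel

theorem hA_inv : (∀ x, hP (V.act V.sV x) = V.act V.sV (hP.symm x)) ∧
    (∀ x, hP (V.act (sigmaV V.sV) x) = V.act (sigmaV V.sV) (hP.symm x)) ∧
    (∀ x, hP (V.act V.wV x) = V.act V.wV (hP x)) ∧
    (∀ x, hP (V.act (sigmaV V.wV) x) = V.act (sigmaV V.wV) (hP.symm x)) ∧
    (∀ x, hP (hP (hP x)) = x) := by
  decide +kernel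

end Cfsg.Agent.Cent32
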