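import Cfsg.Agent.Cent32.HomTab
import Cfsg.Agent.Cent32.PlanesTab

/-!
Triples of points avoiding one point, reached from one of them.
-/

set_option autoImplicit false
set_option maxRecDepth 8000

namespace Cfsg.Agent.Cent32

open Equiv

/-- `(0 4)(1 5)` -/
def qP : Equiv.Perm (Fin 8) := swap 0 4 * swap 1 5

/-- The four permutations moving the triples. -/
def triGen : Fin 4 → Equiv.Perm (Fin 8) := ![V.toP V.dB, V.toP V.dC, cyc 0 1 2, qP]

/-- The steps of a search. -/
def triTab : List (Fin 4 × ℕ) :=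
  [(2, 0), (3, 0), (2, 1), (3, 1), (0, 2), (1, 2), (2, 2), (3, 3), (0, 4), (1, 4),
   (2, 4), (1, 5), (2, 5), (3, 5), (2, 6), (2, 7), (3, 7), (0, 8), (1, 8), (2, 8),
   (1, 9), (2, 9), (3, 9), (2, 10), (2, 11), (3, 11), (2, 12), (2, 13), (3, 13), (2, 14),
   (2, 15), (3, 15), (3, 16), (1, 17), (2, 17), (1, 18), (2, 18), (2, 19), (2, 20), (3, 20),
   (2, 21), (2, 22), (3, 22), (2, 24), (3, 24), (3, 25), (1, 26), (2, 26), (2, 27), (3, 27),
   (3, 28), (1, 29), (2, 29), (3, 31), (0, 32), (1, 32), (1, 33), (2, 33), (2, 34), (2, 35),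
   (3, 35), (2, 36), (2, 37), (3, 37), (2, 38), (3, 38), (3, 39), (1, 40), (2, 40), (2, 41),
   (3, 41), (3, 42), (1, 43), (2, 43), (3, 44), (0, 45), (1, 45), (1, 46), (2, 46), (2, 47),
   (2, 48), (3, 48), (1, 50), (1, 51), (2, 51), (2, 52), (2, 53), (3, 53), (1, 54), (1, 55),
   (2, 57), (3, 58), (2, 59), (3, 59), (3, 60), (0, 61), (1, 61), (2, 62), (3, 62), (3, 63),
   (1, 64), (2, 64), (3, 65), (0, 66), (1, 66), (1, 67), (2, 67), (2, 68), (3, 69), (1, 71),
   (1, 72), (2, 72), (2, 73), (3, 74), (1, 75), (1, 76), (2, 78), (2, 80), (3, 80), (3, 81),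
   (1, 82), (2, 84), (2, 85), (2, 86), (3, 86), (1, 88), (3, 91), (1, 92), (3, 93), (0, 94),
   (1, 94), (2, 94), (1, 95), (1, 96), (1, 99), (1, 100), (2, 101), (1, 103), (1, 104), (2, 106),
   (3, 108), (1, 109), (2, 111), (3, 113), (1, 114), (3, 117), (3, 118), (0, 119), (1, 119), (2, 119),
   (1, 120), (2, 122), (3, 122), (3, 124), (2, 125), (1, 127), (2, 127), (1, 129), (2, 129), (1, 130),
   (2, 130), (2, 131), (2, 132), (3, 132), (3, 134), (3, 140), (0, 141), (1, 141), (2, 141), (3, 143),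
   (2, 144), (2, 146), (1, 147), (2, 147), (2, 148), (2, 149), (2, 150), (3, 150), (2, 153), (2, 154),
   (2, 155), (3, 155), (2, 156), (2, 157), (3, 157), (2, 158), (2, 160), (2, 161), (2, 162), (3, 162),
   (0, 164), (1, 164), (2, 165), (2, 166), (2, 168), (2, 169), (3, 169), (2, 170), (2, 171), (2, 172),
   (3, 172), (2, 173), (2, 175), (0, 178), (1, 178), (2, 183), (3, 183), (2, 187), (2, 194)]

/-- The triples found. -/
def triList : List (Fin 8 × Fin 8 × Fin 8) :=
  triTab.foldl (fun L e =>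
    let t := L.getD e.2 (0, 1, 2)
    L ++ [(triGen e.1 t.1, triGen e.1 t.2.1, triGen e.1 t.2.2)]) [(0, 1, 2)]

theorem triList_mem : ∀ a b c : Fin 8, Dist a b c → a ≠ 3 → b ≠ 3 → c ≠ 3 → (a, b, c) ∈ triList := by
  decide +kernel

theorem triList_forall (P : Fin 8 × Fin 8 × Fin 8 → Prop) (h0 : P (0, 1, 2))
    (hs : ∀ i t, P t → P (triGen i t.1, triGen i t.2.1, triGen i t.2.2)) : ∀ t ∈ triList, P t := by
  suffices h : ∀ (tab : List (Fin 4 × ℕ)) (L : List (Fin 8 × Fin 8 × Fin 8)), (∀ t ∈ L, P t) →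
      ∀ t ∈ tab.foldl (fun L e =>
        let t := L.getD e.2 (0, 1, 2)
        L ++ [(triGen e.1 t.1, triGen e.1 t.2.1, triGen e.1 t.2.2)]) L, P t from
    h triTab _ (by simpa using h0)
  intro tab
  induction tab with
  | nil => exact fun L hL => hL
  | cons e tab ih =>
    intro L hL
    refine ih _ fun t ht => ?_
    rcases List.mem_append.1 ht with ht | ht
    · exact hL t ht
    · rw [List.mem_singleton.1 ht]
      refine hs _ _ ?_
      rcases lt_or_ge e.2 L.length with hlt | hge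
      · rw [List.getD_eq_getElem L _ hlt]; exact hL _ (List.getElem_mem hlt)
      · rw [List.getD_eq_default L _ hge]; exact h0

end Cfsg.Agent.Cent32
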