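import Cfsg.Agent.Cent32.AGL

/-!
Automorphisms of the model preserving all classes are inner; the transposition of the first two
points normalises the model.
-/

set_option autoImplicit false
set_option maxRecDepth 8000

namespace Cfsg.Agent.Cent32

/-- Four generators. -/
def vgen : List V := [1, V.mk' 144, V.mk' 64, V.mk' 45, V.mk' 62]

/-- Short words in the generators. -/
def vwords : List V :=
  vgen.flatMap fun a => vgen.flatMap fun b => vgen.flatMap fun c => vgen.map fun d => a * b * (c * d)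

theorem vwords_cover : ∀ x : V, ∃ p ∈ vwords, ∃ q ∈ vwords, p * q = x := by decide +kernel

theorem vgen_ty : V.ty (V.mk' 144) = 3 ∧ V.ty (V.mk' 64) = 4 ∧ V.ty (V.mk' 45) = 5 ∧ V.ty (V.mk' 62) = 6 := by
  decide +kernel

theorem inner_check : ∀ a : V, V.ty a = 3 → ∀ b : V, V.ty b = 4 →
    V.ty (a * b) = V.ty (V.mk' 144 * V.mk' 64) → ∀ c : V, V.ty c = 5 →
    V.ty (a * c) = V.ty (V.mk' 144 * V.mk' 45) → V.ty (b * c) = V.ty (V.mk' 64 * V.mk' 45) →
    ∀ d : V, V.ty d = 6 → V.ty (a * d) = V.ty (V.mk' 144 * V.mk' 62) →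
    V.ty (b * d) = V.ty (V.mk' 64 * V.mk' 62) → V.ty (c * d) = V.ty (V.mk' 45 * V.mk' 62) →
    ∃ v : V, v * V.mk' 144 * v⁻¹ = a ∧ v * V.mk' 64 * v⁻¹ = b ∧ v * V.mk' 45 * v⁻¹ = c ∧
      v * V.mk' 62 * v⁻¹ = d := by
  decide +kernel

theorem ty_or_one : ∀ x : V, V.ty x ≠ 0 ∨ x * x ≠ 1 ∨ x = 1 := by decide +kernel

/-- The transposition of the first two points. -/
def tau : Equiv.Perm (Fin 8) := Equiv.swap 0 1

theorem tau_check : ∀ v : V, ∃ w : V, ∀ x, V.act w x = tau (V.act v (tau x)) := by decide +kernel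

/-- Conjugation by the transposition on the model. -/
def sigmaIdx (v : V) : V :=
  match (List.range 192).find? (fun i => decide (∀ x, V.act (V.mk' i) x = tau (V.act v (tau x)))) with
  | some i => V.mk' i
  | none => 1

theorem sigma_spec : ∀ v : V, (∀ x, V.act (sigmaIdx v) x = tau (V.act v (tau x))) ∧
    (V.ty v = 2 → V.ty (sigmaIdx v) = 4) ∧ (V.ty v = 3 → V.ty (sigmaIdx v) = 3) ∧
    (V.ty v = 4 → V.ty (sigmaIdx v) = 2) ∧ (V.ty v = 5 → V.ty (sigmaIdx v) = 5) ∧
    (V.ty v = 6 → V.ty (sigmaIdx v) = 6) := by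
  decide +kernel

/-- Conjugation by the transposition as an endomorphism of the model. -/
def sigmaV : V →* V where
  toFun := sigmaIdx
  map_one' := V.perm_inj (Equiv.ext fun x => by
    show V.act (sigmaIdx 1) x = V.act 1 x
    rw [(sigma_spec 1).1, V.act_one, V.act_one]; exact Equiv.swap_apply_self _ _ x)
  map_mul' a b := V.perm_inj (Equiv.ext fun x => by
    show V.act (sigmaIdx (a * b)) x = V.act (sigmaIdx a * sigmaIdx b) x
    rw [(sigma_spec (a * b)).1, V.act_mul, V.act_mul, (sigma_spec b).1, (sigma_spec a).1]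
    simp [tau])

theorem sigmaV_z : sigmaV V.zV = V.zV := by decide +kernel

theorem sigmaV_sigmaV : ∀ v : V, sigmaV (sigmaV v) = v := by decide +kernel

end Cfsg.Agent.Cent32
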