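import Cfsg.Agent.Cent32.Classes
import Cfsg.Agent.Cent32.PairTab

/-!
The second affine group through the centralizer.
-/

set_option autoImplicit false
set_option maxRecDepth 8000

namespace Cfsg.Agent.Cent32

universe u

variable {G : Type u} [Group G] {z : G}

theorem alpha_b : ∃ v : V, V.ty v = 4 ∧ ∀ x, V.act V.bV x ^^^ dl (V.act V.bV) = V.act v x := by
  decide +kernel

theorem dl_tV : ∀ a : Fin 8, dl (V.act (tV a)) = 0 := by decide +kernel

/-- The involutions without fixed points, and only these, are fused with the translations. -/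
def AEmb.Good (A : AEmb z) : Prop :=
  ∀ x, V.ty x ≠ 0 → (IsConj z (A.toV.ι x) ↔ V.ty x ≠ 3 ∧ V.ty x ≠ 5)

theorem AEmb.conj_frame (A : AEmb z) {x y : V}
    (h : ∃ t, GoodT t ∧ ∀ p, affFun t (V.act x p) = V.act y (affFun t p)) :
    IsConj (A.toV.ι x) (A.toV.ι y) := by
  obtain ⟨t, ht, hp⟩ := h
  obtain ⟨π, hπ⟩ := exists_aff ht
  refine isConj_iff.2 ⟨A.ι π, ?_⟩
  show A.ι π * A.ι (pA x) * (A.ι π)⁻¹ = A.ι (pA y)
  rw [← map_mul, ← map_inv, ← map_mul]
  congr 1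
  rw [mul_inv_eq_iff_eq_mul]
  refine Subtype.ext (Equiv.ext fun p => ?_)
  show (π : Equiv.Perm (Fin 8)) (V.act x p) = V.act y ((π : Equiv.Perm (Fin 8)) p)
  rw [hπ, hπ, hp]

/-- Conjugation of an embedding by an element of the centralizer. -/
noncomputable def AEmb.conjBy (A : AEmb z) (v : V) : AEmb z where
  ι := (MulAut.conj (A.toV.ι v)⁻¹).toMonoidHom.comp A.ι
  inj := (MulAut.conj (A.toV.ι v)⁻¹).injective.comp A.inj
  ι_z := by
    show (A.toV.ι v)⁻¹ * A.ι zA * (A.toV.ι v)⁻¹⁻¹ = z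
    rw [A.ι_z, inv_inv, mul_assoc, ← A.toV.comm v, inv_mul_cancel_left]
  cent x hx := by
    obtain ⟨w, hw⟩ := A.cent x hx
    refine ⟨v * w * v⁻¹, ?_⟩
    show (A.toV.ι v)⁻¹ * A.toV.ι (v * w * v⁻¹) * (A.toV.ι v)⁻¹⁻¹ = x
    rw [map_mul, map_mul, map_inv, show A.toV.ι w = x from hw]
    group

/-- Two affine groups through the centralizer, interchanged by a transposition. -/
structure Two (z : G) where
  /-- The first group. -/
  A : AEmb z
  /-- The second group. -/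
  B : AEmb z
  good : A.Good
  agree : ∀ v, B.ι (pA (sigmaV v)) = A.ι (pA v)

variable [Finite G]

theorem AEmb.Good.exists_two {A : AEmb z} (hA : A.Good) : Nonempty (Two z) := by
  classical
  set h := A.toV
  have h47 : IsConj z (h.ι (V.mk' 47)) := (hA _ (by rw [V.ty_rep.2.2.2.1]; norm_num)).2
    (by rw [V.ty_rep.2.2.2.1]; norm_num)
  obtain ⟨g, hg⟩ := isConj_iff.1 h47.symm
  obtain ⟨y, hy2, hy4, hye, f, hf⟩ := h.exists_cycle (by rw [V.ty_rep.2.2.2.1]; norm_num)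
    (by rw [V.ty_rep.2.2.2.1]) hg
  have hz2 := Invol.mul_self_eq_one h.hz
  have hy : V.ty y = 4 := by
    have hne3 : V.ty y ≠ 3 := ((hA y (by omega)).1 (isConj_iff.2 ⟨g, hye.symm⟩)).1
    by_contra hne
    have hy2' : V.ty y = 2 := by omega
    obtain ⟨c, hc⟩ := ty_class y V.aV (hy2'.trans V.ty_rep.2.1.symm) (by omega)
    -- a cycle on the translations
    obtain ⟨π, hπ⟩ := exists_aff (t := (0, 2, 3, 4)) (by decide)
    have hπ1 : π * zA * π⁻¹ = pA V.aV := by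
      rw [mul_inv_eq_iff_eq_mul]
      refine Subtype.ext (Equiv.ext fun p => ?_)
      show (π : Equiv.Perm (Fin 8)) (V.act V.zV p) = V.act V.aV ((π : Equiv.Perm (Fin 8)) p)
      rw [hπ, hπ]
      revert p; decide +kernel
    have hπ2 : π * pA V.aV * π⁻¹ = pA (V.aV * V.zV) := by
      rw [mul_inv_eq_iff_eq_mul]
      refine Subtype.ext (Equiv.ext fun p => ?_)
      show (π : Equiv.Perm (Fin 8)) (V.act V.aV p) = V.act (V.aV * V.zV) ((π : Equiv.Perm (Fin 8)) p)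
      rw [hπ, hπ]
      revert p; decide +kernel
    have f1 : A.ι π * z * (A.ι π)⁻¹ = h.ι V.aV := by
      have := congrArg A.ι hπ1
      rwa [map_mul, map_mul, map_inv, A.ι_z] at this
    have f2 : A.ι π * h.ι V.aV * (A.ι π)⁻¹ = h.ι V.aV * z := by
      have := congrArg A.ι hπ2
      rw [map_mul, map_mul, map_inv, map_mul pA, map_mul A.ι] at this
      rwa [show A.ι (pA V.zV) = z from A.ι_z] at this
    set f := A.ι π
    set g1 := h.ι c * g
    have g11 : g1 * h.ι (V.mk' 47) * g1⁻¹ = z := by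
      rw [show g1 * h.ι (V.mk' 47) * g1⁻¹ = h.ι c * (g * h.ι (V.mk' 47) * g⁻¹) * (h.ι c)⁻¹ by
        simp only [g1]; group, hg, h.comm c, mul_inv_cancel_right]
    have g12 : g1 * z * g1⁻¹ = h.ι V.aV := by
      rw [show g1 * z * g1⁻¹ = h.ι c * (g * z * g⁻¹) * (h.ι c)⁻¹ by simp only [g1]; group, ← hye, ← hc,
        map_mul, map_mul, map_inv]
    have haz : f * (h.ι V.aV * z) * f⁻¹ = z := by
      rw [show f * (h.ι V.aV * z) * f⁻¹ = (f * h.ι V.aV * f⁻¹) * (f * z * f⁻¹) by group, f1, f2,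
        mul_assoc, ← h.comm V.aV, ← mul_assoc, h.sq_one (by rw [V.ty_rep.2.1]; norm_num), one_mul]
    have k1 : f * (f * g1) * z * (f * (f * g1))⁻¹ = z := by
      rw [show f * (f * g1) * z * (f * (f * g1))⁻¹ = f * (f * (g1 * z * g1⁻¹) * f⁻¹) * f⁻¹ by group,
        g12, f2, haz]
    have k2 : f * (f * g1) * h.ι (V.mk' 47) * (f * (f * g1))⁻¹ = h.ι V.aV * z := by
      rw [show f * (f * g1) * h.ι (V.mk' 47) * (f * (f * g1))⁻¹ =
        f * (f * (g1 * h.ι (V.mk' 47) * g1⁻¹) * f⁻¹) * f⁻¹ by group, g11, f1, f2]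
    obtain ⟨d, hd⟩ := h.mem_range (mul_inv_eq_iff_eq_mul.1 k1)
    have : d * V.mk' 47 * d⁻¹ = V.aV * V.zV := h.inj (by
      rw [map_mul, map_mul, map_inv, hd, map_mul, h.ι_z, k2])
    have hty := congrArg V.ty this
    rw [ty_conj, V.ty_rep.2.2.2.1, V.ty_rep.2.2.2.2.2.2.1] at hty
    omega
  obtain ⟨θ, hb, hθz, hθ2, f', hf'⟩ := h.exists_norm hy2 hy4 hf
  obtain ⟨B0, hB0⟩ := (h.comp θ hb hθz).exists_split hf'
  have hlift : ∀ (B : AEmb z), ∃ ψ : V →* V, Function.Bijective ψ ∧ ∀ x, h.ι (ψ x) = B.toV.ι x := by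
    intro B
    choose ψ hψ using fun x => h.mem_range (B.toV.comm x)
    refine ⟨{ toFun := ψ
              map_one' := h.inj (by rw [hψ, map_one, map_one])
              map_mul' := fun a b => h.inj (by rw [hψ, map_mul h.ι, hψ, hψ, map_mul]) }, ?_, hψ⟩
    have hinj : Function.Injective ψ := fun a b e => B.toV.inj (by rw [← hψ, ← hψ, e])
    exact ⟨hinj, Finite.surjective_of_injective hinj⟩
  have hclass : ∀ (ψ : V →* V), Function.Bijective ψ → ∀ x w, V.ty x = V.ty w → V.ty x ≠ 0 →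
      V.ty (ψ x) = V.ty (ψ w) := by
    intro ψ _ x w e h0
    obtain ⟨c, rfl⟩ := ty_class x w e h0
    rw [map_mul, map_mul, map_inv, ty_conj]
  have hsep : ∀ (ψ : V →* V), Function.Bijective ψ → ∀ x w, V.ty x ≠ 0 → V.ty (ψ x) = V.ty (ψ w) →
      V.ty x = V.ty w := by
    intro ψ hb x w h0 e
    have hx1 := (V.ty_spec x).1.1 h0
    obtain ⟨c, hc⟩ := ty_class (ψ x) (ψ w) e ((V.ty_spec _).1.2
      ⟨by rw [← map_mul, hx1.1, map_one], fun e => hx1.2 (hb.1 (by rw [e, map_one]))⟩)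
    obtain ⟨c', rfl⟩ := hb.2 c
    rw [← map_inv, ← map_mul, ← map_mul] at hc
    rw [← hb.1 hc, ty_conj]
  have hne0 : ∀ (ψ : V →* V), Function.Bijective ψ → ∀ x, V.ty x ≠ 0 → V.ty (ψ x) ≠ 0 := by
    intro ψ hb x h0
    have hx1 := (V.ty_spec x).1.1 h0
    exact (V.ty_spec _).1.2 ⟨by rw [← map_mul, hx1.1, map_one], fun e => hx1.2 (hb.1 (by rw [e, map_one]))⟩
  have hsmall : ∀ (ψ : V →* V), Function.Bijective ψ → ψ V.zV = V.zV → ∀ x, V.ty x ≠ 0 →
      (V.ty (ψ x) ≤ 4 ↔ V.ty x ≤ 4) := by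
    intro ψ hb hz x h0
    by_cases hxz : x = V.zV
    · rw [hxz, hz]
    rw [← ty_cent32 _ (hne0 ψ hb x h0) (fun e => hxz (hb.1 (e.trans hz.symm))), ← ty_cent32 x h0 hxz]
    have : (Finset.univ.filter fun y : V => y * ψ x = ψ x * y).card =
        (Finset.univ.filter fun y : V => y * x = x * y).card := by
      rw [← Finset.card_image_of_injective (Finset.univ.filter fun y : V => y * x = x * y) hb.1]
      congr 1
      ext y
      obtain ⟨y, rfl⟩ := hb.2 y
      simp only [Finset.mem_filter, Finset.mem_univ, true_and, Finset.mem_image, ← map_mul, hb.1.eq_iff,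
        exists_eq_right]
    rw [this]
  -- the second group, with `b` going to `b`
  obtain ⟨B, ψ, hψb, hψ, hψ2, hψ3⟩ : ∃ (B : AEmb z) (ψ : V →* V), Function.Bijective ψ ∧
      (∀ x, h.ι (ψ x) = B.toV.ι x) ∧ V.ty (ψ V.aV) = 4 ∧ V.ty (ψ V.bV) = 3 := by
    obtain ⟨ψ, hψb, hψ⟩ := hlift B0
    have hψ2 : V.ty (ψ V.aV) = 4 := by
      have e : ψ V.aV = θ V.aV := h.inj (by
        rw [hψ, ← tV_spec.2.2.1]
        exact hB0 2)
      rw [e, hθ2 _ V.ty_rep.2.1, hy]
    have hψz : ψ V.zV = V.zV := h.inj (by rw [hψ, h.ι_z, B0.toV.ι_z])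
    have h3 := V.ty_rep.2.2.1
    have h4 := (hsmall ψ hψb hψz _ (by omega : V.ty V.bV ≠ 0)).2 (by omega)
    have h0 := hne0 ψ hψb _ (by omega : V.ty V.bV ≠ 0)
    have hn4 : V.ty (ψ V.bV) ≠ 4 := fun e => by
      have := hsep ψ hψb V.bV V.aV (by omega) (e.trans hψ2.symm)
      rw [h3, V.ty_rep.2.1] at this
      omega
    have hn1 : V.ty (ψ V.bV) ≠ 1 := fun e => by
      have := hψb.1 (((V.ty_spec _).2.2 e).trans hψz.symm)
      rw [this, V.ty_rep.1] at h3
      omega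
    by_cases hb3 : V.ty (ψ V.bV) = 3
    · exact ⟨B0, ψ, hψb, hψ, hψ2, hb3⟩
    obtain ⟨v1, hv1, hv1e⟩ := alpha_b
    obtain ⟨ψ', hψ'b, hψ'⟩ := hlift B0.twist
    have ea : ψ' V.aV = ψ V.aV := h.inj (by
      rw [hψ', hψ]
      show B0.ι (alpha (pA V.aV)) = B0.ι (pA V.aV)
      congr 1
      refine Subtype.ext (Equiv.ext fun p => (alpha_apply _ p).trans ?_)
      show V.act V.aV p ^^^ dl (V.act V.aV) = _
      rw [← tV_spec.2.2.1, dl_tV, (x8 (V.act (tV 2) p) 0 0).2.1]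
      rfl)
    have eb : ψ' V.bV = ψ v1 := h.inj (by
      rw [hψ', hψ]
      show B0.ι (alpha (pA V.bV)) = B0.ι (pA v1)
      congr 1
      exact Subtype.ext (Equiv.ext fun p => (alpha_apply _ p).trans (hv1e p)))
    refine ⟨B0.twist, ψ', hψ'b, hψ', by rw [ea]; exact hψ2, ?_⟩
    rw [eb]
    have h40 : V.ty v1 ≠ 0 := by omega
    have h44 := (hsmall ψ hψb hψz v1 h40).2 (by omega)
    have h4n : V.ty (ψ v1) ≠ 4 := fun e => by
      have := hsep ψ hψb v1 V.aV h40 (e.trans hψ2.symm)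
      rw [hv1, V.ty_rep.2.1] at this
      omega
    have h41 : V.ty (ψ v1) ≠ 1 := fun e => by
      have := hψb.1 (((V.ty_spec _).2.2 e).trans hψz.symm)
      rw [this, V.ty_rep.1] at hv1
      omega
    have h42 : V.ty (ψ v1) ≠ 2 := fun e => by
      have := hsep ψ hψb v1 V.bV h40 (e.trans (by omega : V.ty (ψ V.bV) = 2).symm)
      rw [hv1, h3] at this
      omega
    have := hne0 ψ hψb v1 h40
    omega
  have hψz : ψ V.zV = V.zV := h.inj (by rw [hψ, h.ι_z, B.toV.ι_z])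
  set φ := ψ.comp sigmaV
  obtain ⟨g3, g4, g5, g6⟩ := vgen_ty
  have t2 : ∀ x, V.ty x = 2 → V.ty (ψ x) = 4 := fun x hx =>
    (hclass ψ hψb x V.aV (hx.trans V.ty_rep.2.1.symm) (by omega)).trans hψ2
  have t3 : ∀ x, V.ty x = 3 → V.ty (ψ x) = 3 := fun x hx =>
    (hclass ψ hψb x V.bV (hx.trans V.ty_rep.2.2.1.symm) (by omega)).trans hψ3
  have t4 : ∀ x, V.ty x = 4 → V.ty (ψ x) = 2 := fun x hx => by
    have h1 := (hsmall ψ hψb hψz x (by omega)).2 (by omega)
    have h0 := hne0 ψ hψb x (by omega)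
    have n1 : V.ty (ψ x) ≠ 1 := fun e => by
      have := hψb.1 (((V.ty_spec _).2.2 e).trans hψz.symm)
      rw [this, V.ty_rep.1] at hx; omega
    have n3 : V.ty (ψ x) ≠ 3 := fun e => by
      have := hsep ψ hψb x V.bV (by omega) (e.trans hψ3.symm)
      rw [hx, V.ty_rep.2.2.1] at this; omega
    have n4 : V.ty (ψ x) ≠ 4 := fun e => by
      have := hsep ψ hψb x V.aV (by omega) (e.trans hψ2.symm)
      rw [hx, V.ty_rep.2.1] at this; omega
    omega
  have tc : V.ty (ψ V.cV) = 5 := by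
    have hc5 := V.ty_rep.2.2.2.2.1
    have h1 : ¬ V.ty (ψ V.cV) ≤ 4 := fun e => by
      have := (hsmall ψ hψb hψz V.cV (by omega)).1 e; omega
    have h6 := (V.ty_spec (ψ V.cV)).2.1
    have hconj : IsConj (h.ι (ψ V.bV)) (h.ι (ψ V.cV)) := by
      rw [hψ, hψ]; exact B.conj_frame V_fusion.1
    have hnz : ¬ IsConj z (h.ι (ψ V.cV)) := fun hc => by
      have := ((hA _ (by omega)).1 (hc.trans hconj.symm)).1
      exact this hψ3
    by_contra hne
    exact hnz ((hA _ (by omega)).2 ⟨by omega, hne⟩)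
  have t5 : ∀ x, V.ty x = 5 → V.ty (ψ x) = 5 := fun x hx =>
    (hclass ψ hψb x V.cV (hx.trans V.ty_rep.2.2.2.2.1.symm) (by omega)).trans tc
  have t6 : ∀ x, V.ty x = 6 → V.ty (ψ x) = 6 := fun x hx => by
    have h1 : ¬ V.ty (ψ x) ≤ 4 := fun e => by
      have := (hsmall ψ hψb hψz x (by omega)).1 e; omega
    have h6 := (V.ty_spec (ψ x)).2.1
    have n5 : V.ty (ψ x) ≠ 5 := fun e => by
      have := hsep ψ hψb x V.cV (by omega) (e.trans tc.symm)
      rw [hx, V.ty_rep.2.2.2.2.1] at this; omega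
    omega
  have hφty : ∀ x, V.ty x ≠ 0 → V.ty (φ x) = V.ty x := by
    intro x h0
    obtain ⟨-, s2, s3, s4, s5, s6⟩ := sigma_spec x
    have hle := (V.ty_spec x).2.1
    show V.ty (ψ (sigmaIdx x)) = _
    have h7 : V.ty x = 1 ∨ V.ty x = 2 ∨ V.ty x = 3 ∨ V.ty x = 4 ∨ V.ty x = 5 ∨ V.ty x = 6 := by omega
    rcases h7 with e | e | e | e | e | e
    · rw [(V.ty_spec x).2.2 e, show sigmaIdx V.zV = V.zV from sigmaV_z, hψz]
    · rw [t4 _ (s2 e), e]
    · rw [t3 _ (s3 e), e]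
    · rw [t2 _ (s4 e), e]
    · rw [t5 _ (s5 e), e]
    · rw [t6 _ (s6 e), e]
  have hφinj : Function.Injective φ := hψb.1.comp (fun a b e => by
    rw [← sigmaV_sigmaV a, e, sigmaV_sigmaV])
  have hall : ∀ x, V.ty (φ x) = V.ty x := fun x => by
    by_cases h0 : V.ty x = 0
    · by_contra hne
      have hs := (V.ty_spec (φ x)).1.1 (by omega)
      refine (V.ty_spec x).1.2 ⟨hφinj (by rw [map_mul, hs.1, map_one]), fun e => hs.2 (by rw [e, map_one])⟩ h0
    · exact hφty x h0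
  obtain ⟨v, v1, v2, v3, v4⟩ := inner_check (φ (V.mk' 144)) (by rw [hall, g3]) (φ (V.mk' 64)) (by rw [hall, g4])
    (by rw [← map_mul, hall]) (φ (V.mk' 45)) (by rw [hall, g5]) (by rw [← map_mul, hall])
    (by rw [← map_mul, hall]) (φ (V.mk' 62)) (by rw [hall, g6]) (by rw [← map_mul, hall])
    (by rw [← map_mul, hall]) (by rw [← map_mul, hall])
  have hinner : ∀ x, φ x = v * x * v⁻¹ := by
    let H : Subgroup V := MonoidHom.eqLocus φ (MulAut.conj v).toMonoidHom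
    have hw : ∀ p ∈ vwords, p ∈ H := by
      have hg : ∀ a ∈ vgen, a ∈ H := by
        intro a ha
        simp only [vgen, List.mem_cons, List.not_mem_nil, or_false] at ha
        rcases ha with rfl | rfl | rfl | rfl | rfl
        · exact one_mem H
        · exact v1.symm
        · exact v2.symm
        · exact v3.symm
        · exact v4.symm
      intro p hp
      simp only [vwords, List.mem_flatMap, List.mem_map] at hp
      obtain ⟨a, ha, b, hb, c, hc, d, hd, rfl⟩ := hp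
      exact mul_mem (mul_mem (hg a ha) (hg b hb)) (mul_mem (hg c hc) (hg d hd))
    intro x
    obtain ⟨p, hp, q, hq, rfl⟩ := vwords_cover x
    exact mul_mem (hw p hp) (hw q hq)
  -- conjugate back
  obtain ⟨u, hu⟩ := B.cent (h.ι v) (h.comm v)
  refine ⟨⟨A, B.conjBy u, hA, fun x => ?_⟩⟩
  have hu' : B.toV.ι u = h.ι v := hu
  show (B.toV.ι u)⁻¹ * B.toV.ι (sigmaV x) * (B.toV.ι u)⁻¹⁻¹ = h.ι x
  rw [hu', ← hψ, show ψ (sigmaV x) = v * x * v⁻¹ from hinner x, map_mul, map_mul, map_inv]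
  group

/-- The conclusion of the analysis of fusion. -/
theorem exists_two (h : VEmb z) {v : V} (hv2 : 2 ≤ V.ty v) (hv4 : V.ty v ≤ 4) (hv : IsConj z (h.ι v)) :
    (∃ (N : Subgroup G) (hN : N.Normal), IsMulCommutative N ∧ (∀ n ∈ N, n ^ 2 = 1) ∧ Nat.card N = 8 ∧
        Nonempty (G ⧸ N ≃* Matrix.ProjectiveSpecialLinearGroup (Fin 3) (ZMod 2))) ∨ Nonempty (Two z) := by
  rcases exists_good h hv2 hv4 hv with hN | ⟨A, hA⟩
  · exact Or.inl hN
  · exact Or.inr (AEmb.Good.exists_two hA)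

end Cfsg.Agent.Cent32
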