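import Mathlib

/-!
The abstract group with two quaternion factors acted on by a symmetric group of degree three, and
homomorphisms out of it given by four generators.
-/

set_option autoImplicit false
set_option maxRecDepth 8000

namespace Cfsg.Agent.Cent32

open QuaternionGroup

/-- The quaternion group of order eight. -/
abbrev Q8 := QuaternionGroup 2

variable {K : Type*} [Group K]

/-- The relations of the quaternion group. -/
structure QRel (i j : K) : Prop where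
  pow : i ^ 4 = 1
  sq : j * j = i * i
  inv : j * i * j⁻¹ = i⁻¹

/-- The map given by two generators. -/
def qfun (i j : K) : Q8 → K
  | a k => i ^ k.val
  | xa k => j * i ^ k.val

theorem qfun_mul {i j : K} (h : QRel i j) (u v : Q8) : qfun i j (u * v) = qfun i j u * qfun i j v := by
  have hmod : ∀ n : ℕ, i ^ n = i ^ (n % 4) := pow_mod_of_pow
  have hflip : ∀ n : ℕ, i ^ n * j = j * i ^ (3 * n) := by
    intro n
    induction n with
    | zero => simp
    | succ k ih =>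
      have h1 : i * j = j * i ^ 3 := by
        have h3 : i ^ 3 = i⁻¹ := eq_inv_of_mul_eq_one_left (by rw [← pow_succ, h.pow])
        have h2 : j * (j * i * j⁻¹) * j⁻¹ = i := by
          calc j * (j * i * j⁻¹) * j⁻¹ = (j * j) * i * (j * j)⁻¹ := by group
            _ = i := by rw [h.sq]; group
        calc i * j = (j * (j * i * j⁻¹) * j⁻¹) * j := by rw [h2]
          _ = j * i ^ 3 := by rw [h.inv, h3]; group
      rw [pow_succ, mul_assoc, h1, ← mul_assoc, ih, mul_assoc, ← pow_add]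
      ring_nf
  have hv : ∀ k : ZMod (2 * 2), (k.val : ℕ) < 4 := fun k => ZMod.val_lt k
  rcases u with k | k <;> rcases v with l | l <;>
    simp only [a_mul_a, a_mul_xa, xa_mul_a, xa_mul_xa, qfun]
  · rw [← pow_add, hmod (k.val + l.val), show (k + l).val = (k.val + l.val) % 4 from ZMod.val_add k l]
  · rw [← mul_assoc, hflip, mul_assoc, ← pow_add, hmod (3 * k.val + l.val)]
    congr 1
    refine congrArg (i ^ ·) ?_
    revert k l; decide
  · rw [mul_assoc, ← pow_add, hmod (k.val + l.val),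
      show (k + l).val = (k.val + l.val) % 4 from ZMod.val_add k l]
  · rw [mul_assoc, ← mul_assoc (i ^ k.val), hflip, ← mul_assoc, ← mul_assoc, h.sq, mul_assoc,
      ← pow_two i, ← pow_add, ← pow_add, hmod (2 + (3 * k.val + l.val))]
    refine congrArg (i ^ ·) ?_
    revert k l; decide
where
  pow_mod_of_pow (n : ℕ) : i ^ n = i ^ (n % 4) := pow_eq_pow_mod n h.pow

/-- The homomorphism given by two generators. -/
def qhom {i j : K} (h : QRel i j) : Q8 →* K where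
  toFun := qfun i j
  map_one' := by rw [QuaternionGroup.one_def]; simp [qfun]
  map_mul' := qfun_mul h

theorem qhom_a (i j : K) (h : QRel i j) : qhom h (a 1) = i := by
  show i ^ (1 : ZMod (2 * 2)).val = i
  rw [show (1 : ZMod (2 * 2)).val = 1 from rfl, pow_one]

theorem qhom_xa (i j : K) (h : QRel i j) : qhom h (xa 0) = j := by
  show j * i ^ (0 : ZMod (2 * 2)).val = j
  simp

theorem qhom_ext {f g : Q8 →* K} (h1 : f (a 1) = g (a 1)) (h2 : f (xa 0) = g (xa 0)) : f = g := by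
  have hgen : ∀ u : Q8, ∃ k : Fin 4, u = (a 1) ^ k.1 ∨ u = xa 0 * (a 1) ^ k.1 := by decide
  refine MonoidHom.ext fun u => ?_
  obtain ⟨k, rfl | rfl⟩ := hgen u
  · rw [map_pow, map_pow, h1]
  · rw [map_mul, map_mul, map_pow, map_pow, h1, h2]

/-- The automorphism of order three. -/
def qθ : Q8 ≃* Q8 where
  toFun := qfun (xa 0) ((a 1 * xa 0)⁻¹)
  invFun u := qfun (xa 0) ((a 1 * xa 0)⁻¹) (qfun (xa 0) ((a 1 * xa 0)⁻¹) u)
  left_inv := by decide
  right_inv := by decide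
  map_mul' := by decide

/-- An automorphism of order two inverting the one of order three. -/
def qτ : Q8 ≃* Q8 where
  toFun := qfun (a 3) (a 1 * xa 0)
  invFun := qfun (a 3) (a 1 * xa 0)
  left_inv := by decide
  right_inv := by decide
  map_mul' := by decide

/-- The two ways in which the involution acts on the factors. -/
def sigma (σ : Bool) (p : Q8 × Q8) : Q8 × Q8 := if σ then (qτ p.2, qτ p.1) else (qτ p.1, qτ p.2)

/-- The action of the symmetric group of degree three. -/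
def actFun (σ : Bool) : DihedralGroup 3 → Q8 × Q8 → Q8 × Q8
  | .r k, p => (qθ.toEquiv^[k.val] p.1, qθ.toEquiv^[k.val] p.2)
  | .sr k, p => sigma σ (qθ.toEquiv^[k.val] p.1, qθ.toEquiv^[k.val] p.2)

theorem actFun_spec : ∀ (σ : Bool) (g : DihedralGroup 3) (p q : Q8 × Q8),
    actFun σ g (p * q) = actFun σ g p * actFun σ g q := by decide +kernel

theorem actFun_comp : ∀ (σ : Bool) (g h : DihedralGroup 3) (p : Q8 × Q8),
    actFun σ (g * h) p = actFun σ g (actFun σ h p) ∧ actFun σ 1 p = p := by decide +kernel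

/-- The action as a homomorphism. -/
def actHom (σ : Bool) : DihedralGroup 3 →* MulAut (Q8 × Q8) where
  toFun g :=
    { toFun := actFun σ g
      invFun := actFun σ g⁻¹
      left_inv := fun p => by
        rw [← (actFun_comp σ g⁻¹ g p).1, inv_mul_cancel, (actFun_comp σ g g p).2]
      right_inv := fun p => by
        rw [← (actFun_comp σ g g⁻¹ p).1, mul_inv_cancel, (actFun_comp σ g g p).2]
      map_mul' := actFun_spec σ g }
  map_one' := MulEquiv.ext fun p => (actFun_comp σ 1 1 p).2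
  map_mul' g h := MulEquiv.ext fun p => (actFun_comp σ g h p).1

/-- The group of order 384. -/
abbrev Sd (σ : Bool) := (Q8 × Q8) ⋊[actHom σ] DihedralGroup 3

/-- The element generating the kernel of the maps onto the centralizers. -/
def kap (σ : Bool) : Sd σ := SemidirectProduct.inl (a 2, a 2)

/-- Generators of the normal subgroup of order 32 with the automorphism of order three. -/
structure Gens0 (i₁ i₂ x : K) : Prop where
  pow₁ : i₁ ^ 4 = 1
  pow₂ : i₂ ^ 4 = 1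
  sq₁ : x * i₁ * x⁻¹ * (x * i₁ * x⁻¹) = i₁ * i₁
  sq₂ : x * i₂ * x⁻¹ * (x * i₂ * x⁻¹) = i₂ * i₂
  inv₁ : x * i₁ * x⁻¹ * i₁ * (x * i₁ * x⁻¹)⁻¹ = i₁⁻¹
  inv₂ : x * i₂ * x⁻¹ * i₂ * (x * i₂ * x⁻¹)⁻¹ = i₂⁻¹
  cyc₁ : x * (x * i₁ * x⁻¹) * x⁻¹ = (i₁ * (x * i₁ * x⁻¹))⁻¹
  cyc₂ : x * (x * i₂ * x⁻¹) * x⁻¹ = (i₂ * (x * i₂ * x⁻¹))⁻¹
  comm : i₁ * i₂ = i₂ * i₁ ∧ i₁ * (x * i₂ * x⁻¹) = x * i₂ * x⁻¹ * i₁
  x3 : x ^ 3 = 1

/-- Generators of a group of the shape to be studied. -/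
structure Gens (σ : Bool) (i₁ i₂ x y : K) : Prop extends Gens0 i₁ i₂ x where
  yx : y * x * y⁻¹ = x⁻¹
  y₁ : y * i₁ * y⁻¹ = if σ then i₂⁻¹ else i₁⁻¹
  y₂ : y * i₂ * y⁻¹ = if σ then i₁⁻¹ else i₂⁻¹

namespace Gens0

variable {i₁ i₂ x : K} (h : Gens0 i₁ i₂ x)
include h

/-- The map on the first factor. -/
def h₁ : Q8 →* K := qhom ⟨h.pow₁, h.sq₁, h.inv₁⟩

/-- The map on the second factor. -/
def h₂ : Q8 →* K := qhom ⟨h.pow₂, h.sq₂, h.inv₂⟩

theorem h₁_a : h.h₁ (a 1) = i₁ := qhom_a ..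
theorem h₂_a : h.h₂ (a 1) = i₂ := qhom_a ..
theorem h₁_xa : h.h₁ (xa 0) = x * i₁ * x⁻¹ := qhom_xa ..
theorem h₂_xa : h.h₂ (xa 0) = x * i₂ * x⁻¹ := qhom_xa ..

theorem h12 (u v : Q8) : Commute (h.h₁ u) (h.h₂ v) := by
  have c1 : Commute i₁ i₂ := h.comm.1
  have c2 : Commute i₁ (x * i₂ * x⁻¹) := h.comm.2
  have c3 : Commute (x * i₁ * x⁻¹) (x * i₂ * x⁻¹) := c1.conj x
  have e : x * i₂ * x⁻¹ = (x * (x * i₂ * x⁻¹) * x⁻¹)⁻¹ * i₂⁻¹⁻¹ * 1 →
      True := fun _ => trivial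
  clear e
  have c4 : Commute (x * i₁ * x⁻¹) i₂ := by
    have e1 : Commute (x * i₁ * x⁻¹) (x * (x * i₂ * x⁻¹) * x⁻¹) := c2.conj x
    rw [h.cyc₂, mul_inv_rev] at e1
    have e2 : Commute (x * i₁ * x⁻¹) ((x * i₂ * x⁻¹)⁻¹ * i₂⁻¹) := e1
    have e3 := (c3.mul_right e2)
    rw [mul_inv_cancel_left] at e3
    exact Commute.inv_right_iff.1 e3
  have gen : ∀ w : Q8, ∃ k : Fin 4, w = (a 1) ^ k.1 ∨ w = xa 0 * (a 1) ^ k.1 := by decide
  obtain ⟨k, rfl | rfl⟩ := gen u <;> obtain ⟨l, rfl | rfl⟩ := gen v <;>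
    simp only [map_mul, map_pow, h.h₁_a, h.h₂_a, h.h₁_xa, h.h₂_xa]
  · exact c1.pow_pow _ _
  · exact (c2.pow_left _).mul_right (c1.pow_pow _ _)
  · exact (c4.pow_right _).mul_left (c1.pow_pow _ _)
  · exact ((c3.mul_right (c4.pow_right _))).mul_left (((c2.pow_left _).mul_right (c1.pow_pow _ _)))

/-- The map on the normal subgroup. -/
def hQ : Q8 × Q8 →* K := MonoidHom.noncommCoprod h.h₁ h.h₂ h.h12

theorem hQ_apply (u v : Q8) : h.hQ (u, v) = h.h₁ u * h.h₂ v := rfl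

theorem theta (p : Q8 × Q8) : x * h.hQ p * x⁻¹ = h.hQ (qθ p.1, qθ p.2) := by
  have e1 : (MulAut.conj x).toMonoidHom.comp h.h₁ = h.h₁.comp qθ.toMonoidHom := by
    refine qhom_ext ?_ ?_
    · show x * h.h₁ (a 1) * x⁻¹ = h.h₁ (qθ (a 1))
      rw [show qθ (a 1) = xa 0 by decide, h.h₁_a, h.h₁_xa]
    · show x * h.h₁ (xa 0) * x⁻¹ = h.h₁ (qθ (xa 0))
      rw [show qθ (xa 0) = (a 1 * xa 0)⁻¹ by decide, map_inv, map_mul, h.h₁_a, h.h₁_xa, h.cyc₁]
  have e2 : (MulAut.conj x).toMonoidHom.comp h.h₂ = h.h₂.comp qθ.toMonoidHom := by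
    refine qhom_ext ?_ ?_
    · show x * h.h₂ (a 1) * x⁻¹ = h.h₂ (qθ (a 1))
      rw [show qθ (a 1) = xa 0 by decide, h.h₂_a, h.h₂_xa]
    · show x * h.h₂ (xa 0) * x⁻¹ = h.h₂ (qθ (xa 0))
      rw [show qθ (xa 0) = (a 1 * xa 0)⁻¹ by decide, map_inv, map_mul, h.h₂_a, h.h₂_xa, h.cyc₂]
  obtain ⟨u, v⟩ := p
  rw [h.hQ_apply, h.hQ_apply, show x * (h.h₁ u * h.h₂ v) * x⁻¹ =
    (x * h.h₁ u * x⁻¹) * (x * h.h₂ v * x⁻¹) by group]
  exact congrArg₂ (· * ·) (DFunLike.congr_fun e1 u) (DFunLike.congr_fun e2 v)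

end Gens0

namespace Gens

variable {σ : Bool} {i₁ i₂ x y : K} (h : Gens σ i₁ i₂ x y)
include h

/-- The map on the complement. -/
def hD (hy2 : y * y = 1) : DihedralGroup 3 →* K where
  toFun
    | .r k => x ^ k.val
    | .sr k => y * x ^ k.val
  map_one' := by rw [DihedralGroup.one_def]; simp
  map_mul' u v := by
    have hm : ∀ n : ℕ, x ^ n = x ^ (n % 3) := fun n => pow_eq_pow_mod n h.x3
    have hy : y⁻¹ = y := inv_eq_of_mul_eq_one_right hy2
    have hflip : ∀ n : ℕ, x ^ n * y = y * x ^ (2 * n) := by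
      intro n
      have e : y * x ^ n * y⁻¹ = (x ^ n)⁻¹ := by rw [← conj_pow, h.yx, inv_pow]
      have e2 : x ^ (2 * n) = (x ^ n)⁻¹ := eq_inv_of_mul_eq_one_left (by
        rw [← pow_add, show 2 * n + n = 3 * n by ring, pow_mul, h.x3, one_pow])
      rw [e2, ← e, hy, ← mul_assoc, ← mul_assoc, hy2, one_mul]
    rcases u with k | k <;> rcases v with l | l <;>
      simp only [DihedralGroup.r_mul_r, DihedralGroup.r_mul_sr, DihedralGroup.sr_mul_r,
        DihedralGroup.sr_mul_sr]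
    · rw [← pow_add, hm (k.val + l.val), ZMod.val_add]
    · rw [← mul_assoc, hflip, mul_assoc, ← pow_add, hm (2 * k.val + l.val)]
      congr 1
      refine congrArg (x ^ ·) ?_
      revert k l; decide
    · rw [mul_assoc, ← pow_add, hm (k.val + l.val), ZMod.val_add]
    · rw [mul_assoc, ← mul_assoc (x ^ k.val), hflip, ← mul_assoc, ← mul_assoc, hy2, one_mul,
        ← pow_add, hm (2 * k.val + l.val)]
      refine congrArg (x ^ ·) ?_
      revert k l; decide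

theorem tau (p : Q8 × Q8) : y * h.hQ p * y⁻¹ = h.hQ (sigma σ p) := by
  obtain ⟨u, v⟩ := p
  have hxa : ∀ i : K, y * (x * i * x⁻¹) * y⁻¹ = x⁻¹ * (y * i * y⁻¹) * x := by
    intro i
    rw [show y * (x * i * x⁻¹) * y⁻¹ = (y * x * y⁻¹) * (y * i * y⁻¹) * (y * x * y⁻¹)⁻¹ by group, h.yx,
      inv_inv]
  have hθ : ∀ (f : Q8 →* K) (i : K), f (a 1) = i → f (xa 0) = x * i * x⁻¹ →
      x * (x * i * x⁻¹) * x⁻¹ = (i * (x * i * x⁻¹))⁻¹ → x⁻¹ * i⁻¹ * x = f (qτ (xa 0)) := by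
    intro f i f1 f2 f3
    rw [show qτ (xa 0) = a 1 * xa 0 by decide, map_mul, f1, f2]
    have e : i * (x * i * x⁻¹) = (x * (x * i * x⁻¹) * x⁻¹)⁻¹ := by rw [f3, inv_inv]
    have hx2 : x⁻¹ = x * x := inv_eq_of_mul_eq_one_right (by rw [← mul_assoc, ← pow_three', h.x3])
    have hx2' : (x * x)⁻¹ = x := by rw [← hx2, inv_inv]
    rw [e]
    calc x⁻¹ * i⁻¹ * x = x * x * i⁻¹ * (x * x)⁻¹ := by rw [hx2', hx2]
      _ = (x * (x * i * x⁻¹) * x⁻¹)⁻¹ := by simp only [mul_inv_rev, inv_inv, mul_assoc]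
  have key : ∀ (f g : Q8 →* K) (i i' : K), f (a 1) = i → f (xa 0) = x * i * x⁻¹ → g (a 1) = i' →
      g (xa 0) = x * i' * x⁻¹ → x * (x * i' * x⁻¹) * x⁻¹ = (i' * (x * i' * x⁻¹))⁻¹ →
      y * i * y⁻¹ = i'⁻¹ → ∀ w, y * f w * y⁻¹ = g (qτ w) := by
    intro f g i i' f1 f2 g1 g2 g3 hyi
    have e : (MulAut.conj y).toMonoidHom.comp f = g.comp qτ.toMonoidHom := by
      refine qhom_ext ?_ ?_
      · show y * f (a 1) * y⁻¹ = g (qτ (a 1))
        rw [f1, hyi, show qτ (a 1) = (a 1)⁻¹ by decide, map_inv, g1]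
      · show y * f (xa 0) * y⁻¹ = g (qτ (xa 0))
        rw [f2, hxa, hyi]
        exact hθ g i' g1 g2 g3
    exact fun w => DFunLike.congr_fun e w
  rw [h.hQ_apply, show y * (h.h₁ u * h.h₂ v) * y⁻¹ = (y * h.h₁ u * y⁻¹) * (y * h.h₂ v * y⁻¹) by group]
  cases σ
  · rw [key _ _ _ _ h.h₁_a h.h₁_xa h.h₁_a h.h₁_xa h.cyc₁ (by simpa using h.y₁) u,
      key _ _ _ _ h.h₂_a h.h₂_xa h.h₂_a h.h₂_xa h.cyc₂ (by simpa using h.y₂) v]
    rfl
  · rw [key _ _ _ _ h.h₁_a h.h₁_xa h.h₂_a h.h₂_xa h.cyc₂ (by simpa using h.y₁) u,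
      key _ _ _ _ h.h₂_a h.h₂_xa h.h₁_a h.h₁_xa h.cyc₁ (by simpa using h.y₂) v, (h.h12 _ _).eq.symm]
    rfl

/-- The homomorphism given by the generators. -/
def hom (hy2 : y * y = 1) : Sd σ →* K :=
  SemidirectProduct.lift h.hQ (h.hD hy2) fun g => MonoidHom.ext fun p => by
    show h.hQ (actFun σ g p) = h.hD hy2 g * h.hQ p * (h.hD hy2 g)⁻¹
    have hpow : ∀ (n : ℕ) (p : Q8 × Q8),
        x ^ n * h.hQ p * (x ^ n)⁻¹ = h.hQ (qθ.toEquiv^[n] p.1, qθ.toEquiv^[n] p.2) := by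
      intro n
      induction n with
      | zero => intro p; simp
      | succ k ih =>
        intro p
        rw [Function.iterate_succ_apply', Function.iterate_succ_apply', pow_succ',
          show x * x ^ k * h.hQ p * (x * x ^ k)⁻¹ = x * (x ^ k * h.hQ p * (x ^ k)⁻¹) * x⁻¹ by group,
          ih p, h.theta]
        rfl
    rcases g with k | k
    · exact (hpow k.val p).symm
    · show _ = y * x ^ k.val * h.hQ p * (y * x ^ k.val)⁻¹
      rw [show y * x ^ k.val * h.hQ p * (y * x ^ k.val)⁻¹ =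
        y * (x ^ k.val * h.hQ p * (x ^ k.val)⁻¹) * y⁻¹ by group, hpow, h.tau]
      rfl

theorem hom_x (hy2 : y * y = 1) : h.hom hy2 (SemidirectProduct.inr (DihedralGroup.r 1)) = x := by
  rw [hom, SemidirectProduct.lift_inr]
  show x ^ (1 : ZMod 3).val = x
  rw [show (1 : ZMod 3).val = 1 from rfl, pow_one]

theorem hom_y (hy2 : y * y = 1) : h.hom hy2 (SemidirectProduct.inr (DihedralGroup.sr 0)) = y := by
  rw [hom, SemidirectProduct.lift_inr]
  show y * x ^ (0 : ZMod 3).val = y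
  simp

theorem hom_inl (hy2 : y * y = 1) (u v : Q8) : h.hom hy2 (SemidirectProduct.inl (u, v)) = h.h₁ u * h.h₂ v := by
  rw [hom, SemidirectProduct.lift_inl, h.hQ_apply]

end Gens

end Cfsg.Agent.Cent32
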