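import Cfsg.Agent.Cent32.Pair
import Cfsg.Agent.Cent32.PlanesTab

/-!
The element of order three acting as a three-cycle.
-/

set_option autoImplicit false
set_option maxRecDepth 8000

namespace Cfsg.Agent.Cent32

universe u

variable {G : Type u} [Group G] {z : G}

namespace VEmb

/-- An element of order dividing three, centralising the four-group of one plane and acting on that of
the other as a three-cycle. -/
structure IsX (h : VEmb z) (y : G) : Prop where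
  hB : y * h.ι V.dB * y⁻¹ = h.ι V.dB
  hC : y * h.ι V.dC * y⁻¹ = h.ι V.dC
  h1 : y * h.ι V.u1 * y⁻¹ = h.ι V.u3
  h2 : y * h.ι V.u2 * y⁻¹ = h.ι V.u1
  cube : y ^ 3 = 1

variable (h : VEmb z)
include h

theorem conj_mul {y : G} {a b a' b' : V} (e1 : y * h.ι a * y⁻¹ = h.ι a') (e2 : y * h.ι b * y⁻¹ = h.ι b') :
    y * h.ι (a * b) * y⁻¹ = h.ι (a' * b') := by
  rw [map_mul, map_mul, ← e1, ← e2]; group

theorem IsX.h3 {y : G} (hy : h.IsX y) : y * h.ι V.u3 * y⁻¹ = h.ι V.u2 := by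
  have := h.conj_mul hy.h1 hy.h2
  rwa [V.plane_mul.2.2.2.1, show V.u3 * V.u1 = V.u2 by decide +kernel] at this

theorem IsX.flip {y : G} (hy : h.IsX y) {u v : V} (e : y * h.ι u * y⁻¹ = h.ι v) :
    h.ι v * y = y * h.ι u := (mul_inv_eq_iff_eq_mul.1 e).symm

theorem IsX.mul_u {y : G} (hy : h.IsX y) {u : V} (hu : u = 1 ∨ u = V.u1 ∨ u = V.u2 ∨ u = V.u3) :
    h.IsX (y * h.ι u) := by
  obtain ⟨a, b, c, hu', hsum⟩ : ∃ a b c : V, (u * V.dB * u⁻¹ = V.dB ∧ u * V.dC * u⁻¹ = V.dC ∧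
      u * V.u1 * u⁻¹ = V.u1 ∧ u * V.u2 * u⁻¹ = V.u2) ∧ y * h.ι u * y⁻¹ = h.ι a ∧
      y * h.ι a * y⁻¹ = h.ι b ∧ y * h.ι b * y⁻¹ = h.ι c ∧ a * b * c = 1 := by
    have e1 : y * h.ι (1 : V) * y⁻¹ = h.ι 1 := by simp
    rcases hu with rfl | rfl | rfl | rfl
    · exact ⟨1, 1, 1, by decide +kernel, e1, e1, e1, by decide +kernel⟩
    · exact ⟨V.u3, V.u2, V.u1, by decide +kernel, hy.h1, IsX.h3 h hy, hy.h2, by decide +kernel⟩
    · exact ⟨V.u1, V.u3, V.u2, by decide +kernel, hy.h2, hy.h1, IsX.h3 h hy, by decide +kernel⟩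
    · exact ⟨V.u2, V.u1, V.u3, by decide +kernel, IsX.h3 h hy, hy.h2, hy.h1, by decide +kernel⟩
  obtain ⟨ua, ab, bc, habc⟩ := hsum
  have tr : ∀ w w' : V, u * w * u⁻¹ = w → y * h.ι w * y⁻¹ = h.ι w' →
      y * h.ι u * h.ι w * (y * h.ι u)⁻¹ = h.ι w' := fun w w' e e' => by
    rw [show y * h.ι u * h.ι w * (y * h.ι u)⁻¹ = y * (h.ι u * h.ι w * (h.ι u)⁻¹) * y⁻¹ by group,
      ← map_inv, ← map_mul, ← map_mul, e, e']
  refine ⟨tr _ _ hu'.1 hy.hB, tr _ _ hu'.2.1 hy.hC, tr _ _ hu'.2.2.1 hy.h1, tr _ _ hu'.2.2.2 hy.h2, ?_⟩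
  calc (y * h.ι u) ^ 3 = (y * h.ι u * y⁻¹) * (y * (y * h.ι u * y⁻¹) * y⁻¹) *
        (y * (y * (y * h.ι u * y⁻¹) * y⁻¹) * y⁻¹) * y ^ 3 := by
        simp only [pow_succ, pow_zero, one_mul]; group
    _ = 1 := by rw [ua, ab, bc, hy.cube, mul_one, ← map_mul, ← map_mul, habc, map_one]

theorem mul_words {i j k l : Fin 2} {y : G} {a b c d : V} (h1 : y * h.ι V.u1 * y⁻¹ = h.ι a)
    (h2 : y * h.ι V.u2 * y⁻¹ = h.ι b) (h3 : y * h.ι V.dB * y⁻¹ = h.ι c)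
    (h4 : y * h.ι V.dC * y⁻¹ = h.ι d) :
    y * h.ι (V.u1 ^ i.1 * V.u2 ^ j.1 * V.dB ^ k.1 * V.dC ^ l.1) * y⁻¹ =
      h.ι (a ^ i.1 * b ^ j.1 * c ^ k.1 * d ^ l.1) := by
  have pw : ∀ (u v : V) (n : ℕ), y * h.ι u * y⁻¹ = h.ι v → y * h.ι (u ^ n) * y⁻¹ = h.ι (v ^ n) :=
    fun u v n e => by rw [map_pow, map_pow, ← e, conj_pow]
  exact h.conj_mul (h.conj_mul (h.conj_mul (pw _ _ _ h1) (pw _ _ _ h2)) (pw _ _ _ h3)) (pw _ _ _ h4)

theorem cent_plane {g : G} (h1 : g * h.ι V.u1 = h.ι V.u1 * g) (h2 : g * h.ι V.u2 = h.ι V.u2 * g)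
    (h3 : g * h.ι V.dB = h.ι V.dB * g) (h4 : g * h.ι V.dC = h.ι V.dC * g) :
    ∃ i j k l : Fin 2, g = h.ι (V.u1 ^ i.1 * V.u2 ^ j.1 * V.dB ^ k.1 * V.dC ^ l.1) := by
  have hz : g * z = z * g := by
    have e := (show Commute g (h.ι V.u1) from h1).mul_right (show Commute g (h.ι V.dB) from h3)
    rw [← map_mul, V.plane_mul.2.2.2.2.2.1, h.ι_z] at e
    exact e.eq
  obtain ⟨v, rfl⟩ := h.mem_range hz
  obtain ⟨i, j, k, l, e⟩ := V.plane_cent v ((h.comm_iff _ _).1 h1) ((h.comm_iff _ _).1 h2)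
    ((h.comm_iff _ _).1 h3) ((h.comm_iff _ _).1 h4)
  exact ⟨i, j, k, l, by rw [e]⟩

/-- Two such elements differ by an element of the four-group they move. -/
theorem IsX.unique {y y' : G} (hy : h.IsX y) (hy' : h.IsX y') :
    ∃ u, (u = 1 ∨ u = V.u1 ∨ u = V.u2 ∨ u = V.u3) ∧ y' = y * h.ι u := by
  have com : ∀ u v : V, y * h.ι u * y⁻¹ = h.ι v → y' * h.ι u * y'⁻¹ = h.ι v →
      y⁻¹ * y' * h.ι u = h.ι u * (y⁻¹ * y') := fun u v e e' => by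
    calc y⁻¹ * y' * h.ι u = y⁻¹ * (y' * h.ι u * y'⁻¹) * y' := by group
      _ = y⁻¹ * (y * h.ι u * y⁻¹) * y' := by rw [e', e]
      _ = h.ι u * (y⁻¹ * y') := by group
  obtain ⟨i, j, k, l, e⟩ := h.cent_plane (com _ _ hy.h1 hy'.h1) (com _ _ hy.h2 hy'.h2)
    (com _ _ hy.hB hy'.hB) (com _ _ hy.hC hy'.hC)
  set q := V.u1 ^ i.1 * V.u2 ^ j.1
  set r := V.dB ^ k.1 * V.dC ^ l.1
  have hq : q = 1 ∨ q = V.u1 ∨ q = V.u2 ∨ q = V.u3 := by
    have key : ∀ i j : Fin 2, V.u1 ^ i.1 * V.u2 ^ j.1 = 1 ∨ V.u1 ^ i.1 * V.u2 ^ j.1 = V.u1 ∨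
        V.u1 ^ i.1 * V.u2 ^ j.1 = V.u2 ∨ V.u1 ^ i.1 * V.u2 ^ j.1 = V.u3 := by decide +kernel
    exact key i j
  have he : y' = y * h.ι q * h.ι r := by
    rw [mul_assoc, ← map_mul, show q * r = V.u1 ^ i.1 * V.u2 ^ j.1 * V.dB ^ k.1 * V.dC ^ l.1 by
      simp only [q, r, mul_assoc], ← e, mul_inv_cancel_left]
  have hyq := IsX.mul_u h hy hq
  have hr : y * h.ι q * h.ι r * (y * h.ι q)⁻¹ = h.ι r := by
    have pw : ∀ (u : V) (n : ℕ), y * h.ι q * h.ι u * (y * h.ι q)⁻¹ = h.ι u →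
        y * h.ι q * h.ι (u ^ n) * (y * h.ι q)⁻¹ = h.ι (u ^ n) :=
      fun u n e => by rw [map_pow]; conv_rhs => rw [← e, conj_pow]
    exact h.conj_mul (pw _ _ hyq.hB) (pw _ _ hyq.hC)
  have h3 := hy'.cube
  rw [he, (show Commute (y * h.ι q) (h.ι r) from mul_inv_eq_iff_eq_mul.1 hr).mul_pow, hyq.cube, one_mul,
    ← map_pow] at h3
  have hr1 : r = 1 := by
    have key : ∀ k l : Fin 2, (V.dB ^ k.1 * V.dC ^ l.1) ^ 3 = 1 → V.dB ^ k.1 * V.dC ^ l.1 = 1 := by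
      decide +kernel
    exact key k l (h.inj (h3.trans (map_one _).symm))
  exact ⟨q, hq, by rw [he, hr1, map_one, mul_one]⟩

/-- Among them exactly one commutes with an element acting in the same way on the moved four-group. -/
theorem exists_fixed {y g : G} {a b : V} (hy : h.IsX y) (hg : h.IsX (g * y * g⁻¹))
    (g1 : g * h.ι V.u1 * g⁻¹ = h.ι a) (g2 : g * h.ι V.u2 * g⁻¹ = h.ι b)
    (hab : (a = V.u3 ∧ b = V.u1) ∨ (a = V.u2 ∧ b = V.u3)) :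
    ∃ x, h.IsX x ∧ g * x = x * g ∧ ∀ x', h.IsX x' → g * x' = x' * g → x' = x := by
  have g3 : g * h.ι V.u3 * g⁻¹ = h.ι (a * b) := by
    have := h.conj_mul g1 g2
    rwa [V.plane_mul.2.2.2.1] at this
  let act : V → V := fun u => if u = V.u1 then a else if u = V.u2 then b else if u = V.u3 then a * b else 1
  have hact : ∀ u, (u = 1 ∨ u = V.u1 ∨ u = V.u2 ∨ u = V.u3) → g * h.ι u * g⁻¹ = h.ι (act u) := by
    rintro u (rfl | rfl | rfl | rfl)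
    · rw [show act 1 = 1 by rcases hab with ⟨rfl, rfl⟩ | ⟨rfl, rfl⟩ <;> decide +kernel]; simp
    · rw [show act V.u1 = a by simp [act], g1]
    · rw [show act V.u2 = b by rcases hab with ⟨rfl, rfl⟩ | ⟨rfl, rfl⟩ <;> decide +kernel, g2]
    · rw [show act V.u3 = a * b by rcases hab with ⟨rfl, rfl⟩ | ⟨rfl, rfl⟩ <;> decide +kernel, g3]
  obtain ⟨u, hu, hue⟩ := IsX.unique h hy hg
  obtain ⟨v, hv, hve, huniq⟩ : ∃ v, (v = 1 ∨ v = V.u1 ∨ v = V.u2 ∨ v = V.u3) ∧ u * act v = v ∧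
      ∀ v', (v' = 1 ∨ v' = V.u1 ∨ v' = V.u2 ∨ v' = V.u3) → u * act v' = v' → v' = v := by
    simp only [act]
    rcases hab with ⟨rfl, rfl⟩ | ⟨rfl, rfl⟩ <;> revert hue <;> rcases hu with rfl | rfl | rfl | rfl <;>
      intro _ <;> decide +kernel
  have fix : ∀ v, (v = 1 ∨ v = V.u1 ∨ v = V.u2 ∨ v = V.u3) →
      g * (y * h.ι v) * g⁻¹ = y * h.ι (u * act v) := fun v hv => by
    rw [show g * (y * h.ι v) * g⁻¹ = g * y * g⁻¹ * (g * h.ι v * g⁻¹) by group, hue, hact v hv, map_mul,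
      mul_assoc]
  refine ⟨y * h.ι v, IsX.mul_u h hy hv, mul_inv_eq_iff_eq_mul.1 (by rw [fix v hv, hve]), fun x' hx' hc => ?_⟩
  obtain ⟨v', hv', rfl⟩ := IsX.unique h hy hx'
  have : u * act v' = v' := h.inj (mul_left_cancel (a := y) (by rw [← fix v' hv', hc, mul_inv_cancel_right]))
  rw [huniq v' hv' this]

end VEmb

/-- The seed: an element acting as a three-cycle and commuting with both affine elements. -/
structure Seeded (z : G) extends Two z where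
  /-- The element. -/
  x : G
  isX : A.toV.IsX x
  commA : A.ι hA * x = x * A.ι hA
  commB : B.ι hA * x = x * B.ι hA
  invS : A.toV.ι V.sV * x * (A.toV.ι V.sV)⁻¹ = x⁻¹
  relA : A.ι hA = x * (A.toV.ι V.wV * x * (A.toV.ι V.wV)⁻¹)
  relB : B.ι hA = x⁻¹ * (A.toV.ι V.wV * x * (A.toV.ι V.wV)⁻¹)

variable [Finite G]

theorem Two.exists_seeded (P : Two z) : Nonempty (Seeded z) := by
  classical
  set h := P.A.toV
  -- conjugation inside the affine groups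
  have liftA : ∀ p q : V, (∀ x, hP (V.act p x) = V.act q (hP x)) →
      P.A.ι hA * h.ι p * (P.A.ι hA)⁻¹ = h.ι q := fun p q e => by
    show P.A.ι hA * P.A.ι (pA p) * (P.A.ι hA)⁻¹ = P.A.ι (pA q)
    rw [← map_inv, ← map_mul, ← map_mul]
    congr 1
    rw [mul_inv_eq_iff_eq_mul]
    exact Subtype.ext (Equiv.ext e)
  have liftB : ∀ p q : V, (∀ x, hP (V.act (sigmaV p) x) = V.act (sigmaV q) (hP x)) →
      P.B.ι hA * h.ι p * (P.B.ι hA)⁻¹ = h.ι q := fun p q e => by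
    show P.B.ι hA * P.A.ι (pA p) * (P.B.ι hA)⁻¹ = P.A.ι (pA q)
    rw [← P.agree, ← P.agree, ← map_inv, ← map_mul, ← map_mul]
    congr 1
    rw [mul_inv_eq_iff_eq_mul]
    exact Subtype.ext (Equiv.ext e)
  set g0 := P.A.ι hA
  set g2 := P.B.ι hA
  have a1 := liftA _ _ fun x => (hA_conj (V.u1, V.u3) (by simp) x).1
  have a2 := liftA _ _ fun x => (hA_conj (V.u2, V.u1) (by simp) x).1
  have aB := liftA _ _ fun x => (hA_conj (V.dB, V.dB * V.dC) (by simp) x).1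
  have aC := liftA _ _ fun x => (hA_conj (V.dC, V.dB) (by simp) x).1
  have b1 : g2 * h.ι V.u1 * g2⁻¹ = h.ι V.u2 := liftB _ _ fun x => by
    simpa using (hA_conj (V.u1, V.u3) (by simp) x).2
  have b2 : g2 * h.ι V.u2 * g2⁻¹ = h.ι V.u3 := liftB _ _ fun x => by
    have := (hA_conj (V.u2, V.u1) (by simp) x).2
    rwa [if_neg (by decide +kernel : ¬ V.u2 = V.u1), if_pos rfl] at this
  have bB : g2 * h.ι V.dB * g2⁻¹ = h.ι (V.dB * V.dC) := liftB _ _ fun x => by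
    have := (hA_conj (V.dB, V.dB * V.dC) (by simp) x).2
    rwa [if_neg (by decide +kernel : ¬ V.dB = V.u1), if_neg (by decide +kernel : ¬ V.dB = V.u2)] at this
  have bC : g2 * h.ι V.dC * g2⁻¹ = h.ι V.dB := liftB _ _ fun x => by
    have := (hA_conj (V.dC, V.dB) (by simp) x).2
    rwa [if_neg (by decide +kernel : ¬ V.dC = V.u1), if_neg (by decide +kernel : ¬ V.dC = V.u2)] at this
  have a3 : g0 * h.ι V.u3 * g0⁻¹ = h.ι V.u2 := by
    have := h.conj_mul a1 a2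
    rwa [V.plane_mul.2.2.2.1, show V.u3 * V.u1 = V.u2 by decide +kernel] at this
  have aBC : g0 * h.ι (V.dB * V.dC) * g0⁻¹ = h.ι V.dC := by
    have := h.conj_mul aB aC
    rwa [show V.dB * V.dC * V.dB = V.dC by decide +kernel] at this
  have bBC : g2 * h.ι (V.dB * V.dC) * g2⁻¹ = h.ι V.dC := by
    have := h.conj_mul bB bC
    rwa [show V.dB * V.dC * V.dB = V.dC by decide +kernel] at this
  -- inverse images
  have inv_of : ∀ {g : G} {u v : V}, g * h.ι u * g⁻¹ = h.ι v → g⁻¹ * h.ι v * g = h.ι u :=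
    fun e => by rw [← e]; group
  -- a first element with the action
  set xr := g0 * g2⁻¹
  set x1 := xr * xr
  have xr_act : ∀ u v w : V, g2 * h.ι u * g2⁻¹ = h.ι v → g0 * h.ι u * g0⁻¹ = h.ι w →
      xr * h.ι v * xr⁻¹ = h.ι w := fun u v w e e' => by
    rw [show xr * h.ι v * xr⁻¹ = g0 * (g2⁻¹ * h.ι v * g2) * g0⁻¹ by simp only [xr]; group, inv_of e, e']
  have r1 : xr * h.ι V.u1 * xr⁻¹ = h.ι V.u2 := by
    have b3 : g2 * h.ι V.u3 * g2⁻¹ = h.ι V.u1 := by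
      have := h.conj_mul b1 b2
      rwa [V.plane_mul.2.2.2.1, show V.u2 * V.u3 = V.u1 by decide +kernel] at this
    exact xr_act _ _ _ b3 a3
  have r2 : xr * h.ι V.u2 * xr⁻¹ = h.ι V.u3 := xr_act _ _ _ b1 a1
  have r3 : xr * h.ι V.u3 * xr⁻¹ = h.ι V.u1 := xr_act _ _ _ b2 a2
  have rB : xr * h.ι V.dB * xr⁻¹ = h.ι V.dB := xr_act _ _ _ bC aC
  have rC : xr * h.ι V.dC * xr⁻¹ = h.ι V.dC := xr_act _ _ _ bBC aBC
  have two : ∀ {u v w : V}, xr * h.ι u * xr⁻¹ = h.ι v → xr * h.ι v * xr⁻¹ = h.ι w →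
      x1 * h.ι u * x1⁻¹ = h.ι w := fun {u v w} e e' => by
    rw [show x1 * h.ι u * x1⁻¹ = xr * (xr * h.ι u * xr⁻¹) * xr⁻¹ by simp only [x1]; group, e, e']
  have s1 := two r1 r2
  have s2 := two r2 r3
  have s3 := two r3 r1
  have sB := two rB rB
  have sC := two rC rC
  have thr : ∀ {a b c d : V}, x1 * h.ι a * x1⁻¹ = h.ι b → x1 * h.ι b * x1⁻¹ = h.ι c →
      x1 * h.ι c * x1⁻¹ = h.ι d → x1 * x1 * x1 * h.ι a * (x1 * x1 * x1)⁻¹ = h.ι d := fun {a b c d} e e' e'' => by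
    rw [show x1 * x1 * x1 * h.ι a * (x1 * x1 * x1)⁻¹ = x1 * (x1 * (x1 * h.ι a * x1⁻¹) * x1⁻¹) * x1⁻¹ by group,
      e, e', e'']
  obtain ⟨i, j, k, l, hcube⟩ := h.cent_plane (mul_inv_eq_iff_eq_mul.1 (thr s1 s3 s2))
    (mul_inv_eq_iff_eq_mul.1 (thr s2 s1 s3)) (mul_inv_eq_iff_eq_mul.1 (thr sB sB sB))
    (mul_inv_eq_iff_eq_mul.1 (thr sC sC sC))
  obtain ⟨y, hy⟩ : ∃ y, h.IsX y := by
    have hij : i = 0 ∧ j = 0 := by
      refine (V.plane_words i j k l).2.1 (h.inj ?_)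
      rw [← h.mul_words s1 s2 sB sC, ← hcube]; group
    obtain ⟨rfl, rfl⟩ := hij
    have key : ∀ k l : Fin 2, let b := V.u1 ^ (0 : Fin 2).1 * V.u2 ^ (0 : Fin 2).1 * V.dB ^ k.1 * V.dC ^ l.1;
        b * b = 1 ∧ b * V.dB = V.dB * b ∧ b * V.dC = V.dC * b ∧ b * V.u1 = V.u1 * b ∧ b * V.u2 = V.u2 * b := by
      decide +kernel
    set β := h.ι (V.u1 ^ (0 : Fin 2).1 * V.u2 ^ (0 : Fin 2).1 * V.dB ^ k.1 * V.dC ^ l.1)
    have hβ2 : β * β = 1 := by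
      simp only [β]; rw [← map_mul, ← map_one h.ι]; exact congrArg h.ι (key k l).1
    have hcomm : x1 * β * x1⁻¹ = β := by rw [← hcube]; group
    have tr : ∀ u v : V, x1 * h.ι u * x1⁻¹ = h.ι v →
        V.u1 ^ (0 : Fin 2).1 * V.u2 ^ (0 : Fin 2).1 * V.dB ^ k.1 * V.dC ^ l.1 * u =
          u * (V.u1 ^ (0 : Fin 2).1 * V.u2 ^ (0 : Fin 2).1 * V.dB ^ k.1 * V.dC ^ l.1) →
        x1 * β * h.ι u * (x1 * β)⁻¹ = h.ι v := fun u v e e' => by
      rw [show x1 * β * h.ι u * (x1 * β)⁻¹ = x1 * (β * h.ι u * β⁻¹) * x1⁻¹ by group,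
        show β * h.ι u = h.ι u * β from (h.comm_iff _ _).2 e', mul_inv_cancel_right, e]
    refine ⟨x1 * β, tr _ _ sB ?_, tr _ _ sC ?_, tr _ _ s1 ?_, tr _ _ s2 ?_, ?_⟩
    · exact (key k l).2.1
    · exact (key k l).2.2.1
    · exact (key k l).2.2.2.1
    · exact (key k l).2.2.2.2
    · rw [(show Commute x1 β from mul_inv_eq_iff_eq_mul.1 hcomm).mul_pow,
        show x1 ^ 3 = x1 * x1 * x1 by simp only [pow_succ, pow_zero, one_mul],
        show β ^ 3 = β * β * β by simp only [pow_succ, pow_zero, one_mul], hβ2, one_mul, hcube]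
      exact hβ2
  -- conjugates keep the action
  have cen : ∀ {g : G} {u v : V}, g * h.ι u * g⁻¹ = h.ι v → y * h.ι u * y⁻¹ = h.ι u →
      g * y * g⁻¹ * h.ι v * (g * y * g⁻¹)⁻¹ = h.ι v := fun {g u v} e e' => by
    rw [← e, show g * y * g⁻¹ * (g * h.ι u * g⁻¹) * (g * y * g⁻¹)⁻¹ = g * (y * h.ι u * y⁻¹) * g⁻¹ by group, e']
  have mov : ∀ {g : G} {u v u' v' : V}, g * h.ι u * g⁻¹ = h.ι v → g * h.ι u' * g⁻¹ = h.ι v' →
      y * h.ι u * y⁻¹ = h.ι u' → g * y * g⁻¹ * h.ι v * (g * y * g⁻¹)⁻¹ = h.ι v' := fun {g u v u' v'} e e2 e' => by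
    rw [← e, ← e2, show g * y * g⁻¹ * (g * h.ι u * g⁻¹) * (g * y * g⁻¹)⁻¹ = g * (y * h.ι u * y⁻¹) * g⁻¹ by group, e']
  have hy3 := VEmb.IsX.h3 h hy
  have hg0y : h.IsX (g0 * y * g0⁻¹) :=
    ⟨cen aC hy.hC, cen aBC (h.conj_mul hy.hB hy.hC), mov a2 a1 hy.h2, mov a3 a2 hy3,
      by rw [conj_pow, hy.cube]; group⟩
  have b3 : g2 * h.ι V.u3 * g2⁻¹ = h.ι V.u1 := by
    have := h.conj_mul b1 b2
    rwa [V.plane_mul.2.2.2.1, show V.u2 * V.u3 = V.u1 by decide +kernel] at this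
  have hg2y : h.IsX (g2 * y * g2⁻¹) :=
    ⟨cen bC hy.hC, cen bBC (h.conj_mul hy.hB hy.hC), mov b3 b2 hy3, mov b1 b3 hy.h1,
      by rw [conj_pow, hy.cube]; group⟩
  obtain ⟨x, hx, hxg, hxu⟩ := h.exists_fixed hy hg0y a1 a2 (Or.inl ⟨rfl, rfl⟩)
  obtain ⟨x', hx', hx'g, hx'u⟩ := h.exists_fixed hy hg2y b1 b2 (Or.inr ⟨rfl, rfl⟩)
  obtain ⟨sP1, sP2, sP3, sPB, sPC, sPs⟩ := V.plane_s
  set s := h.ι V.sV
  have sinv : s⁻¹ = s := by
    refine inv_eq_of_mul_eq_one_right ?_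
    simp only [s]; rw [← map_mul, sPs, map_one]
  have imgs : ∀ {u v : V}, V.sV * u * V.sV⁻¹ = v → s * h.ι u * s⁻¹ = h.ι v := fun e => by
    simp only [s]; rw [← map_inv, ← map_mul, ← map_mul, e]
  have sBC : s * h.ι (V.dC * V.dB) * s⁻¹ = h.ι V.dC := imgs (by decide +kernel)
  have sinvX : ∀ y : G, h.IsX y → h.IsX (s * y * s⁻¹)⁻¹ := by
    intro y hy
    have q : ∀ {u v u' v' : V}, s * h.ι u * s⁻¹ = h.ι v → s * h.ι u' * s⁻¹ = h.ι v' →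
        y * h.ι u * y⁻¹ = h.ι u' → (s * y * s⁻¹)⁻¹ * h.ι v' * (s * y * s⁻¹)⁻¹⁻¹ = h.ι v := fun {u v u' v'} e e2 e' => by
      rw [← e, ← e2, ← e']; group
    exact ⟨q (imgs sPB) (imgs sPB) hy.hB, q sBC sBC (h.conj_mul hy.hC hy.hB),
      q (imgs sP2) (imgs sP1) hy.h2, q (imgs sP1) (imgs sP3) hy.h1,
      by rw [inv_pow, conj_pow, hy.cube]; group⟩
  have sg : ∀ g : G, s * g * s⁻¹ = g⁻¹ → ∀ y : G, g * y = y * g →
      g * (s * y * s⁻¹)⁻¹ = (s * y * s⁻¹)⁻¹ * g := by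
    intro g e y hc
    have c1 : Commute (s * g * s⁻¹) (s * y * s⁻¹) := by
      show _ = _
      rw [show s * g * s⁻¹ * (s * y * s⁻¹) = s * (g * y) * s⁻¹ by group, hc]; group
    rw [e] at c1
    exact ((Commute.inv_left_iff.1 c1).inv_right).eq
  have sg0 : s * g0 * s⁻¹ = g0⁻¹ := by
    show P.A.ι (pA V.sV) * P.A.ι hA * (P.A.ι (pA V.sV))⁻¹ = (P.A.ι hA)⁻¹
    rw [← map_inv, ← map_inv, ← map_mul, ← map_mul, ← map_inv]
    congr 1
    simp only [map_inv]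
    rw [mul_inv_eq_iff_eq_mul, eq_inv_mul_iff_mul_eq]
    refine Subtype.ext (Equiv.ext fun p => ?_)
    show hP (V.act V.sV (hP p)) = V.act V.sV p
    rw [hA_inv.1, Equiv.symm_apply_apply]
  have sg2 : s * g2 * s⁻¹ = g2⁻¹ := by
    show P.A.ι (pA V.sV) * P.B.ι hA * (P.A.ι (pA V.sV))⁻¹ = (P.B.ι hA)⁻¹
    rw [← P.agree, ← map_inv P.B.ι, ← map_inv P.B.ι, ← map_mul, ← map_mul]
    congr 1
    rw [mul_inv_eq_iff_eq_mul, eq_inv_mul_iff_mul_eq]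
    refine Subtype.ext (Equiv.ext fun p => ?_)
    show hP (V.act (sigmaV V.sV) (hP p)) = V.act (sigmaV V.sV) p
    rw [hA_inv.2.1, Equiv.symm_apply_apply]
  have hsx : s * x * s⁻¹ = x⁻¹ := by
    exact inv_eq_iff_eq_inv.1 (hxu _ (sinvX x hx) (sg g0 sg0 x hxg))
  have hsx' : s * x' * s⁻¹ = x'⁻¹ := by
    exact inv_eq_iff_eq_inv.1 (hx'u _ (sinvX x' hx') (sg g2 sg2 x' hx'g))
  obtain ⟨u, hu, hue⟩ := VEmb.IsX.unique h hx hx'
  have hu13 : u = 1 ∨ u = V.u3 := by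
    obtain ⟨v, hv, hxv⟩ : ∃ v, V.sV * u * V.sV⁻¹ = v ∧ x * h.ι u * x⁻¹ = h.ι v := by
      refine ⟨_, rfl, ?_⟩
      rw [map_mul, map_mul, map_inv]
      show x * h.ι u * x⁻¹ = s * h.ι u * s⁻¹
      have e1 : s * x' * s⁻¹ = x⁻¹ * (s * h.ι u * s⁻¹) := by rw [hue, ← hsx]; group
      rw [hsx', hue, mul_inv_rev] at e1
      have hu2 : (h.ι u)⁻¹ = h.ι u := by
        rw [← map_inv]; congr 1; rcases hu with rfl | rfl | rfl | rfl <;> decide +kernel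
      rw [hu2] at e1
      calc x * h.ι u * x⁻¹ = x * (h.ι u * x⁻¹) := by rw [mul_assoc]
        _ = x * (x⁻¹ * (s * h.ι u * s⁻¹)) := by rw [e1]
        _ = s * h.ι u * s⁻¹ := by group
    rcases hu with rfl | rfl | rfl | rfl
    · exact Or.inl rfl
    · exfalso; rw [hx.h1] at hxv; rw [← hv] at hxv; exact absurd (h.inj hxv) (by decide +kernel)
    · exfalso; rw [hx.h2] at hxv; rw [← hv] at hxv; exact absurd (h.inj hxv) (by decide +kernel)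
    · exact Or.inr rfl
  -- adjust the second group
  obtain ⟨Bn, hagree, hBx⟩ : ∃ Bn : AEmb z, (∀ v, Bn.ι (pA (sigmaV v)) = P.A.ι (pA v)) ∧
      Bn.ι hA * x = x * Bn.ι hA := by
    rcases hu13 with rfl | rfl
    · rw [map_one, mul_one] at hue
      exact ⟨P.B, P.agree, hue ▸ hx'g⟩
    · refine ⟨P.B.conjBy V.zV, fun v => ?_, ?_⟩
      · show (P.B.toV.ι V.zV)⁻¹ * P.B.ι (pA (sigmaV v)) * (P.B.toV.ι V.zV)⁻¹⁻¹ = P.A.ι (pA v)
        rw [P.agree, show P.B.toV.ι V.zV = z from P.B.toV.ι_z, inv_inv, mul_assoc,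
          show P.A.ι (pA v) * z = z * P.A.ι (pA v) from h.comm v, inv_mul_cancel_left]
      · show (P.B.toV.ι V.zV)⁻¹ * g2 * (P.B.toV.ι V.zV)⁻¹⁻¹ * x =
          x * ((P.B.toV.ι V.zV)⁻¹ * g2 * (P.B.toV.ι V.zV)⁻¹⁻¹)
        rw [show P.B.toV.ι V.zV = z from P.B.toV.ι_z, inv_inv]
        have ez : z⁻¹ * x' * z = x := by
          have ez' : h.ι V.u1 * h.ι V.dB = z := by rw [← map_mul, V.plane_mul.2.2.2.2.2.1, h.ι_z]
          rw [hue]
          have c1 : x * h.ι V.dB = h.ι V.dB * x := mul_inv_eq_iff_eq_mul.1 hx.hB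
          calc z⁻¹ * (x * h.ι V.u3) * z
              = (h.ι V.u1 * h.ι V.dB)⁻¹ * (x * h.ι V.u3) * (h.ι V.u1 * h.ι V.dB) := by rw [ez']
            _ = (h.ι V.dB)⁻¹ * ((h.ι V.u1)⁻¹ * x) * (h.ι V.u3 * h.ι V.u1 * h.ι V.dB) := by group
            _ = (h.ι V.dB)⁻¹ * (x * h.ι V.u2) * (h.ι V.u3 * h.ι V.u1 * h.ι V.dB) := by
                congr 2
                rw [← map_inv, show V.u1⁻¹ = V.u1 by decide +kernel]
                exact mul_inv_eq_iff_eq_mul.1 hx.h2 |>.symm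
            _ = (h.ι V.dB)⁻¹ * x * h.ι (V.u2 * (V.u3 * V.u1 * V.dB)) := by
                rw [map_mul, map_mul, map_mul]; group
            _ = (h.ι V.dB)⁻¹ * x * h.ι V.dB := by
                rw [show V.u2 * (V.u3 * V.u1 * V.dB) = V.dB by decide +kernel]
            _ = x := by rw [mul_assoc, c1, inv_mul_cancel_left]
        rw [← ez, show z⁻¹ * g2 * z * (z⁻¹ * x' * z) = z⁻¹ * (g2 * x') * z by group, hx'g]
        group
  clear b1 b2 bB bC bBC b3 hg2y hx'g hx'u sg2 hsx' hue x' hx' g2 liftB xr x1 r1 r2 r3 rB rC s1 s2 s3 sB sC xr_act two thr hcube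
  -- the products
  obtain ⟨w1, w2, w3, w4, ww⟩ := V.plane_w
  set w := h.ι V.wV
  have winv : w⁻¹ = w := by
    refine inv_eq_of_mul_eq_one_right ?_
    simp only [w]; rw [← map_mul, ww, map_one]
  have imgw : ∀ {u v : V}, V.wV * u * V.wV⁻¹ = v → w * h.ι u * w⁻¹ = h.ι v := fun e => by
    simp only [w]; rw [← map_inv, ← map_mul, ← map_mul, e]
  have moved : ∀ {c : G}, c * h.ι V.u1 * c⁻¹ = h.ι V.u1 → c * h.ι V.u2 * c⁻¹ = h.ι V.u2 →
      c * h.ι V.dB * c⁻¹ = h.ι (V.dB * V.dC) → c * h.ι V.dC * c⁻¹ = h.ι V.dB → c ^ 3 = 1 →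
      h.IsX (w * c * w⁻¹) := by
    intro c c1 c2 cB cC c3
    have q : ∀ {u v u' v' : V}, w * h.ι u * w⁻¹ = h.ι v → w * h.ι u' * w⁻¹ = h.ι v' →
        c * h.ι u * c⁻¹ = h.ι u' → w * c * w⁻¹ * h.ι v * (w * c * w⁻¹)⁻¹ = h.ι v' := fun {u v u' v'} e e2 e' => by
      rw [← e, ← e2, ← e']; group
    refine ⟨q (imgw w1) (imgw w1) c1, q (imgw w2) (imgw w2) c2, q (imgw w3) (imgw ?_) cB,
      q (imgw w4) (imgw w3) cC, by rw [conj_pow, c3]; group⟩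
    decide +kernel
  have hx3i : x⁻¹ * h.ι V.u3 * x⁻¹⁻¹ = h.ι V.u1 := by rw [← hx.h1]; group
  have hx1i : x⁻¹ * h.ι V.u1 * x⁻¹⁻¹ = h.ι V.u2 := by rw [← hx.h2]; group
  have g0cube : g0 ^ 3 = 1 := by
    show P.A.ι hA ^ 3 = 1
    rw [← map_pow, ← map_one P.A.ι]
    congr 1
    refine Subtype.ext (Equiv.ext fun p => ?_)
    show (hA.1 ^ 3) p = p
    simp only [pow_succ, pow_zero, one_mul, Equiv.Perm.mul_apply]
    exact hA_inv.2.2.2.2 p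
  have hrelA : g0 = x * (w * x * w⁻¹) := by
    have c1 : x⁻¹ * g0 * h.ι V.u1 * (x⁻¹ * g0)⁻¹ = h.ι V.u1 := by
      rw [show x⁻¹ * g0 * h.ι V.u1 * (x⁻¹ * g0)⁻¹ = x⁻¹ * (g0 * h.ι V.u1 * g0⁻¹) * x⁻¹⁻¹ by group, a1, hx3i]
    have c2 : x⁻¹ * g0 * h.ι V.u2 * (x⁻¹ * g0)⁻¹ = h.ι V.u2 := by
      rw [show x⁻¹ * g0 * h.ι V.u2 * (x⁻¹ * g0)⁻¹ = x⁻¹ * (g0 * h.ι V.u2 * g0⁻¹) * x⁻¹⁻¹ by group, a2, hx1i]
    have cB : x⁻¹ * g0 * h.ι V.dB * (x⁻¹ * g0)⁻¹ = h.ι (V.dB * V.dC) := by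
      rw [show x⁻¹ * g0 * h.ι V.dB * (x⁻¹ * g0)⁻¹ = x⁻¹ * (g0 * h.ι V.dB * g0⁻¹) * x⁻¹⁻¹ by group, aB]
      conv_lhs => rw [← h.conj_mul hx.hB hx.hC]
      group
    have cC : x⁻¹ * g0 * h.ι V.dC * (x⁻¹ * g0)⁻¹ = h.ι V.dB := by
      rw [show x⁻¹ * g0 * h.ι V.dC * (x⁻¹ * g0)⁻¹ = x⁻¹ * (g0 * h.ι V.dC * g0⁻¹) * x⁻¹⁻¹ by group, aC]
      conv_lhs => rw [← hx.hB]
      group
    have cg : g0 * (x⁻¹ * g0) = x⁻¹ * g0 * g0 := ((show Commute g0 x from hxg).inv_right.mul_right (Commute.refl g0)).eq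
    have wg : w * g0 * w⁻¹ = g0 := by
      show P.A.ι (pA V.wV) * P.A.ι hA * (P.A.ι (pA V.wV))⁻¹ = P.A.ι hA
      rw [← map_inv, ← map_mul, ← map_mul]
      congr 1
      rw [mul_inv_eq_iff_eq_mul]
      exact Subtype.ext (Equiv.ext fun p => (hA_inv.2.2.1 p).symm)
    have := hxu _ (moved c1 c2 cB cC (by
      rw [((show Commute g0 x from hxg).inv_right).symm.mul_pow, inv_pow, hx.cube, g0cube, inv_one, one_mul]))
      (by conv_lhs => arg 1; rw [← wg]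
          conv_rhs => arg 2; rw [← wg]
          rw [show w * g0 * w⁻¹ * (w * (x⁻¹ * g0) * w⁻¹) = w * (g0 * (x⁻¹ * g0)) * w⁻¹ by group, cg]
          group)
    rw [show w * x * w⁻¹ = x⁻¹ * g0 by
      conv_lhs => rw [← this, winv]
      rw [show w * (w * (x⁻¹ * g0) * w) * w = (w * w) * (x⁻¹ * g0) * (w * w) by group,
        show w * w = 1 by nth_rewrite 1 [← winv]; exact inv_mul_cancel w]
      group]
    group
  have hrelB : Bn.ι hA = x⁻¹ * (w * x * w⁻¹) := by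
    set g := Bn.ι hA
    have liftN : ∀ p q : V, (∀ x, hP (V.act (sigmaV p) x) = V.act (sigmaV q) (hP x)) →
        g * h.ι p * g⁻¹ = h.ι q := fun p q e => by
      show Bn.ι hA * P.A.ι (pA p) * (Bn.ι hA)⁻¹ = P.A.ι (pA q)
      rw [← hagree, ← hagree, ← map_inv, ← map_mul, ← map_mul]
      congr 1
      rw [mul_inv_eq_iff_eq_mul]
      exact Subtype.ext (Equiv.ext e)
    have n1 : g * h.ι V.u1 * g⁻¹ = h.ι V.u2 := liftN _ _ fun x => by
      simpa using (hA_conj (V.u1, V.u3) (by simp) x).2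
    have n2 : g * h.ι V.u2 * g⁻¹ = h.ι V.u3 := liftN _ _ fun x => by
      have := (hA_conj (V.u2, V.u1) (by simp) x).2
      rwa [if_neg (by decide +kernel : ¬ V.u2 = V.u1), if_pos rfl] at this
    have nB : g * h.ι V.dB * g⁻¹ = h.ι (V.dB * V.dC) := liftN _ _ fun x => by
      have := (hA_conj (V.dB, V.dB * V.dC) (by simp) x).2
      rwa [if_neg (by decide +kernel : ¬ V.dB = V.u1), if_neg (by decide +kernel : ¬ V.dB = V.u2)] at this
    have nC : g * h.ι V.dC * g⁻¹ = h.ι V.dB := liftN _ _ fun x => by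
      have := (hA_conj (V.dC, V.dB) (by simp) x).2
      rwa [if_neg (by decide +kernel : ¬ V.dC = V.u1), if_neg (by decide +kernel : ¬ V.dC = V.u2)] at this
    have tr : ∀ {u v v' : V}, g * h.ι u * g⁻¹ = h.ι v → x * h.ι v * x⁻¹ = h.ι v' →
        x * g * h.ι u * (x * g)⁻¹ = h.ι v' := fun {u v v'} e e' => by
      rw [show x * g * h.ι u * (x * g)⁻¹ = x * (g * h.ι u * g⁻¹) * x⁻¹ by group, e, e']
    have cg : g * (x * g) = x * g * g := ((show Commute g x from hBx).mul_right (Commute.refl g)).eq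
    have gcube : g ^ 3 = 1 := by
      show Bn.ι hA ^ 3 = 1
      rw [← map_pow, ← map_one Bn.ι]
      congr 1
      refine Subtype.ext (Equiv.ext fun p => ?_)
      show (hA.1 ^ 3) p = p
      simp only [pow_succ, pow_zero, one_mul, Equiv.Perm.mul_apply]
      exact hA_inv.2.2.2.2 p
    have wg : w * g * w⁻¹ = g⁻¹ := by
      show P.A.ι (pA V.wV) * Bn.ι hA * (P.A.ι (pA V.wV))⁻¹ = (Bn.ι hA)⁻¹
      rw [← hagree, ← map_inv Bn.ι, ← map_inv Bn.ι, ← map_mul, ← map_mul]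
      congr 1
      rw [mul_inv_eq_iff_eq_mul, eq_inv_mul_iff_mul_eq]
      refine Subtype.ext (Equiv.ext fun p => ?_)
      show hP (V.act (sigmaV V.wV) (hP p)) = V.act (sigmaV V.wV) p
      rw [hA_inv.2.2.2.1, Equiv.symm_apply_apply]
    obtain ⟨X, hX, hXg, hXu⟩ := h.exists_fixed hx (g := g)
      (by rw [hBx, mul_inv_cancel_right]; exact hx) n1 n2 (Or.inr ⟨rfl, rfl⟩)
    have hx_eq := hXu x hx hBx
    have := hXu _ (moved (tr n1 hx.h2) (tr n2 (VEmb.IsX.h3 h hx)) (tr nB (h.conj_mul hx.hB hx.hC))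
        (tr nC hx.hB) (by rw [(show Commute g x from hBx).symm.mul_pow, hx.cube, gcube, one_mul]))
      (by
        have c : Commute g⁻¹ (w * (x * g) * w⁻¹) := by
          rw [← wg]
          show _ = _
          rw [show w * g * w⁻¹ * (w * (x * g) * w⁻¹) = w * (g * (x * g)) * w⁻¹ by group, cg]; group
        exact (Commute.inv_left_iff.1 c).eq)
    rw [← hx_eq] at this
    rw [show w * x * w⁻¹ = x * g by
      conv_lhs => rw [← this, winv]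
      rw [show w * (w * (x * g) * w) * w = (w * w) * (x * g) * (w * w) by group,
        show w * w = 1 by nth_rewrite 1 [← winv]; exact inv_mul_cancel w]
      group]
    group
  exact ⟨{ A := P.A, B := Bn, good := P.good, agree := hagree, x := x, isX := hx,
           commA := hxg, commB := hBx, invS := hsx, relA := hrelA, relB := hrelB }⟩

end Cfsg.Agent.Cent32
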