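import Cfsg.Agent.Cent32.AGL

/-!
Checked facts about the translations in the model.
-/

set_option autoImplicit false
set_option maxRecDepth 8000

namespace Cfsg.Agent.Cent32

theorem tV_conj : ∀ (v : V) (a : Fin 8), ∃ b, tV b = v * tV a * v⁻¹ := by decide +kernel

theorem tV_trans : ∀ a : Fin 8, a ≠ 0 → a ≠ 1 → ∃ v : V, v * V.aV * v⁻¹ = tV a := by decide +kernel

theorem tV_joint : (∀ a : Fin 8, a ≠ 0 → a ≠ 1 → a ≠ 2 → a ≠ 3 →
      tV a * V.aV = V.aV * tV a ∧
      (Finset.univ.filter fun w : V => w * V.aV = V.aV * w ∧ w * tV a = tV a * w).card ≤ 8) ∧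
    (∀ q : V, q * q = 1 → q * V.aV = V.aV * q →
      (Finset.univ.filter fun w : V => w * V.aV = V.aV * w ∧ w * q = q * w).card ≤ 8 →
      ∃ a : Fin 8, tV a = q) := by
  decide +kernel

theorem tV_self : ∀ v : V, (∀ a, v * tV a = tV a * v) → ∃ a, tV a = v := by decide +kernel

theorem tV_inj : ∀ a b : Fin 8, tV a = tV b → a = b := by decide +kernel

theorem tV_split : ∀ v : V, ∃ a : Fin 8, V.act (tV a * v) 0 = 0 := by decide +kernel

theorem perm_tV : ∀ a : Fin 8, tV a * tV a = 1 := by decide +kernel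

end Cfsg.Agent.Cent32
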