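import Cfsg.Agent.Cent32.Cycle
import Cfsg.Agent.Cent32.SplitTab
import Cfsg.Agent.S0051

/-!
A cycle on the translations extends the centralizer to the affine group.
-/

set_option autoImplicit false
set_option maxRecDepth 8000

namespace Cfsg.Agent.Cent32

universe u

variable {G : Type u} [Group G] {z : G}

/-- An embedding of the affine group containing the centralizer of `z`. -/
structure AEmb (z : G) where
  ι : agl →* G
  inj : Function.Injective ι
  ι_z : ι zA = z
  cent : ∀ x, x * z = z * x → ∃ v, ι (pA v) = x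

namespace AEmb

variable (A : AEmb z)

/-- The centralizer. -/
def toV : VEmb z where
  ι := A.ι.comp pA
  inj := A.inj.comp pA_inj
  range := by
    refine le_antisymm ?_ ?_
    · rintro _ ⟨v, rfl⟩
      refine Subgroup.mem_centralizer_singleton_iff.2 ?_
      show A.ι (pA v) * z = z * A.ι (pA v)
      calc A.ι (pA v) * z = A.ι (pA v) * A.ι zA := by rw [A.ι_z]
        _ = A.ι (pA (v * V.zV)) := by rw [zA, ← map_mul, ← map_mul]
        _ = A.ι (pA (V.zV * v)) := by rw [V.zV_central]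
        _ = A.ι zA * A.ι (pA v) := by rw [map_mul, map_mul, zA]
        _ = z * A.ι (pA v) := by rw [A.ι_z]
    · intro x hx
      obtain ⟨v, hv⟩ := A.cent x (Subgroup.mem_centralizer_singleton_iff.1 hx)
      exact ⟨v, hv⟩
  ι_z := A.ι_z

/-- Composition with the outer automorphism. -/
noncomputable def twist : AEmb z where
  ι := A.ι.comp alpha
  inj := A.inj.comp alpha_inj
  ι_z := by
    have e : alpha zA = zA := Subtype.ext (Equiv.ext fun x => (alpha_apply zA x).trans (alpha_V.1 x))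
    rw [MonoidHom.comp_apply, e, A.ι_z]
  cent x hx := by
    obtain ⟨v, hv⟩ := A.cent x hx
    have hb : Function.Bijective alpha :=
      haveI : Finite agl := Subtype.finite
      ⟨alpha_inj, Finite.surjective_of_injective alpha_inj⟩
    obtain ⟨p, hp⟩ := hb.2 (pA v)
    have e : alpha zA = zA := Subtype.ext (Equiv.ext fun x => (alpha_apply zA x).trans (alpha_V.1 x))
    obtain ⟨w, hw⟩ := cent_zA p (hb.1 (by
      rw [map_mul, map_mul, hp, e, zA, ← map_mul, ← map_mul, V.zV_central]))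
    exact ⟨w, by rw [MonoidHom.comp_apply, hw, hp, hv]⟩

end AEmb

variable [Finite G]

theorem VEmb.exists_split (h : VEmb z) {g : G} (hg : IsCyc z (h.ι V.aV) g) :
    ∃ A : AEmb z, ∀ a, A.ι (pA (tV a)) = h.ι (tV a) := by
  classical
  set e : Fin 8 → G := fun a => h.ι (tV a)
  have e_mul : ∀ a b, e a * e b = e (a ^^^ b) := fun a b => by
    simp only [e]; rw [← map_mul, tV_spec.2.2.2.2.1]
  have e0 : e 0 = 1 := by simp only [e]; rw [tV_spec.1, map_one]
  have e1 : e 1 = z := by simp only [e]; rw [tV_spec.2.1, h.ι_z]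
  have e2 : e 2 = h.ι V.aV := by simp only [e]; rw [tV_spec.2.2.1]
  have einj : Function.Injective e := fun a b hab => tV_inj a b (h.inj hab)
  let E : Subgroup G :=
    { carrier := Set.range e
      one_mem' := ⟨0, e0⟩
      mul_mem' := by rintro _ _ ⟨a, rfl⟩ ⟨b, rfl⟩; exact ⟨a ^^^ b, (e_mul a b).symm⟩
      inv_mem' := by
        rintro _ ⟨a, rfl⟩
        exact ⟨a, (inv_eq_of_mul_eq_one_right (by rw [e_mul, (x8 a 0 0).1, e0])).symm⟩ }
  set N := Subgroup.normalizer (E : Set G)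
  have mk_N : ∀ n : G, (∀ a, ∃ b, n * e a * n⁻¹ = e b) → n ∈ N := by
    intro n hn
    choose φ hφ using hn
    have hφ' : Function.Injective φ := fun a b hab =>
      einj (mul_left_cancel (mul_right_cancel ((hφ a).trans (by rw [hab, ← hφ b]))))
    refine Subgroup.mem_normalizer_iff.2 fun x => ⟨?_, ?_⟩
    · rintro ⟨a, rfl⟩; exact ⟨φ a, (hφ a).symm⟩
    · rintro ⟨b, hb⟩
      obtain ⟨a, rfl⟩ := (Finite.surjective_of_injective hφ') b
      rw [← hφ] at hb
      exact ⟨a, mul_left_cancel (mul_right_cancel hb)⟩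
  -- the centralizer of `z` normalises the translations
  have hLN : ∀ x, x * z = z * x → x ∈ N := by
    intro x hx
    obtain ⟨v, rfl⟩ := h.mem_range hx
    refine mk_N _ fun a => ?_
    obtain ⟨b, hb⟩ := tV_conj v a
    exact ⟨b, by simp only [e]; rw [hb, map_mul, map_mul, map_inv]⟩
  -- so does the cycle
  have hzz := Invol.mul_self_eq_one h.hz
  have hga : g * e 3 * g⁻¹ = z := by
    rw [← (show (2 : Fin 8) ^^^ 1 = 3 by decide), ← e_mul, e1, e2,
      show g * (h.ι V.aV * z) * g⁻¹ = (g * h.ι V.aV * g⁻¹) * (g * z * g⁻¹) by group, hg.1, hg.2,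
      mul_assoc, ← h.comm V.aV, ← mul_assoc, h.sq_one (by rw [V.ty_rep.2.1]; norm_num), one_mul]
  have e3 : e 3 = h.ι V.aV * z := by
    rw [← (show (2 : Fin 8) ^^^ 1 = 3 by decide), ← e_mul, e1, e2]
  have hgN : g ∈ N := by
    refine mk_N _ fun a => ?_
    by_cases h0 : a = 0
    · exact ⟨0, by rw [h0, e0, mul_one, mul_inv_cancel]⟩
    by_cases h1 : a = 1
    · exact ⟨2, by rw [h1, e1, e2, hg.1]⟩
    by_cases h2 : a = 2
    · exact ⟨3, by rw [h2, e3, e2, hg.2]⟩
    by_cases h3 : a = 3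
    · exact ⟨1, by rw [h3, e1, hga]⟩
    obtain ⟨hac, hcard⟩ := tV_joint.1 a h0 h1 h2 h3
    have f1 : e a * h.ι V.aV = h.ι V.aV * e a := (h.comm_iff _ _).2 hac
    have tr : ∀ x y : G, x * y = y * x → g * x * g⁻¹ * (g * y * g⁻¹) = g * y * g⁻¹ * (g * x * g⁻¹) :=
      fun x y hxy => by
        rw [show g * x * g⁻¹ * (g * y * g⁻¹) = g * (x * y) * g⁻¹ by group, hxy]; group
    have m1 : g * e a * g⁻¹ * h.ι V.aV = h.ι V.aV * (g * e a * g⁻¹) := by
      have := tr _ _ (h.comm (tV a))
      rwa [hg.1] at this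
    have mz : ∀ q : G, q * h.ι V.aV = h.ι V.aV * q → q * (h.ι V.aV * z) = h.ι V.aV * z * q → q * z = z * q := by
      intro q c1 c2
      have : h.ι V.aV * (q * z) = h.ι V.aV * (z * q) := by
        rw [← mul_assoc, ← c1, mul_assoc, c2, mul_assoc]
      exact mul_left_cancel this
    have m2 : g * e a * g⁻¹ * z = z * (g * e a * g⁻¹) := mz _ m1 (by
      have := tr _ _ f1
      rwa [hg.2] at this)
    obtain ⟨q, hq⟩ := h.mem_range m2
    have hq2 : q * q = 1 := h.inj (by
      rw [map_mul, hq, map_one, show g * e a * g⁻¹ * (g * e a * g⁻¹) = g * (e a * e a) * g⁻¹ by group,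
        e_mul, (x8 a 0 0).1, e0]; group)
    have hqa : q * V.aV = V.aV * q := (h.comm_iff _ _).1 (by rw [hq]; exact m1)
    obtain ⟨b, hb⟩ := tV_joint.2 q hq2 hqa (by
      refine le_trans ?_ hcard
      rw [← Fintype.card_subtype, ← Fintype.card_subtype]
      have key : ∀ w : {w : V // w * V.aV = V.aV * w ∧ w * q = q * w},
          ∃ w' : {w : V // w * V.aV = V.aV * w ∧ w * tV a = tV a * w}, h.ι w'.1 = g⁻¹ * h.ι w.1 * g := by
        rintro ⟨w, hw1, hw2⟩
        have tr' : ∀ x y : G, x * y = y * x → g⁻¹ * x * g * (g⁻¹ * y * g) = g⁻¹ * y * g * (g⁻¹ * x * g) :=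
          fun x y hxy => by
            rw [show g⁻¹ * x * g * (g⁻¹ * y * g) = g⁻¹ * (x * y) * g by group, hxy]; group
        have i1 : g⁻¹ * h.ι V.aV * g = z := by rw [← hg.1]; group
        have i2 : g⁻¹ * (h.ι V.aV * z) * g = h.ι V.aV := by rw [← hg.2]; group
        have i3 : g⁻¹ * h.ι q * g = e a := by rw [hq]; group
        have caz : h.ι w * (h.ι V.aV * z) = h.ι V.aV * z * h.ι w := by
          rw [← mul_assoc, (h.comm_iff _ _).2 hw1, mul_assoc, h.comm w, ← mul_assoc]
        have c1 := tr' _ _ ((h.comm_iff _ _).2 hw1)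
        have c2 := tr' _ _ caz
        have c3 := tr' _ _ ((h.comm_iff _ _).2 hw2)
        rw [i1] at c1
        rw [i2] at c2
        rw [i3] at c3
        obtain ⟨w', hw'⟩ := h.mem_range c1
        exact ⟨⟨w', (h.comm_iff _ _).1 (by rw [hw']; exact c2), (h.comm_iff _ _).1 (by rw [hw']; exact c3)⟩, hw'⟩
      choose φ hφ using key
      refine Fintype.card_le_of_injective φ fun x y hxy => Subtype.ext (h.inj ?_)
      exact mul_left_cancel (mul_right_cancel
        ((hφ x).symm.trans ((by rw [hxy] : h.ι (φ x).1 = h.ι (φ y).1).trans (hφ y)))))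
    exact ⟨b, by simp only [e]; rw [hb, hq]⟩
  -- the translations are the orbit of `z`
  have horb : ∀ a, a ≠ 0 → ∃ n ∈ N, n * z * n⁻¹ = e a := by
    intro a h0
    by_cases h1 : a = 1
    · exact ⟨1, one_mem _, by rw [h1, e1]; group⟩
    obtain ⟨v, hv⟩ := tV_trans a h0 h1
    refine ⟨h.ι v * g, mul_mem (hLN _ (h.comm v)) hgN, ?_⟩
    rw [show h.ι v * g * z * (h.ι v * g)⁻¹ = h.ι v * (g * z * g⁻¹) * (h.ι v)⁻¹ by group, hg.1]
    simp only [e]
    rw [← hv, map_mul, map_mul, map_inv]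
  have hN : Nat.card N = 1344 := by
    let L := (Subgroup.centralizer ({z} : Set G)).subgroupOf N
    have hL : Nat.card L = 192 := by
      rw [Nat.card_congr (Subgroup.subgroupOfEquivOfLe (H := Subgroup.centralizer ({z} : Set G))
        (fun x hx => hLN x (Subgroup.mem_centralizer_singleton_iff.1 hx))).toEquiv, h.card_cent]
    have h1 := L.card_mul_index
    rw [hL] at h1
    rw [← h1]
    suffices L.index = 7 by rw [this]
    have h7 : Nat.card {a : Fin 8 // a ≠ 0} = 7 := by rw [Nat.card_eq_fintype_card]; decide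
    rw [← h7, Subgroup.index]
    have hF : ∀ n : N, ∃ a : {a : Fin 8 // a ≠ 0}, e a.1 = n * z * (n : G)⁻¹ := fun n => by
      obtain ⟨b, hb⟩ := (Subgroup.mem_normalizer_iff.1 n.2 z).1 ⟨1, e1⟩
      refine ⟨⟨b, fun hb0 => Invol.ne_one h.hz ?_⟩, hb⟩
      rw [hb0, e0, eq_comm, conj_eq_one_iff] at hb
      exact hb
    choose F hF using hF
    have hwell : ∀ m n : N, m⁻¹ * n ∈ L ↔ F m = F n := by
      intro m n
      rw [Subgroup.mem_subgroupOf, Subgroup.mem_centralizer_singleton_iff, Subtype.ext_iff,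
        ← einj.eq_iff, hF, hF, Subgroup.coe_mul, Subgroup.coe_inv]
      constructor
      · intro hm
        calc (m : G) * z * (m : G)⁻¹ = m * (z * ((m : G)⁻¹ * n)) * (n : G)⁻¹ := by group
          _ = n * z * (n : G)⁻¹ := by rw [← hm]; group
      · intro hm
        calc (m : G)⁻¹ * n * z = (m : G)⁻¹ * (n * z * (n : G)⁻¹) * n := by group
          _ = z * ((m : G)⁻¹ * n) := by rw [← hm]; group
    let Φ : N ⧸ L → {a : Fin 8 // a ≠ 0} :=
      Quotient.lift F fun m n hmn => (hwell m n).1 (QuotientGroup.leftRel_apply.1 hmn)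
    refine Nat.card_congr (Equiv.ofBijective Φ ⟨?_, ?_⟩)
    · intro p q
      refine Quotient.inductionOn₂ p q fun m n hmn => ?_
      exact Quotient.sound (QuotientGroup.leftRel_apply.2 ((hwell m n).2 hmn))
    · intro a
      obtain ⟨n, hn, hna⟩ := horb a.1 a.2
      exact ⟨Quotient.mk'' ⟨n, hn⟩, Subtype.ext (einj ((hF ⟨n, hn⟩).trans hna))⟩
  -- the extension splits
  let K := E.subgroupOf N
  have hEN : E ≤ N := fun x hx => Subgroup.le_normalizer hx
  haveI : K.Normal := Subgroup.normal_subgroupOf_iff hEN |>.2 fun x n hx hn =>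
    (Subgroup.mem_normalizer_iff.1 hn x).1 hx
  haveI : IsMulCommutative K := ⟨⟨fun p q => Subtype.ext (Subtype.ext (by
    obtain ⟨a, ha⟩ := Subgroup.mem_subgroupOf.1 p.2
    obtain ⟨b, hb⟩ := Subgroup.mem_subgroupOf.1 q.2
    show (p.1 : G) * (q.1 : G) = (q.1 : G) * (p.1 : G)
    rw [← ha, ← hb, e_mul, e_mul, (x8 a b 0).2.2.2.1]))⟩⟩
  have hE8 : Nat.card E = 8 := by
    show Nat.card (Set.range e) = 8
    rw [Nat.card_range_of_injective einj]; simp
  have hK : Nat.card K = 8 := by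
    rw [Nat.card_congr (Subgroup.subgroupOfEquivOfLe hEN).toEquiv, hE8]
  let U := (Subgroup.centralizer ({z} : Set G)).subgroupOf N
  let St : Subgroup G :=
    { carrier := {x | ∃ v, V.act v 0 = 0 ∧ h.ι v = x}
      one_mem' := ⟨1, V.act_one 0, map_one _⟩
      mul_mem' := by
        rintro _ _ ⟨v, hv, rfl⟩ ⟨w, hw, rfl⟩
        exact ⟨v * w, by rw [V.act_mul, hw, hv], map_mul _ _ _⟩
      inv_mem' := by
        rintro _ ⟨v, hv, rfl⟩
        refine ⟨v⁻¹, ?_, map_inv _ _⟩
        conv_lhs => rw [← hv]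
        exact (V.act_inv v 0).1 }
  have hU7 : U.index = 7 := by
    have h1 := U.card_mul_index
    rw [Nat.card_congr (Subgroup.subgroupOfEquivOfLe (H := Subgroup.centralizer ({z} : Set G))
      (fun x hx => hLN x (Subgroup.mem_centralizer_singleton_iff.1 hx))).toEquiv, h.card_cent, hN] at h1
    omega
  have hEL : E ≤ Subgroup.centralizer ({z} : Set G) := by
    rintro _ ⟨a, rfl⟩; exact Subgroup.mem_centralizer_singleton_iff.2 (h.comm _)
  obtain ⟨H, hH⟩ := S0051.result K U (fun x hx => Subgroup.mem_subgroupOf.2 (hEL hx))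
    (by rw [hK, hU7]; decide) (St.subgroupOf N)
    (by
      intro x hx
      obtain ⟨v, -, hv⟩ := Subgroup.mem_subgroupOf.1 hx
      exact Subgroup.mem_subgroupOf.2 (hv ▸ Subgroup.mem_centralizer_singleton_iff.2 (h.comm v)))
    (by
      refine (Subgroup.eq_bot_iff_forall _).2 fun x hx => Subtype.ext ?_
      obtain ⟨hx1, hx2⟩ := Subgroup.mem_inf.1 hx
      obtain ⟨v, hv0, hv⟩ := Subgroup.mem_subgroupOf.1 hx1
      obtain ⟨a, ha⟩ := Subgroup.mem_subgroupOf.1 hx2
      have : tV a = v := h.inj (ha.trans hv.symm)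
      rw [← this, tV_spec.2.2.2.1, (x8 a 0 0).2.2.1] at hv0
      rw [← ha, hv0, e0]; rfl)
    (by
      refine le_antisymm (sup_le (fun x hx => Subgroup.mem_subgroupOf.2 (hEL hx)) ?_) ?_
      · intro x hx
        obtain ⟨v, -, hv⟩ := Subgroup.mem_subgroupOf.1 hx
        exact Subgroup.mem_subgroupOf.2 (hv ▸ Subgroup.mem_centralizer_singleton_iff.2 (h.comm v))
      · intro x hx
        obtain ⟨v, hv⟩ := h.mem_range (Subgroup.mem_centralizer_singleton_iff.1 (Subgroup.mem_subgroupOf.1 hx))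
        obtain ⟨a, ha⟩ := tV_split v
        have hmem : h.ι (tV a * v) ∈ N := hLN _ (h.comm _)
        have : x = ⟨e a, hEN ⟨a, rfl⟩⟩ * ⟨h.ι (tV a * v), hmem⟩ := Subtype.ext (by
          show (x : G) = e a * h.ι (tV a * v)
          rw [map_mul, ← mul_assoc, e_mul, (x8 a 0 0).1, e0, one_mul, hv])
        rw [this]
        exact mul_mem (Subgroup.mem_sup_left (Subgroup.mem_subgroupOf.2 ⟨a, rfl⟩))
          (Subgroup.mem_sup_right (Subgroup.mem_subgroupOf.2 ⟨_, ha, rfl⟩)))
  -- the action on the cosets of the complement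
  let el : Fin 8 → K := fun a => ⟨⟨e a, hEN ⟨a, rfl⟩⟩, Subgroup.mem_subgroupOf.2 ⟨a, rfl⟩⟩
  have elb : Function.Bijective el := by
    refine ⟨fun a b hab => einj (congrArg (fun x : K => ((x : N) : G)) hab), fun x => ?_⟩
    obtain ⟨a, ha⟩ := Subgroup.mem_subgroupOf.1 x.2
    exact ⟨a, Subtype.ext (Subtype.ext ha)⟩
  let ρ : Fin 8 → N ⧸ H := fun a => ((el a : N) : N ⧸ H)
  have hρ : Function.Bijective ρ := by
    refine ⟨fun a b hab => elb.1 ?_, fun q => ?_⟩
    · have hm : (el a : N)⁻¹ * (el b : N) ∈ H := QuotientGroup.eq.1 hab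
      have hm' : (el a : N)⁻¹ * (el b : N) ∈ K := mul_mem (inv_mem (el a).2) (el b).2
      exact Subtype.ext (inv_mul_eq_one.1 (Subgroup.mem_bot.1 (hH.disjoint.le_bot ⟨hm', hm⟩)))
    · induction q using QuotientGroup.induction_on with
      | _ n =>
        obtain ⟨⟨k, hh⟩, hkh⟩ := hH.2 n
        obtain ⟨a, rfl⟩ := elb.2 k
        refine ⟨a, QuotientGroup.eq.2 ?_⟩
        rw [← hkh]
        show (el a : N)⁻¹ * ((el a : N) * (hh : N)) ∈ H
        rw [inv_mul_cancel_left]; exact hh.2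
  let eq8 := Equiv.ofBijective ρ hρ
  let κ : N →* Equiv.Perm (Fin 8) :=
    { toFun := fun n => (eq8.trans (MulAction.toPerm n)).trans eq8.symm
      map_one' := Equiv.ext fun a => by simp
      map_mul' := fun m n => Equiv.ext fun a => by simp [mul_smul] }
  have hκ : ∀ (n : N) a b, ((n * (el a : N) : N) : N ⧸ H) = ρ b → κ n a = b := by
    intro n a b hab
    show eq8.symm (n • ρ a) = b
    rw [Equiv.symm_apply_eq]
    show n • ((el a : N) : N ⧸ H) = _
    rw [MulAction.Quotient.smul_coe, smul_eq_mul]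
    exact hab
  have hκ' : ∀ (n : N) a, ((n * (el a : N) : N) : N ⧸ H) = ρ (κ n a) := fun n a => by
    show _ = eq8 (eq8.symm (n • ρ a))
    rw [Equiv.apply_symm_apply]
    show _ = n • ((el a : N) : N ⧸ H)
    rw [MulAction.Quotient.smul_coe, smul_eq_mul]
  have el_mul : ∀ a b, (el a : N) * (el b : N) = (el (a ^^^ b) : N) := fun a b => Subtype.ext (e_mul a b)
  have κ_el : ∀ c a, κ (el c : N) a = c ^^^ a := fun c a => hκ _ _ _ (by rw [el_mul])
  have el0 : (el 0 : N) = 1 := Subtype.ext e0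
  -- affinity
  have hlin : ∀ (n : N) a, ∃ b, n * (el a : N) * n⁻¹ = (el b : N) := fun n a => by
    obtain ⟨b, hb⟩ := (Subgroup.mem_normalizer_iff.1 n.2 (e a)).1 ⟨a, rfl⟩
    exact ⟨b, Subtype.ext hb.symm⟩
  choose l hl using hlin
  have hform : ∀ n a, κ n a = l n a ^^^ κ n 0 := by
    intro n a
    rw [← κ_el, ← hl]
    have := congrArg (fun p : Equiv.Perm (Fin 8) => p 0) (map_mul κ n (el a : N))
    have e2 : n * (el a : N) * n⁻¹ * n = n * (el a : N) := by group
    calc κ n a = κ n (κ (el a : N) 0) := by rw [κ_el, (x8 a 0 0).2.1]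
      _ = κ (n * (el a : N)) 0 := by rw [map_mul]; rfl
      _ = κ (n * (el a : N) * n⁻¹) (κ n 0) := by
        conv_lhs => rw [← e2, map_mul]
        rfl
  have l_add : ∀ n a b, l n (a ^^^ b) = l n a ^^^ l n b := fun n a b => elb.1 (Subtype.ext (by
    rw [← hl, ← el_mul, ← el_mul, ← hl, ← hl]; group))
  have haff : ∀ n, κ n ∈ agl := by
    intro n a b
    rw [hform n (a ^^^ b), hform n a, hform n b, l_add]
    have key : ∀ p q r : Fin 8, p ^^^ q ^^^ r = (p ^^^ r) ^^^ (q ^^^ r) ^^^ r := by decide +kernel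
    exact key _ _ _
  let κA : N →* agl := κ.codRestrict agl haff
  have hinj : Function.Injective κA := by
    refine (injective_iff_map_eq_one _).2 fun n hn => ?_
    have h1 : ∀ a, κ n a = a := fun a => DFunLike.congr_fun (congrArg Subtype.val hn) a
    have h2 : ∀ a, l n a = a := fun a => by
      have := hform n a
      rwa [h1, h1, (x8 (l n a) 0 0).2.1, eq_comm] at this
    have hcz : ∀ a, (n : G) * e a = e a * n := fun a => by
      have := congrArg Subtype.val (hl n a)
      rw [h2] at this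
      exact mul_inv_eq_iff_eq_mul.1 this
    obtain ⟨v, hv⟩ := h.mem_range (e1 ▸ hcz 1)
    obtain ⟨c, rfl⟩ := tV_self v fun a => (h.comm_iff _ _).1 (by rw [hv]; exact hcz a)
    have hn' : n = (el c : N) := Subtype.ext hv.symm
    have := h1 0
    rw [hn', κ_el, (x8 c 0 0).2.1] at this
    rw [hn', this, el0]
  haveI : Finite agl := Subtype.finite
  have hbij : Function.Bijective κA :=
    (Nat.bijective_iff_injective_and_card κA).2 ⟨hinj, le_antisymm
      (Nat.card_le_card_of_injective κA hinj) (hN ▸ card_agl_le)⟩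
  let Φ : N ≃* agl := MulEquiv.ofBijective κA hbij
  have hΦ : ∀ c, Φ (el c : N) = pA (tV c) := fun c => Subtype.ext (Equiv.ext fun x => by
    show κ (el c : N) x = V.act (tV c) x
    rw [κ_el, tV_spec.2.2.2.1, (x8 c x 0).2.2.2.1])
  have hsymm : ∀ c, ((Φ.symm (pA (tV c)) : N) : G) = e c := fun c => by
    rw [← hΦ, MulEquiv.symm_apply_apply]
  refine ⟨⟨N.subtype.comp Φ.symm.toMonoidHom, Subtype.val_injective.comp Φ.symm.injective, ?_, ?_⟩, hsymm⟩
  · show ((Φ.symm zA : N) : G) = z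
    rw [zA, ← tV_spec.2.1, hsymm, e1]
  · intro x hx
    obtain ⟨v, hv⟩ := cent_zA (Φ ⟨x, hLN x hx⟩) (by
      rw [zA, ← tV_spec.2.1, ← hΦ, ← map_mul, ← map_mul]
      congr 1
      exact Subtype.ext (by show x * e 1 = e 1 * x; rw [e1]; exact hx))
    refine ⟨v, ?_⟩
    show ((Φ.symm (pA v) : N) : G) = x
    rw [hv, MulEquiv.symm_apply_apply]

end Cfsg.Agent.Cent32
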