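import Cfsg.Agent.Cent32.Base

/-!
Normal forms for the centralizer of an involution with extraspecial two-core of order 32 and
quotient symmetric of degree three.
-/

set_option autoImplicit false
set_option maxRecDepth 8000

namespace Cfsg.Agent.Cent32

open QuaternionGroup

universe u

variable {G : Type u} [Group G]

/-- An element of order four, spanning with its conjugate a quaternion group. -/
structure Good (z x i : G) (Q : Subgroup G) : Prop where
  mem : i ∈ Q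
  sq : i * i = z
  cyc : x * (x * i * x⁻¹) * x⁻¹ = (i * (x * i * x⁻¹))⁻¹

/-- The elements commuting with a quaternion group. -/
def InS (x i q : G) : Prop := q * i = i * q ∧ q * (x * i * x⁻¹) = x * i * x⁻¹ * q

theorem theta_fin : ∀ p : Q8 × Q8, (p * (qθ (qθ p.1), qθ (qθ p.2)) * (qθ p.1, qθ p.2) = 1 ∨
      p * (qθ (qθ p.1), qθ (qθ p.2)) * (qθ p.1, qθ p.2) = (a 2, a 2)) →
    (p * p = (a 2, 1) ∨ p * p = (1, a 2)) →
    ∃ m : Fin 3, (p = (qθ.toEquiv^[m.1] (a 3), 1) ∨ p = (qθ.toEquiv^[m.1] (a 3) * a 2, a 2)) ∨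
      (p = (1, qθ.toEquiv^[m.1] (a 3)) ∨ p = (a 2, qθ.toEquiv^[m.1] (a 3) * a 2)) := by
  decide +kernel

theorem theta_apart : ∀ m : Fin 3,
    (qθ.toEquiv^[m.1] (a 3 : Q8), (1 : Q8)) ≠ (1, a 1) ∧
      (qθ.toEquiv^[m.1] (a 3 : Q8), (1 : Q8)) * (a 2, a 2) ≠ (1, a 1) := by
  decide +kernel

theorem q8_center : ∀ u : Q8, u * a 1 = a 1 * u → u * xa 0 = xa 0 * u → u = 1 ∨ u = a 2 := by
  decide +kernel

theorem q8_sq : ∀ u : Q8, u ≠ 1 → u = a 2 ∨ u * u = a 2 := by decide +kernel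

theorem kernel_two : ∀ u v : Q8, (u = 1 ∨ u = a 2) → (v = 1 ∨ v = a 2) →
    (u, v) = 1 ∨ (u, v) = (a 2, a 2) ∨ (u, v) = (a 2, 1) ∨ (u, v) = (1, a 2) := by decide

namespace Base

variable {z x y : G} {Q : Subgroup G} (b : Base z Q x y)
include b

theorem zz : z * z = 1 := Invol.mul_self_eq_one b.hz

theorem z1 : z ≠ 1 := Invol.ne_one b.hz

theorem conjx {q : G} (hq : q ∈ Q) : x * q * x⁻¹ ∈ Q := b.normal x b.xz q hq

theorem conj_z : x * z * x⁻¹ = z := mul_inv_eq_iff_eq_mul.2 b.xz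

theorem pow_four {i : G} (h : Good z x i Q) : i ^ 4 = 1 := by
  rw [show (4 : ℕ) = 2 + 2 from rfl, pow_add, pow_two, h.sq, b.zz]

theorem sq_conj {i : G} (h : Good z x i Q) : x * i * x⁻¹ * (x * i * x⁻¹) = i * i := by
  rw [show x * i * x⁻¹ * (x * i * x⁻¹) = x * (i * i) * x⁻¹ by group, h.sq, b.conj_z]

theorem inv_conj {i : G} (h : Good z x i Q) : x * i * x⁻¹ * i * (x * i * x⁻¹)⁻¹ = i⁻¹ := by
  set j := x * i * x⁻¹
  have hjj : j * j = z := (b.sq_conj h).trans h.sq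
  rcases b.comm j (b.conjx h.mem) i h.mem with e | e
  · exfalso
    have hk : x * j * x⁻¹ * (x * j * x⁻¹) = z := by
      rw [show x * j * x⁻¹ * (x * j * x⁻¹) = x * (j * j) * x⁻¹ by group, hjj, b.conj_z]
    rw [h.cyc, show (i * j)⁻¹ * (i * j)⁻¹ = (i * (j * i) * j)⁻¹ by group, e,
      show i * (i * j) * j = (i * i) * (j * j) by group, h.sq, hjj, b.zz, inv_one] at hk
    exact b.z1 hk.symm
  · have h3 : z * i = i⁻¹ := by
      refine eq_inv_of_mul_eq_one_left ?_
      rw [mul_assoc, h.sq, b.zz]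
    rw [e, show z * (i * j) * j⁻¹ = z * i by group, h3]

theorem good_conj {i : G} (h : Good z x i Q) : Good z x (x * i * x⁻¹) Q where
  mem := b.conjx h.mem
  sq := (b.sq_conj h).trans h.sq
  cyc := by
    have e := congrArg (fun g => x * g * x⁻¹) h.cyc
    rw [e]; simp only [mul_inv_rev, inv_inv, mul_assoc, inv_mul_cancel_left]

theorem exists_good {i : G} (hi : i ∈ Q) (h2 : i * i = z) :
    ∃ i', (i' = i ∨ i' = i * z) ∧ Good z x i' Q := by
  set j := x * i * x⁻¹ with hj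
  set k := x * j * x⁻¹ with hk
  set c := i * j * k with hc
  have hjQ := b.conjx hi
  have hkQ := b.conjx hjQ
  have hcQ : c ∈ Q := mul_mem (mul_mem hi hjQ) hkQ
  have hx3 : x * k * x⁻¹ = i := by
    rw [hk, hj, show x * (x * (x * i * x⁻¹) * x⁻¹) * x⁻¹ = x ^ 3 * i * (x ^ 3)⁻¹ by
      simp only [pow_succ, pow_zero, one_mul, mul_inv_rev, mul_assoc], b.x3]
    group
  have hxc : x * c * x⁻¹ = i⁻¹ * c * i := by
    rw [hc, show x * (i * j * k) * x⁻¹ = (x * i * x⁻¹) * (x * j * x⁻¹) * (x * k * x⁻¹) by group,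
      hx3, ← hj, ← hk]
    group
  have hfix : c * x = x * c := by
    rcases b.comm c hcQ i hi with e | e
    · refine (mul_inv_eq_iff_eq_mul.1 ?_).symm
      rw [hxc, mul_assoc, e, inv_mul_cancel_left]
    · exfalso
      have h1 : x * c * x⁻¹ = z * c := by
        rw [hxc, mul_assoc, e, ← mul_assoc, ← mul_assoc,
          show i⁻¹ * z = z * i⁻¹ from (show Commute i z from b.le i hi).inv_left.eq,
          inv_mul_cancel_right]
      have h2 : x ^ 3 * c * (x ^ 3)⁻¹ = z * c := by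
        rw [show x ^ 3 * c * (x ^ 3)⁻¹ = x * (x * (x * c * x⁻¹) * x⁻¹) * x⁻¹ by
          simp only [pow_succ, pow_zero, one_mul, mul_inv_rev, mul_assoc], h1,
          show x * (z * c) * x⁻¹ = (x * z * x⁻¹) * (x * c * x⁻¹) by group, b.conj_z, h1,
          ← mul_assoc z z, b.zz, one_mul, h1]
      rw [b.x3, one_mul, inv_one, mul_one] at h2
      exact b.z1 (mul_eq_right.1 h2.symm)
  rcases b.fix c hcQ hfix with e | e
  · refine ⟨i, Or.inl rfl, hi, h2, ?_⟩
    rw [eq_inv_iff_mul_eq_one, ← hj, ← hk]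
    exact mul_eq_one_comm.1 (show i * j * k = 1 from e)
  · refine ⟨i * z, Or.inr rfl, mul_mem hi b.z_mem, ?_, ?_⟩
    · rw [show i * z * (i * z) = i * (z * i) * z by group, ← b.le i hi, ← mul_assoc, h2, b.zz,
        one_mul]
    · have hjz : x * (i * z) * x⁻¹ = j * z := by
        rw [show x * (i * z) * x⁻¹ = (x * i * x⁻¹) * (x * z * x⁻¹) by group, b.conj_z]
      rw [eq_inv_iff_mul_eq_one, hjz,
        show x * (j * z) * x⁻¹ = (x * j * x⁻¹) * (x * z * x⁻¹) by group, b.conj_z, ← hk]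
      refine mul_eq_one_comm.1 ?_
      rw [show i * z * (j * z) = i * (z * j) * z by group, ← b.le j hjQ,
        show i * (j * z) * z * (k * z) = i * j * (z * z) * k * z by group, b.zz, mul_one, ← hc, e, b.zz]

theorem gens0 {i₁ i₂ : G} (h1 : Good z x i₁ Q) (h2 : Good z x i₂ Q) (hS : InS x i₁ i₂) :
    Gens0 i₁ i₂ x where
  pow₁ := b.pow_four h1
  pow₂ := b.pow_four h2
  sq₁ := b.sq_conj h1
  sq₂ := b.sq_conj h2
  inv₁ := b.inv_conj h1
  inv₂ := b.inv_conj h2
  cyc₁ := h1.cyc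
  cyc₂ := h2.cyc
  comm := by
    refine ⟨hS.1.symm, ?_⟩
    -- `i₁` is a word in its two conjugates
    have hi : i₁ = (x * (x * i₁ * x⁻¹) * x⁻¹)⁻¹ * (x * i₁ * x⁻¹)⁻¹ := by
      rw [h1.cyc]; group
    have c1 : Commute (x * i₂ * x⁻¹) (x * i₁ * x⁻¹) := (show Commute i₂ i₁ from hS.1).conj x
    have c2 : Commute (x * i₂ * x⁻¹) (x * (x * i₁ * x⁻¹) * x⁻¹) :=
      (show Commute i₂ (x * i₁ * x⁻¹) from hS.2).conj x
    rw [hi]
    exact ((c2.inv_right.mul_right c1.inv_right).symm).eq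
  x3 := b.x3

theorem inS_conj {i q : G} (h : Good z x i Q) (hq : InS x i q) : InS x i (x * q * x⁻¹) := by
  have c1 : Commute (x * q * x⁻¹) (x * i * x⁻¹) := (show Commute q i from hq.1).conj x
  have c2 : Commute (x * q * x⁻¹) (x * (x * i * x⁻¹) * x⁻¹) :=
    (show Commute q (x * i * x⁻¹) from hq.2).conj x
  refine ⟨?_, c1.eq⟩
  rw [h.cyc] at c2
  have e := (Commute.inv_right_iff.1 c2).mul_right c1.inv_right
  rwa [mul_inv_cancel_right] at e

theorem adjust {i q : G} (h : Good z x i Q) (hq : q ∈ Q) :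
    ∃ p, p ∈ Q ∧ (p = 1 ∨ p = i ∨ p = x * i * x⁻¹ ∨ p = i * (x * i * x⁻¹)) ∧ InS x i (q * p) := by
  set j := x * i * x⁻¹
  have hji : j * i = z * (i * j) := by
    have e := b.inv_conj h
    have hz : z * i = i⁻¹ := by
      refine eq_inv_of_mul_eq_one_left ?_
      rw [mul_assoc, h.sq, b.zz]
    calc j * i = (j * i * j⁻¹) * j := by group
      _ = z * (i * j) := by rw [e, ← hz, mul_assoc]
  have hjQ := b.conjx h.mem
  have zc : ∀ w ∈ Q, w * z = z * w := b.le
  have flip : ∀ a w u : G, a ∈ Q → w ∈ Q → a * u = u * a → w * u = z * (u * w) →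
      a * w * u = z * (u * (a * w)) := by
    intro a w u ha hw e1 e2
    rw [mul_assoc, e2, ← mul_assoc, zc a ha, mul_assoc, ← mul_assoc a u w, e1, mul_assoc]
  have flip2 : ∀ a w u : G, a ∈ Q → w ∈ Q → a * u = z * (u * a) → w * u = z * (u * w) →
      a * w * u = u * (a * w) := by
    intro a w u ha hw e1 e2
    rw [mul_assoc, e2, ← mul_assoc, zc a ha, mul_assoc, ← mul_assoc a u w, e1,
      show z * (z * (u * a) * w) = (z * z) * (u * (a * w)) by group, b.zz, one_mul]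
  have flip3 : ∀ a w u : G, a * u = u * a → w * u = u * w → a * w * u = u * (a * w) := fun a w u e1 e2 =>
    ((show Commute a u from e1).mul_left (show Commute w u from e2)).eq
  have flip4 : ∀ a w u : G, a ∈ Q → a * u = z * (u * a) → w * u = u * w →
      a * w * u = z * (u * (a * w)) := by
    intro a w u ha e1 e2
    rw [mul_assoc, e2, ← mul_assoc, e1]
    group
  have hij : i * j = z * (j * i) := by rw [hji, ← mul_assoc z z, b.zz, one_mul]
  rcases b.comm q hq i h.mem with e1 | e1 <;> rcases b.comm q hq j hjQ with e2 | e2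
  · exact ⟨1, one_mem _, Or.inl rfl, by rw [mul_one]; exact ⟨e1, e2⟩⟩
  · exact ⟨i, h.mem, Or.inr (Or.inl rfl), flip3 q i i e1 rfl, flip2 q i j hq h.mem e2 hij⟩
  · exact ⟨j, hjQ, Or.inr (Or.inr (Or.inl rfl)), flip2 q j i hq hjQ e1 hji, flip3 q j j e2 rfl⟩
  · refine ⟨i * j, mul_mem h.mem hjQ, Or.inr (Or.inr (Or.inr rfl)), ?_, ?_⟩
    · exact flip2 q (i * j) i hq (mul_mem h.mem hjQ) e1 (flip i j i h.mem hjQ rfl hji)
    · exact flip2 q (i * j) j hq (mul_mem h.mem hjQ) e2 (flip4 i j j h.mem hij rfl)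

theorem exists_pair [Finite G] : ∃ i₁ i₂, Good z x i₁ Q ∧ Good z x i₂ Q ∧ InS x i₁ i₂ := by
  classical
  obtain ⟨i, hi, hi2⟩ : ∃ i ∈ Q, i * i = z := by
    by_contra hne
    push_neg at hne
    have h1 : ∀ a ∈ Q, a * a = 1 := fun a ha => (b.sq a ha).resolve_right (hne a ha)
    have hall : ∀ a ∈ Q, a = 1 ∨ a = z := fun a ha => b.central a ha fun e he => by
      have h3 := h1 _ (mul_mem he ha)
      calc e * a = (e * a)⁻¹ := eq_inv_of_mul_eq_one_left h3
        _ = a⁻¹ * e⁻¹ := mul_inv_rev _ _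
        _ = a * e := by rw [inv_eq_of_mul_eq_one_right (h1 a ha), inv_eq_of_mul_eq_one_right (h1 e he)]
    letI := Fintype.ofFinite Q
    have hle : Nat.card Q ≤ ({1, z} : Finset G).card := by
      rw [← Nat.card_eq_finsetCard]
      refine Nat.card_le_card_of_injective (fun q : Q => ⟨q.1, by
        rcases hall q.1 q.2 with e | e <;> simp [e]⟩) fun a c e => Subtype.ext (by simpa using e)
    have h2 : ({1, z} : Finset G).card ≤ 2 := Finset.card_le_two
    rw [b.card] at hle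
    omega
  obtain ⟨i₁, -, h1⟩ := b.exists_good hi hi2
  set i := i₁
  set j := x * i * x⁻¹
  have hjQ := b.conjx h1.mem
  -- an element outside the first quaternion group
  obtain ⟨d, hd, hdS, hd1, hd2⟩ : ∃ d ∈ Q, InS x i d ∧ d ≠ 1 ∧ d ≠ z := by
    by_contra hne
    push_neg at hne
    let T : Finset G := ({1, i, j, i * j} : Finset G).image (·⁻¹) ∪
      ({1, i, j, i * j} : Finset G).image (fun p => z * p⁻¹)
    have hT : T.card ≤ 8 := by
      refine (Finset.card_union_le _ _).trans ?_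
      have h4 : ({1, i, j, i * j} : Finset G).card ≤ 4 := Finset.card_le_four
      have e1 := Finset.card_image_le (s := ({1, i, j, i * j} : Finset G)) (f := (·⁻¹))
      have e2 := Finset.card_image_le (s := ({1, i, j, i * j} : Finset G)) (f := fun p => z * p⁻¹)
      omega
    have hle : Nat.card Q ≤ T.card := by
      rw [← Nat.card_eq_finsetCard]
      refine Nat.card_le_card_of_injective (fun q : Q => (⟨q.1, ?_⟩ : T))
        fun a c e => Subtype.ext (by simpa using e)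
      obtain ⟨p, hp, hp4, hS⟩ := b.adjust h1 q.2
      have hp' : p ∈ ({1, i, j, i * j} : Finset G) := by simpa using hp4
      by_cases e : (q.1 : G) * p = 1
      · refine Finset.mem_union_left _ (Finset.mem_image.2 ⟨p, hp', ?_⟩)
        rw [eq_inv_of_mul_eq_one_left e]
      · refine Finset.mem_union_right _ (Finset.mem_image.2 ⟨p, hp', ?_⟩)
        rw [← hne _ (mul_mem q.2 hp) hS e]; group
    rw [b.card] at hle
    omega
  obtain ⟨q, hq, hqd⟩ : ∃ q ∈ Q, q * d ≠ d * q := by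
    by_contra hne
    push_neg at hne
    exact (b.central d hd hne).elim hd1 hd2
  obtain ⟨p, hp, hp4, hS⟩ := b.adjust h1 hq
  have hpd : p * d = d * p := by
    rcases hp4 with rfl | rfl | rfl | rfl
    · simp
    · exact hdS.1.symm
    · exact hdS.2.symm
    · exact ((show Commute i d from hdS.1.symm).mul_left (show Commute j d from hdS.2.symm)).eq
  have hed : q * p * d = z * (d * (q * p)) := by
    refine (b.comm _ (mul_mem hq hp) d hd).resolve_left fun e => hqd ?_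
    refine mul_right_cancel (b := p) ?_
    calc q * d * p = q * (p * d) := by rw [hpd, mul_assoc]
      _ = d * q * p := by rw [← mul_assoc, e, mul_assoc]
  obtain ⟨w, hw, hwS, hw2⟩ : ∃ w ∈ Q, InS x i w ∧ w * w = z := by
    rcases b.sq d hd with e1 | e1
    · rcases b.sq _ (mul_mem hq hp) with e2 | e2
      · refine ⟨d * (q * p), mul_mem hd (mul_mem hq hp),
          ⟨((show Commute d i from hdS.1).mul_left (show Commute (q * p) i from hS.1)).eq,
           ((show Commute d j from hdS.2).mul_left (show Commute (q * p) j from hS.2)).eq⟩, ?_⟩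
        calc d * (q * p) * (d * (q * p)) = d * ((q * p * d) * (q * p)) := by group
          _ = (d * z) * d * ((q * p) * (q * p)) := by rw [hed]; group
          _ = z * (d * d) := by rw [b.le d hd, e2, mul_one, mul_assoc]
          _ = z := by rw [e1, mul_one]
      · exact ⟨_, mul_mem hq hp, hS, e2⟩
    · exact ⟨d, hd, hdS, e1⟩
  obtain ⟨i₂, hi₂, h2⟩ := b.exists_good hw hw2
  refine ⟨i, i₂, h1, h2, ?_⟩
  rcases hi₂ with rfl | rfl
  · exact hwS
  · exact ⟨((show Commute w i from hwS.1).mul_left (show Commute z i from (b.le i h1.mem).symm)).eq,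
      ((show Commute w j from hwS.2).mul_left (show Commute z j from (b.le j hjQ).symm)).eq⟩

variable {i₁ i₂ : G}

theorem hQ_facts [Finite G] (h1 : Good z x i₁ Q) (h2 : Good z x i₂ Q) (g : Gens0 i₁ i₂ x) :
    g.hQ (a 2, 1) = z ∧ g.hQ (1, a 2) = z ∧
      (∀ p, g.hQ p = 1 → p = 1 ∨ p = (a 2, a 2)) ∧ ∀ q, q ∈ Q ↔ ∃ p, g.hQ p = q := by
  classical
  have e1 : g.h₁ (a 2) = z := by rw [show (a 2 : Q8) = a 1 * a 1 by decide, map_mul, g.h₁_a, h1.sq]
  have e2 : g.h₂ (a 2) = z := by rw [show (a 2 : Q8) = a 1 * a 1 by decide, map_mul, g.h₂_a, h2.sq]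
  have inj : ∀ f : Q8 →* G, f (a 2) = z → ∀ u, f u = 1 → u = 1 := by
    intro f hf u hu
    by_contra hu1
    rcases q8_sq u hu1 with e | e
    · rw [e, hf] at hu; exact b.z1 hu
    · have := congrArg f e
      rw [map_mul, hu, one_mul, hf] at this
      exact b.z1 this.symm
  have hker : ∀ p, g.hQ p = 1 → p = 1 ∨ p = (a 2, a 2) := by
    rintro ⟨u, v⟩ hp
    rw [g.hQ_apply] at hp
    have hu : u = 1 ∨ u = a 2 := by
      have hu' : g.h₁ u = (g.h₂ v)⁻¹ := eq_inv_of_mul_eq_one_left hp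
      have hc : ∀ w, Commute (g.h₁ u) (g.h₁ w) := fun w => by
        rw [hu']; exact (g.h12 w v).symm.inv_left
      refine q8_center u ?_ ?_
      all_goals
        refine mul_inv_eq_one.1 (inj _ e1 _ ?_)
        rw [map_mul, map_inv, map_mul, map_mul, (hc _).eq, mul_inv_cancel]
    have hv : v = 1 ∨ v = a 2 := by
      have hv' : g.h₂ v = (g.h₁ u)⁻¹ := eq_inv_of_mul_eq_one_right hp
      have hc : ∀ w, Commute (g.h₂ v) (g.h₂ w) := fun w => by
        rw [hv']; exact (g.h12 u w).inv_left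
      refine q8_center v ?_ ?_
      all_goals
        refine mul_inv_eq_one.1 (inj _ e2 _ ?_)
        rw [map_mul, map_inv, map_mul, map_mul, (hc _).eq, mul_inv_cancel]
    rcases kernel_two u v hu hv with e | e | e | e
    · exact Or.inl e
    · exact Or.inr e
    · simp only [Prod.mk.injEq] at e
      rw [e.1, e.2, e1, map_one, mul_one] at hp
      exact absurd hp b.z1
    · simp only [Prod.mk.injEq] at e
      rw [e.1, e.2, e2, map_one, one_mul] at hp
      exact absurd hp b.z1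
  refine ⟨by rw [g.hQ_apply, e1, map_one, mul_one], by rw [g.hQ_apply, e2, map_one, one_mul], hker, ?_⟩
  have hle : g.hQ.range ≤ Q := by
    have hgen : ∀ w : Q8, ∃ k : Fin 4, w = (a 1) ^ k.1 ∨ w = xa 0 * (a 1) ^ k.1 := by decide
    rintro _ ⟨⟨u, v⟩, rfl⟩
    rw [g.hQ_apply]
    refine mul_mem ?_ ?_
    · obtain ⟨k, rfl | rfl⟩ := hgen u <;> simp only [map_mul, map_pow, g.h₁_a, g.h₁_xa]
      exacts [pow_mem h1.mem _, mul_mem (b.conjx h1.mem) (pow_mem h1.mem _)]
    · obtain ⟨k, rfl | rfl⟩ := hgen v <;> simp only [map_mul, map_pow, g.h₂_a, g.h₂_xa]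
      exacts [pow_mem h2.mem _, mul_mem (b.conjx h2.mem) (pow_mem h2.mem _)]
  have heq : g.hQ.range = Q := by
    refine Subgroup.eq_of_le_of_card_ge hle ?_
    have hk : Nat.card g.hQ.ker ≤ 2 := by
      have hinj : Function.Injective fun p : g.hQ.ker => decide ((p : Q8 × Q8) = 1) := by
        intro p q e
        refine Subtype.ext ?_
        rcases hker p.1 p.2 with hp | hp <;> rcases hker q.1 q.2 with hq | hq <;>
          simp only [hp, hq] at e ⊢ <;> revert e <;> decide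
      calc Nat.card g.hQ.ker ≤ Nat.card Bool := Nat.card_le_card_of_injective _ hinj
        _ = 2 := by simp
    have hd : Nat.card g.hQ.ker * Nat.card g.hQ.range = 64 := by
      rw [← Subgroup.index_ker, Subgroup.card_mul_index]
      simp [Nat.card_prod, QuaternionGroup.card, Nat.card_eq_fintype_card]
    rw [b.card]
    by_contra hlt
    have hmul := Nat.mul_le_mul hk (Nat.le_of_lt (Nat.lt_of_not_le hlt))
    nlinarith
  intro q
  rw [← heq]
  exact MonoidHom.mem_range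

/-- Normal forms of the generators. -/
theorem exists_gens [Finite G] : ∃ σ i₁ i₂ y', Gens σ i₁ i₂ x y' ∧ y' * z = z * y' ∧
    (y' * y' = 1 ∨ y' * y' = z) ∧ Good z x i₁ Q ∧ Good z x i₂ Q ∧
    (∀ g : G, g * z = z * g → ∃ q ∈ Q, ∃ (i : Fin 3) (j : Fin 2), g = q * x ^ i.1 * y' ^ j.1) := by
  classical
  obtain ⟨i₁, i₂, h1, h2, hS⟩ := b.exists_pair
  have g := b.gens0 h1 h2 hS
  obtain ⟨ez1, ez2, hker, hmem⟩ := b.hQ_facts h1 h2 g
  have hpow : ∀ (n : ℕ) (p : Q8 × Q8),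
      x ^ n * g.hQ p * (x ^ n)⁻¹ = g.hQ (qθ.toEquiv^[n] p.1, qθ.toEquiv^[n] p.2) := by
    intro n
    induction n with
    | zero => intro p; simp
    | succ k ih =>
      intro p
      rw [Function.iterate_succ_apply', Function.iterate_succ_apply', pow_succ',
        show x * x ^ k * g.hQ p * (x * x ^ k)⁻¹ = x * (x ^ k * g.hQ p * (x ^ k)⁻¹) * x⁻¹ by group,
        ih p, g.theta]
      rfl
  have hx2 : x⁻¹ = x ^ 2 := inv_eq_of_mul_eq_one_right (by rw [← pow_succ', b.x3])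
  have hyy : y * y * z = z * (y * y) := by rcases b.yy with e | e <;> rw [e]; simp
  -- the image of a generator under `y`
  have image : ∀ w : G, ∀ hw : Good z x w Q, ∃ m : Fin 3,
      y * w * y⁻¹ = x ^ m.1 * i₁⁻¹ * (x ^ m.1)⁻¹ ∨ y * w * y⁻¹ = x ^ m.1 * i₂⁻¹ * (x ^ m.1)⁻¹ := by
    intro w hw
    obtain ⟨p, hp⟩ := (hmem _).1 (b.normal y b.yz w hw.mem)
    have hθ : g.hQ (qθ p.1, qθ p.2) = x * (y * w * y⁻¹) * x⁻¹ := by rw [← hp, g.theta]
    have hθ2 : g.hQ (qθ (qθ p.1), qθ (qθ p.2)) = x * (x * (y * w * y⁻¹) * x⁻¹) * x⁻¹ := by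
      rw [← hθ, g.theta]
    have hyx : y⁻¹ * x * y = x⁻¹ := by
      calc y⁻¹ * x * y = (y⁻¹ * (y * x * y⁻¹) * y)⁻¹ := by rw [b.yx]; group
        _ = x⁻¹ := by group
    have hyx' : ∀ u : G, x * (y * u * y⁻¹) * x⁻¹ = y * (x⁻¹ * u * x) * y⁻¹ := by
      intro u
      calc x * (y * u * y⁻¹) * x⁻¹ = y * ((y⁻¹ * x * y) * u * (y⁻¹ * x * y)⁻¹) * y⁻¹ := by group
        _ = y * (x⁻¹ * u * x) * y⁻¹ := by rw [hyx, inv_inv]
    have hcyc : w * (x * w * x⁻¹) * (x * (x * w * x⁻¹) * x⁻¹) = 1 := by rw [hw.cyc, mul_inv_cancel]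
    have e1 : g.hQ (p * (qθ (qθ p.1), qθ (qθ p.2)) * (qθ p.1, qθ p.2)) = 1 := by
      rw [map_mul, map_mul, hp, hθ2, hθ, hyx', hyx']
      calc y * w * y⁻¹ * (y * (x⁻¹ * (x⁻¹ * w * x) * x) * y⁻¹) * (y * (x⁻¹ * w * x) * y⁻¹)
          = y * (w * (x⁻¹ * (x⁻¹ * w * x) * x) * (x⁻¹ * w * x)) * y⁻¹ := by group
        _ = y * (w * (x * w * x⁻¹) * (x * (x * w * x⁻¹) * x⁻¹)) * y⁻¹ := by
          have ea : x⁻¹ * (x⁻¹ * w * x) * x = x * w * x⁻¹ := by
            rw [show x⁻¹ * (x⁻¹ * w * x) * x = (x * x)⁻¹ * w * (x * x) by group,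
              ← pow_two, ← hx2, inv_inv]
          have eb : x⁻¹ * w * x = x * (x * w * x⁻¹) * x⁻¹ := by
            rw [show x * (x * w * x⁻¹) * x⁻¹ = (x * x) * w * (x * x)⁻¹ by group,
              ← pow_two, ← hx2, inv_inv]
          rw [ea, eb]
        _ = 1 := by rw [hcyc]; group
    have e2 : g.hQ (p * p) = z := by
      rw [map_mul, hp, show y * w * y⁻¹ * (y * w * y⁻¹) = y * (w * w) * y⁻¹ by group, hw.sq, b.yz,
        mul_inv_cancel_right]
    have d1 := hker _ e1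
    have d2 : p * p = (a 2, 1) ∨ p * p = (1, a 2) := by
      have e3 : g.hQ (p * p * (a 2, 1)⁻¹) = 1 := by rw [map_mul, map_inv, e2, ez1, mul_inv_cancel]
      rcases hker _ e3 with e | e
      · exact Or.inl (mul_inv_eq_one.1 e)
      · right
        rw [mul_inv_eq_iff_eq_mul] at e
        rw [e]; decide
    have hk2 : g.hQ (a 2, a 2) = 1 := by
      rw [show ((a 2, a 2) : Q8 × Q8) = (a 2, 1) * (1, a 2) by decide, map_mul, ez1, ez2, b.zz]
    have ha3 : (a 3 : Q8) = (a 1)⁻¹ := by decide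
    have t1 : ∀ m : ℕ, g.hQ (qθ.toEquiv^[m] (a 3), 1) = x ^ m * i₁⁻¹ * (x ^ m)⁻¹ := by
      intro m
      have h0 : g.hQ (a 3, 1) = i₁⁻¹ := by rw [g.hQ_apply, map_one, mul_one, ha3, map_inv, g.h₁_a]
      rw [← h0, hpow m]
      congr 2
      exact (Function.iterate_fixed (map_one qθ) m).symm
    have t2 : ∀ m : ℕ, g.hQ (1, qθ.toEquiv^[m] (a 3)) = x ^ m * i₂⁻¹ * (x ^ m)⁻¹ := by
      intro m
      have h0 : g.hQ (1, a 3) = i₂⁻¹ := by rw [g.hQ_apply, map_one, one_mul, ha3, map_inv, g.h₂_a]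
      rw [← h0, hpow m]
      congr 2
      exact (Function.iterate_fixed (map_one qθ) m).symm
    obtain ⟨m, (e | e) | (e | e)⟩ := theta_fin p d1 d2
    · exact ⟨m, Or.inl (by rw [← hp, e, t1])⟩
    · refine ⟨m, Or.inl ?_⟩
      rw [← hp, e, show ((qθ.toEquiv^[m.1] (a 3) * a 2, a 2) : Q8 × Q8) =
        (qθ.toEquiv^[m.1] (a 3), 1) * (a 2, a 2) by simp, map_mul, t1, hk2, mul_one]
    · exact ⟨m, Or.inr (by rw [← hp, e, t2])⟩
    · refine ⟨m, Or.inr ?_⟩
      rw [← hp, e, show ((a 2, qθ.toEquiv^[m.1] (a 3) * a 2) : Q8 × Q8) =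
        (1, qθ.toEquiv^[m.1] (a 3)) * (a 2, a 2) by simp, map_mul, t2, hk2, mul_one]
  have hgoodpow : ∀ (n : ℕ), ∀ i, Good z x i Q → Good z x (x ^ n * i * (x ^ n)⁻¹) Q := by
    intro n
    induction n with
    | zero => intro i hi; simpa using hi
    | succ k ih =>
      intro i hi
      rw [show x ^ (k + 1) * i * (x ^ (k + 1))⁻¹ = x * (x ^ k * i * (x ^ k)⁻¹) * x⁻¹ by
        rw [pow_succ']; group]
      exact b.good_conj (ih i hi)
  have hSpow : ∀ n : ℕ, InS x i₁ (x ^ n * i₂ * (x ^ n)⁻¹) := by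
    intro n
    induction n with
    | zero => simpa using hS
    | succ k ih =>
      rw [show x ^ (k + 1) * i₂ * (x ^ (k + 1))⁻¹ = x * (x ^ k * i₂ * (x ^ k)⁻¹) * x⁻¹ by
        rw [pow_succ']; group]
      exact b.inS_conj h1 ih
  obtain ⟨m, e | e⟩ := image i₁ h1
  · -- the factors are fixed
    set k := 3 - m.1
    have hk : x ^ k * x ^ m.1 = 1 := by
      rw [← pow_add, show k + m.1 = 3 by have := m.2; omega, b.x3]
    set y' := x ^ k * y with hy'
    have hxk : x ^ k * x * (x ^ k)⁻¹ = x := by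
      rw [← pow_succ, pow_succ', mul_inv_cancel_right]
    have hyx' : y' * x * y'⁻¹ = x⁻¹ := by
      rw [hy', show x ^ k * y * x * (x ^ k * y)⁻¹ = x ^ k * (y * x * y⁻¹) * (x ^ k)⁻¹ by group, b.yx,
        show x ^ k * x⁻¹ * (x ^ k)⁻¹ = (x ^ k * x * (x ^ k)⁻¹)⁻¹ by group, hxk]
    have hy'y : y' * y' = y * y := by
      rw [hy', show x ^ k * y * (x ^ k * y) = x ^ k * (y * x ^ k * y⁻¹) * (y * y) by group,
        ← conj_pow, b.yx, inv_pow, mul_inv_cancel, one_mul]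
    have hy'z : y' * z = z * y' :=
      ((show Commute x z from b.xz).pow_left k |>.mul_left (show Commute y z from b.yz)).eq
    have hy1 : y' * i₁ * y'⁻¹ = i₁⁻¹ := by
      rw [hy', show x ^ k * y * i₁ * (x ^ k * y)⁻¹ = x ^ k * (y * i₁ * y⁻¹) * (x ^ k)⁻¹ by group, e,
        show x ^ k * (x ^ m.1 * i₁⁻¹ * (x ^ m.1)⁻¹) * (x ^ k)⁻¹ =
          (x ^ k * x ^ m.1) * i₁⁻¹ * (x ^ k * x ^ m.1)⁻¹ by group, hk]
      group
    have hpowy : ∀ n : ℕ, y' * x ^ n * y'⁻¹ = (x ^ n)⁻¹ := fun n => by rw [← conj_pow, hyx', inv_pow]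
    obtain ⟨m', e'⟩ := image i₂ h2
    have e2 : ∃ m2 : ℕ, y' * i₂ * y'⁻¹ = x ^ m2 * i₁⁻¹ * (x ^ m2)⁻¹ ∨
        y' * i₂ * y'⁻¹ = x ^ m2 * i₂⁻¹ * (x ^ m2)⁻¹ := by
      refine ⟨k + m'.1, ?_⟩
      rw [hy', show x ^ k * y * i₂ * (x ^ k * y)⁻¹ = x ^ k * (y * i₂ * y⁻¹) * (x ^ k)⁻¹ by group]
      rcases e' with e' | e' <;> rw [e', pow_add] <;> [left; right] <;> group
    obtain ⟨m2, e2 | e2⟩ := e2
    · exfalso
      have hi2 : i₂ = x ^ (2 * m2) * i₁ * (x ^ (2 * m2))⁻¹ := by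
        have e3 : i₂ = y'⁻¹ * (x ^ m2 * i₁⁻¹ * (x ^ m2)⁻¹) * y' := by rw [← e2]; group
        have hyi : y'⁻¹ * i₁⁻¹ * y' = i₁ := by
          calc y'⁻¹ * i₁⁻¹ * y' = y'⁻¹ * (y' * i₁ * y'⁻¹) * y' := by rw [hy1]
            _ = i₁ := by group
        have hyp : y'⁻¹ * x ^ m2 * y' = (x ^ m2)⁻¹ := by
          calc y'⁻¹ * x ^ m2 * y' = (y'⁻¹ * (y' * x ^ m2 * y'⁻¹) * y')⁻¹ := by rw [hpowy]; group
            _ = (x ^ m2)⁻¹ := by group
        have h2m : x ^ (2 * m2) = (x ^ m2)⁻¹ := eq_inv_of_mul_eq_one_left (by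
          rw [← pow_add, show 2 * m2 + m2 = 3 * m2 by ring, pow_mul, b.x3, one_pow])
        calc i₂ = (y'⁻¹ * x ^ m2 * y') * (y'⁻¹ * i₁⁻¹ * y') * (y'⁻¹ * x ^ m2 * y')⁻¹ := by
              rw [e3]; group
          _ = x ^ (2 * m2) * i₁ * (x ^ (2 * m2))⁻¹ := by rw [hyp, hyi, h2m]
      have e3 : g.hQ (qθ.toEquiv^[2 * m2] (a 1), 1) = g.hQ (1, a 1) := by
        rw [g.hQ_apply 1 (a 1), map_one g.h₁, one_mul, g.h₂_a]
        refine Eq.trans ?_ hi2.symm
        have h0 : g.hQ (a 1, 1) = i₁ := by rw [g.hQ_apply, map_one, mul_one, g.h₁_a]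
        refine Eq.trans ?_ (congrArg (fun w => x ^ (2 * m2) * w * (x ^ (2 * m2))⁻¹) h0)
        show _ = x ^ (2 * m2) * g.hQ (a 1, 1) * (x ^ (2 * m2))⁻¹
        rw [hpow (2 * m2)]
        congr 2
        exact (Function.iterate_fixed (map_one qθ) _).symm
      have e4 := hker ((qθ.toEquiv^[2 * m2] (a 1), 1) * (1, a 1)⁻¹) (by
        rw [map_mul, map_inv, e3, mul_inv_cancel])
      rcases e4 with e4 | e4
      · have := congrArg Prod.snd e4
        simp only [Prod.snd_mul, Prod.snd_inv, one_mul, Prod.snd_one] at this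
        exact absurd this (by decide)
      · have := congrArg Prod.snd e4
        simp only [Prod.snd_mul, Prod.snd_inv, one_mul] at this
        exact absurd this (by decide)
    · set n := 2 * m2
      refine ⟨false, i₁, x ^ n * i₂ * (x ^ n)⁻¹, y', ?_, hy'z, hy'y ▸ b.yy, h1, hgoodpow n _ h2, ?_⟩
      · exact
          { toGens0 := b.gens0 h1 (hgoodpow n _ h2) (hSpow n)
            yx := hyx'
            y₁ := by simpa using hy1
            y₂ := by
              simp only [Bool.false_eq_true, if_false]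
              rw [show y' * (x ^ n * i₂ * (x ^ n)⁻¹) * y'⁻¹ =
                (y' * x ^ n * y'⁻¹) * (y' * i₂ * y'⁻¹) * (y' * x ^ n * y'⁻¹)⁻¹ by group, hpowy, e2]
              have h4 : (x ^ n)⁻¹ * x ^ m2 = x ^ n := by
                rw [inv_mul_eq_iff_eq_mul, ← pow_add, show n + n = 3 * m2 + m2 by omega, pow_add,
                  pow_mul, b.x3, one_pow, one_mul]
              rw [show (x ^ n)⁻¹ * (x ^ m2 * i₂⁻¹ * (x ^ m2)⁻¹) * (x ^ n)⁻¹⁻¹ =
                ((x ^ n)⁻¹ * x ^ m2) * i₂⁻¹ * ((x ^ n)⁻¹ * x ^ m2)⁻¹ by group, h4]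
              group }
      · intro u hu
        obtain ⟨q, hq, i, j, rfl⟩ := b.cover u hu
        fin_cases j
        · exact ⟨q, hq, i, 0, by simp⟩
        · refine ⟨q, hq, ⟨(i.1 + m.1) % 3, Nat.mod_lt _ (by norm_num)⟩, 1, ?_⟩
          show q * x ^ i.1 * y ^ 1 = q * x ^ ((i.1 + m.1) % 3) * y' ^ 1
          rw [← pow_eq_pow_mod _ b.x3, pow_one, pow_one, hy', pow_add, mul_assoc q (x ^ i.1 * x ^ m.1),
            mul_assoc (x ^ i.1), ← mul_assoc (x ^ m.1), ← pow_add,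
            show m.1 + k = 3 by have := m.2; omega, b.x3, one_mul, mul_assoc]
  · -- the factors are interchanged
    refine ⟨true, i₁, x ^ m.1 * i₂ * (x ^ m.1)⁻¹, y, ?_, b.yz, b.yy, h1, hgoodpow _ _ h2, b.cover⟩
    exact
      { toGens0 := b.gens0 h1 (hgoodpow _ _ h2) (hSpow _)
        yx := b.yx
        y₁ := by simp only [if_true]; rw [e]; group
        y₂ := by
          simp only [if_true]
          have e1 : x ^ m.1 * i₂ * (x ^ m.1)⁻¹ = y * i₁⁻¹ * y⁻¹ := by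
            rw [show y * i₁⁻¹ * y⁻¹ = (y * i₁ * y⁻¹)⁻¹ by group, e]; group
          rw [e1, show y * (y * i₁⁻¹ * y⁻¹) * y⁻¹ = (y * y) * i₁⁻¹ * (y * y)⁻¹ by group]
          rcases b.yy with ey | ey <;> rw [ey]
          · group
          · rw [← (show Commute i₁ z from b.le _ h1.mem).inv_left.eq, mul_inv_cancel_right] }

end Base

end Cfsg.Agent.Cent32
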