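import Cfsg.Agent.Cent32.Seed
import Cfsg.Agent.Cent32.AgreeTab

/-!
The elements attached to ordered triples of points, built from each affine group.
-/

set_option autoImplicit false
set_option maxRecDepth 8000

namespace Cfsg.Agent.Cent32

universe u

variable {G : Type u} [Group G] {z : G}

theorem exists_pi {a b c : Fin 8} (h : Dist a b c) :
    ∃ π : agl, (π : Equiv.Perm (Fin 8)) 0 = a ∧ (π : Equiv.Perm (Fin 8)) 1 = b ∧ (π : Equiv.Perm (Fin 8)) 2 = c := by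
  obtain ⟨d, hd⟩ := exists_fourth a b c h
  obtain ⟨π, hπ⟩ := exists_aff hd
  exact ⟨π, hπ 0, hπ 1, hπ 2⟩

theorem dist_image (π : Equiv.Perm (Fin 8)) {a b c : Fin 8} (h : Dist a b c) : Dist (π a) (π b) (π c) :=
  ⟨fun e => h.1 (π.injective e), fun e => h.2.1 (π.injective e), fun e => h.2.2 (π.injective e)⟩

open Classical in
/-- The conjugate of `x` attached to a triple. -/
noncomputable def seedT (ρ : agl →* G) (x : G) (a b c : Fin 8) : G :=
  if h : Dist a b c then ρ (exists_pi h).choose * x * (ρ (exists_pi h).choose)⁻¹ else 1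

theorem agl_fix {π : agl} (h0 : (π : Equiv.Perm (Fin 8)) 0 = 0) (h1 : (π : Equiv.Perm (Fin 8)) 1 = 1)
    (h2 : (π : Equiv.Perm (Fin 8)) 2 = 2) : ∃ k l : Fin 2, π = pA (V.dB ^ k.1 * V.dC ^ l.1) := by
  have hz : π * zA = zA * π := by
    refine Subtype.ext (Equiv.ext fun x => ?_)
    show (π : Equiv.Perm (Fin 8)) (V.act V.zV x) = V.act V.zV ((π : Equiv.Perm (Fin 8)) x)
    rw [← tV_spec.2.1, tV_spec.2.2.2.1, tV_spec.2.2.2.1, π.2, h0, h1, (x8 _ 0 0).2.1]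
  obtain ⟨v, rfl⟩ := cent_zA π hz
  obtain ⟨k, l, rfl⟩ := V.plane_fix v h0 h1 h2
  exact ⟨k, l, rfl⟩

theorem seedT_eq {ρ : agl →* G} {x : G}
    (hρ : ∀ k l : Fin 2, ρ (pA (V.dB ^ k.1 * V.dC ^ l.1)) * x = x * ρ (pA (V.dB ^ k.1 * V.dC ^ l.1)))
    (π : agl) : seedT ρ x ((π : Equiv.Perm (Fin 8)) 0) ((π : Equiv.Perm (Fin 8)) 1) ((π : Equiv.Perm (Fin 8)) 2) =
      ρ π * x * (ρ π)⁻¹ := by
  have hd : Dist ((π : Equiv.Perm (Fin 8)) 0) ((π : Equiv.Perm (Fin 8)) 1) ((π : Equiv.Perm (Fin 8)) 2) :=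
    dist_image _ (by decide)
  rw [seedT, dif_pos hd]
  obtain ⟨e0, e1, e2⟩ := (exists_pi hd).choose_spec
  generalize (exists_pi hd).choose = σ at e0 e1 e2
  obtain ⟨k, l, he⟩ := agl_fix (π := π⁻¹ * σ)
    (by show (π : Equiv.Perm (Fin 8))⁻¹ ((σ : Equiv.Perm (Fin 8)) 0) = 0; rw [e0]; simp)
    (by show (π : Equiv.Perm (Fin 8))⁻¹ ((σ : Equiv.Perm (Fin 8)) 1) = 1; rw [e1]; simp)
    (by show (π : Equiv.Perm (Fin 8))⁻¹ ((σ : Equiv.Perm (Fin 8)) 2) = 2; rw [e2]; simp)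
  rw [show σ = π * (π⁻¹ * σ) by group, he, map_mul,
    show ρ π * ρ (pA (V.dB ^ k.1 * V.dC ^ l.1)) * x * (ρ π * ρ (pA (V.dB ^ k.1 * V.dC ^ l.1)))⁻¹ =
      ρ π * (ρ (pA (V.dB ^ k.1 * V.dC ^ l.1)) * x) * (ρ (pA (V.dB ^ k.1 * V.dC ^ l.1)))⁻¹ * (ρ π)⁻¹ by group,
    hρ]
  group

theorem seedT_map {ρ : agl →* G} {x : G}
    (hρ : ∀ k l : Fin 2, ρ (pA (V.dB ^ k.1 * V.dC ^ l.1)) * x = x * ρ (pA (V.dB ^ k.1 * V.dC ^ l.1)))
    (π : agl) {a b c : Fin 8} (h : Dist a b c) :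
    ρ π * seedT ρ x a b c * (ρ π)⁻¹ =
      seedT ρ x ((π : Equiv.Perm (Fin 8)) a) ((π : Equiv.Perm (Fin 8)) b) ((π : Equiv.Perm (Fin 8)) c) := by
  obtain ⟨σ, rfl, rfl, rfl⟩ := exists_pi h
  rw [seedT_eq hρ σ]
  refine Eq.trans ?_ (seedT_eq hρ (π * σ)).symm
  rw [map_mul]; group

namespace Seeded

variable (S : Seeded z)

/-- The element of a triple, from the first group. -/
noncomputable def T0 (a b c : Fin 8) : G := seedT S.A.ι S.x a b c

/-- The element of a triple, from the second group. -/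
noncomputable def T2 (a b c : Fin 8) : G := seedT S.B.ι S.x (tau b) (tau a) (tau c)

/-- The embedding of the model. -/
abbrev ι : V →* G := S.A.toV.ι

theorem hA0 (k l : Fin 2) : S.A.ι (pA (V.dB ^ k.1 * V.dC ^ l.1)) * S.x =
    S.x * S.A.ι (pA (V.dB ^ k.1 * V.dC ^ l.1)) := by
  have c1 : Commute (S.ι V.dB) S.x := (mul_inv_eq_iff_eq_mul.1 S.isX.hB).symm
  have c2 : Commute (S.ι V.dC) S.x := (mul_inv_eq_iff_eq_mul.1 S.isX.hC).symm
  show S.ι (V.dB ^ k.1 * V.dC ^ l.1) * S.x = S.x * S.ι (V.dB ^ k.1 * V.dC ^ l.1)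
  rw [map_mul, map_pow, map_pow]
  exact ((c1.pow_left _).mul_left (c2.pow_left _)).eq

theorem hB0 (k l : Fin 2) : S.B.ι (pA (V.dB ^ k.1 * V.dC ^ l.1)) * S.x =
    S.x * S.B.ι (pA (V.dB ^ k.1 * V.dC ^ l.1)) := by
  have key : ∀ k l : Fin 2, sigmaV (V.dB ^ k.1 * V.dC ^ l.1) = V.dB ^ k.1 * V.dC ^ l.1 := by decide +kernel
  rw [← key, S.agree]
  exact S.hA0 k l

theorem T0_map (π : agl) {a b c : Fin 8} (h : Dist a b c) :
    S.A.ι π * S.T0 a b c * (S.A.ι π)⁻¹ =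
      S.T0 ((π : Equiv.Perm (Fin 8)) a) ((π : Equiv.Perm (Fin 8)) b) ((π : Equiv.Perm (Fin 8)) c) :=
  seedT_map S.hA0 π h

theorem T2_map (π : agl) {a b c : Fin 8} (h : Dist a b c) :
    S.B.ι π * S.T2 a b c * (S.B.ι π)⁻¹ =
      S.T2 (tau ((π : Equiv.Perm (Fin 8)) (tau a))) (tau ((π : Equiv.Perm (Fin 8)) (tau b)))
        (tau ((π : Equiv.Perm (Fin 8)) (tau c))) := by
  rw [T2, T2, seedT_map S.hB0 π (tau_dist _ _ _ h)]
  simp [tau]

theorem T0_V (v : V) {a b c : Fin 8} (h : Dist a b c) :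
    S.ι v * S.T0 a b c * (S.ι v)⁻¹ = S.T0 (V.act v a) (V.act v b) (V.act v c) :=
  S.T0_map (pA v) h

theorem T2_V (v : V) {a b c : Fin 8} (h : Dist a b c) :
    S.ι v * S.T2 a b c * (S.ι v)⁻¹ = S.T2 (V.act v a) (V.act v b) (V.act v c) := by
  have := S.T2_map (pA (sigmaV v)) h
  rw [S.agree] at this
  show S.A.ι (pA v) * _ * (S.A.ι (pA v))⁻¹ = _
  rw [this, pA_apply, pA_apply, pA_apply, tau_conj, tau_conj, tau_conj]

theorem T0_base : S.T0 0 1 2 = S.x := (seedT_eq S.hA0 1).trans (by simp)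

theorem T2_base : S.T2 0 1 2 = S.x := (seedT_eq S.hB0 1).trans (by simp)

theorem g0_x : S.A.ι hA * S.x * (S.A.ι hA)⁻¹ = S.x := by rw [S.commA, mul_inv_cancel_right]

theorem g2_x : S.B.ι hA * S.x * (S.B.ι hA)⁻¹ = S.x := by rw [S.commB, mul_inv_cancel_right]

theorem T0_rot {a b c : Fin 8} (h : Dist a b c) : S.T0 b c a = S.T0 a b c := by
  obtain ⟨π, rfl, rfl, rfl⟩ := exists_pi h
  rw [← S.T0_map π (by decide : Dist 0 1 2), ← S.T0_map π (by decide : Dist 1 2 0)]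
  have : S.T0 1 2 0 = S.T0 0 1 2 := by
    have := S.T0_map hA (by decide : Dist 0 1 2)
    rw [S.T0_base, S.g0_x] at this
    rw [S.T0_base]
    exact this.symm
  rw [this]

theorem T2_rot {a b c : Fin 8} (h : Dist a b c) : S.T2 b c a = S.T2 a b c := by
  have base : S.T2 2 0 1 = S.T2 0 1 2 := by
    have := S.T2_map hA (by decide : Dist 0 1 2)
    rw [S.T2_base, S.g2_x] at this
    rw [S.T2_base]
    exact this.symm
  have base' : ∀ π : agl, S.T2 (tau ((π : Equiv.Perm (Fin 8)) (tau 2))) (tau ((π : Equiv.Perm (Fin 8)) (tau 0)))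
      (tau ((π : Equiv.Perm (Fin 8)) (tau 1))) = S.T2 (tau ((π : Equiv.Perm (Fin 8)) (tau 0)))
      (tau ((π : Equiv.Perm (Fin 8)) (tau 1))) (tau ((π : Equiv.Perm (Fin 8)) (tau 2))) := fun π => by
    rw [← S.T2_map π (by decide : Dist 2 0 1), ← S.T2_map π (by decide : Dist 0 1 2), base]
  obtain ⟨π, e1, e0, e2⟩ := exists_pi (tau_dist _ _ _ (⟨h.2.1, fun e => h.2.2 e.symm, fun e => h.1 e.symm⟩ : Dist b c a))
  have := base' π
  have t0 : tau 0 = 1 := by decide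
  have t1 : tau 1 = 0 := by decide
  have t2 : tau 2 = 2 := by decide
  rw [t0, t1, t2, e0, e1, e2] at this
  simp only [tau, Equiv.swap_apply_self] at this
  exact this.symm

theorem T0_swap {a b c : Fin 8} (h : Dist a b c) : S.T0 b a c = (S.T0 a b c)⁻¹ := by
  obtain ⟨π, rfl, rfl, rfl⟩ := exists_pi h
  rw [← S.T0_map π (by decide : Dist 0 1 2), ← S.T0_map π (by decide : Dist 1 0 2)]
  have : S.T0 1 0 2 = (S.T0 0 1 2)⁻¹ := by
    have := S.T0_V V.sV (by decide : Dist 0 1 2)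
    have p := V.points.2.1
    simp only [List.cons.injEq, and_true] at p
    rw [p.1, p.2.1, p.2.2, S.T0_base, S.invS] at this
    rw [S.T0_base]
    exact this.symm
  rw [this]; group

theorem T2_swap {a b c : Fin 8} (h : Dist a b c) : S.T2 b a c = (S.T2 a b c)⁻¹ := by
  have base : S.T2 1 0 2 = (S.T2 0 1 2)⁻¹ := by
    have := S.T2_V V.sV (by decide : Dist 0 1 2)
    have p := V.points.2.1
    simp only [List.cons.injEq, and_true] at p
    rw [p.1, p.2.1, p.2.2, S.T2_base, S.invS] at this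
    rw [S.T2_base]
    exact this.symm
  obtain ⟨π, e0, e1, e2⟩ := exists_pi (tau_dist _ _ _ h)
  have k1 := S.T2_map π (by decide : Dist 0 1 2)
  have k2 := S.T2_map π (by decide : Dist 1 0 2)
  have t0 : tau 0 = 1 := by decide
  have t1 : tau 1 = 0 := by decide
  have t2 : tau 2 = 2 := by decide
  rw [t0, t1, t2, e0, e1, e2] at k1 k2
  simp only [tau, Equiv.swap_apply_self] at k1 k2
  rw [← k1, ← k2, base]; group

theorem agree_pair {a b c : Fin 8} (h : Dist a b c) (hab : a ^^^ b = 1) : S.T0 a b c = S.T2 a b c := by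
  obtain ⟨v, rfl, rfl, rfl⟩ := V.orbit_A a b c hab h.2.2.symm h.2.1.symm
  rw [← S.T0_V v (by decide : Dist 0 1 2), ← S.T2_V v (by decide : Dist 0 1 2), S.T0_base, S.T2_base]

theorem T0_wxw : S.T0 4 5 6 = S.ι V.wV * S.x * (S.ι V.wV)⁻¹ := by
  have p := V.points.1
  simp only [List.cons.injEq, and_true] at p
  have := S.T0_V V.wV (by decide : Dist 0 1 2)
  rw [p.1, p.2.1, p.2.2, S.T0_base] at this
  exact this.symm

theorem T2_wxw : S.T2 4 5 6 = S.ι V.wV * S.x * (S.ι V.wV)⁻¹ := by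
  have p := V.points.1
  simp only [List.cons.injEq, and_true] at p
  have := S.T2_V V.wV (by decide : Dist 0 1 2)
  rw [p.1, p.2.1, p.2.2, S.T2_base] at this
  exact this.symm

theorem comm_x_wxw : Commute S.x (S.ι V.wV * S.x * (S.ι V.wV)⁻¹) := by
  have h := S.commA
  rw [S.relA, mul_assoc] at h
  exact (mul_left_cancel h).symm

end Seeded

end Cfsg.Agent.Cent32
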